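/-
Hermitian forms on finite-dimensional spaces over fields with an involution: the few facts needed
for tensor products of unitary spaces.
-/
import Mathlib

set_option autoImplicit false
set_option linter.unusedSectionVars false

namespace CfsgLib.MaxSub.TensorHerm

open Module

variable {F : Type*} [Field F]

/-- An involution with surjective norm and trace. -/
structure Sig (σ : F →+* F) : Prop where
  invol : ∀ a, σ (σ a) = a
  moved : ∃ η, σ η ≠ η
  norm : ∀ c, σ c = c → ∃ a, a * σ a = c
  trace : ∀ c, σ c = c → ∃ k, k + σ k = c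
  skew : ∃ l, l ≠ 0 ∧ l + σ l = 0

variable {σ : F →+* F}

namespace Sig

variable (S : Sig σ)
include S

theorem eq_zero {a : F} (h : σ a = 0) : a = 0 := by rw [← S.invol a, h, map_zero]

theorem trace_one : ∃ k, k + σ k = 1 := S.trace 1 (map_one σ)

theorem eq_zero_of_trace {a : F} (h : ∀ s, s * a + σ (s * a) = 0) : a = 0 := by
  by_contra ha
  obtain ⟨k, hk⟩ := S.trace_one
  have := h (k / a)
  rw [div_mul_cancel₀ _ ha, hk] at this
  exact one_ne_zero this

theorem norm_fix (a : F) : σ (a * σ a) = a * σ a := by rw [map_mul, S.invol, mul_comm]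

theorem trace_fix (a : F) : σ (a + σ a) = a + σ a := by rw [map_add, S.invol, add_comm]

end Sig

/-- A non-degenerate hermitian form, linear in the first argument. -/
structure HForm (σ : F →+* F) {U : Type*} [AddCommGroup U] [Module F U] (f : U → U → F) : Prop where
  add_left : ∀ x y z, f (x + y) z = f x z + f y z
  smul_left : ∀ (a : F) x z, f (a • x) z = a * f x z
  herm : ∀ x y, f y x = σ (f x y)
  nondeg : ∀ x, (∀ y, f x y = 0) → x = 0

namespace HForm

variable {U : Type*} [AddCommGroup U] [Module F U] {f : U → U → F} (H : HForm σ f)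
include H

/-- The functional of a vector. -/
def lin (z : U) : U →ₗ[F] F where
  toFun x := f x z
  map_add' x y := H.add_left x y z
  map_smul' a x := H.smul_left a x z

theorem lin_apply (x z : U) : H.lin z x = f x z := rfl

theorem zero_left (z : U) : f 0 z = 0 := map_zero (H.lin z)

theorem neg_left (x z : U) : f (-x) z = -f x z := map_neg (H.lin z) x

theorem sub_left (x y z : U) : f (x - y) z = f x z - f y z := map_sub (H.lin z) x y

theorem sum_left {α : Type*} (s : Finset α) (g : α → U) (z : U) :
    f (∑ i ∈ s, g i) z = ∑ i ∈ s, f (g i) z := map_sum (H.lin z) g s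

theorem add_right (x y z : U) : f x (y + z) = f x y + f x z := by
  rw [H.herm, H.add_left, map_add, ← H.herm, ← H.herm]

theorem smul_right (a : F) (x z : U) : f x (a • z) = σ a * f x z := by
  rw [H.herm, H.smul_left, map_mul, ← H.herm]

theorem zero_right (x : U) : f x 0 = 0 := by rw [H.herm, H.zero_left, map_zero]

theorem neg_right (x z : U) : f x (-z) = -f x z := by rw [H.herm, H.neg_left, map_neg, ← H.herm]

theorem sub_right (x y z : U) : f x (y - z) = f x y - f x z := by
  rw [H.herm, H.sub_left, map_sub, ← H.herm, ← H.herm]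

theorem sum_right {α : Type*} (s : Finset α) (g : α → U) (z : U) :
    f z (∑ i ∈ s, g i) = ∑ i ∈ s, f z (g i) := by
  rw [H.herm, H.sum_left, map_sum]
  exact Finset.sum_congr rfl fun i _ => (H.herm _ _).symm

theorem symm0 {x y : U} (h : f x y = 0) : f y x = 0 := by rw [H.herm, h, map_zero]

theorem self_fix (x : U) : σ (f x x) = f x x := (H.herm x x).symm

theorem ne_zero_left {x y : U} (h : f x y ≠ 0) : x ≠ 0 := fun e => h (by rw [e, H.zero_left])

theorem ext_right {x y : U} (h : ∀ z, f z x = f z y) : x = y :=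
  sub_eq_zero.1 (H.nondeg _ fun z => H.symm0 (by rw [H.sub_right, h, sub_self]))

theorem ext_left {x y : U} (h : ∀ z, f x z = f y z) : x = y :=
  sub_eq_zero.1 (H.nondeg _ fun z => by rw [H.sub_left, h, sub_self])

theorem exists_left {x : U} (hx : x ≠ 0) : ∃ y, f y x = 1 := by
  by_contra hc
  refine hx (H.nondeg x fun y => ?_)
  by_contra hy
  refine hc ⟨(f y x)⁻¹ • y, ?_⟩
  rw [H.smul_left, inv_mul_cancel₀ fun e => hy (H.symm0 e)]

theorem not_mem_span {v x y : U} (hv : f v y = 0) (hx : f x y ≠ 0) : x ∉ F ∙ v := fun h => by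
  obtain ⟨t, rfl⟩ := Submodule.mem_span_singleton.1 h
  exact hx (by rw [H.smul_left, hv, mul_zero])

/-- A vector perpendicular to the perpendicular of a line is on the line. -/
theorem perp_perp {v x : U} (hv : v ≠ 0) (h : ∀ z, f z v = 0 → f x z = 0) : x ∈ F ∙ v := by
  obtain ⟨y, hy⟩ := H.exists_left hv
  have hvy : f v y = 1 := by rw [H.herm, hy, map_one]
  refine Submodule.mem_span_singleton.2 ⟨f x y, (sub_eq_zero.1 (H.nondeg _ fun z => ?_)).symm⟩
  have h1 := h (z - f z v • y) (by rw [H.sub_left, H.smul_left, hy, mul_one, sub_self])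
  rw [H.sub_right, H.smul_right, ← H.herm] at h1
  rw [H.sub_left, H.smul_left]
  linear_combination h1

/-- A form all of whose diagonal values vanish is zero. -/
theorem eq_zero_of_diag (S : Sig σ) (h : ∀ x, f x x = 0) (x y : U) : f x y = 0 := by
  refine S.eq_zero_of_trace fun s => ?_
  have h1 := h (s • x + y)
  rw [H.add_left, H.add_right, H.add_right, h y] at h1
  rw [show f (s • x) (s • x) = 0 from h _, H.herm (s • x) y, H.smul_left] at h1
  linear_combination h1

/-- Hyperbolic partner. -/
theorem exists_partner (S : Sig σ) {u : U} (hu : u ≠ 0) (huu : f u u = 0) :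
    ∃ y, f y y = 0 ∧ f y u = 1 ∧ f u y = 1 := by
  obtain ⟨y, hy⟩ := H.exists_left hu
  obtain ⟨k, hk⟩ := S.trace (-f y y) (by rw [map_neg, H.self_fix])
  have hy' : f u y = 1 := by rw [H.herm, hy, map_one]
  refine ⟨y + k • u, ?_, by rw [H.add_left, H.smul_left, huu, hy, mul_zero, add_zero], ?_⟩
  · simp only [H.add_left, H.add_right, H.smul_left, H.smul_right, hy, hy', huu, mul_zero, mul_one,
      add_zero]
    linear_combination hk
  · rw [H.add_right, H.smul_right, huu, hy', mul_zero, add_zero]

/-- An isotropic vector perpendicular to neither of two given ones. -/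
theorem avoid (S : Sig σ) {u z : U} (hu : u ≠ 0) (huu : f u u = 0) (hz : z ≠ 0) :
    ∃ y, f y y = 0 ∧ f y u ≠ 0 ∧ f y z ≠ 0 := by
  obtain ⟨w, hwu, hwz⟩ : ∃ w, f w u ≠ 0 ∧ f w z ≠ 0 := by
    obtain ⟨a, ha⟩ := H.exists_left hu
    obtain ⟨b, hb⟩ := H.exists_left hz
    by_cases h1 : f a z = 0
    · by_cases h2 : f b u = 0
      · exact ⟨a + b, by rw [H.add_left, ha, h2, add_zero]; exact one_ne_zero,
          by rw [H.add_left, h1, hb, zero_add]; exact one_ne_zero⟩
      · exact ⟨b, h2, by rw [hb]; exact one_ne_zero⟩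
    · exact ⟨a, by rw [ha]; exact one_ne_zero, h1⟩
  have huw : f u w ≠ 0 := fun e => hwu (H.symm0 e)
  obtain ⟨k, hk⟩ := S.trace (-f w w) (by rw [map_neg, H.self_fix])
  obtain ⟨l, hl0, hl⟩ := S.skew
  have good : ∀ m : F, m + σ m = -f w w →
      f (w + (m / f u w) • u) (w + (m / f u w) • u) = 0 ∧ f (w + (m / f u w) • u) u ≠ 0 := fun m hm => by
    refine ⟨?_, by rw [H.add_left, H.smul_left, huu, mul_zero, add_zero]; exact hwu⟩
    simp only [H.add_left, H.add_right, H.smul_left, H.smul_right, huu, mul_zero, add_zero,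
      div_mul_cancel₀ _ huw]
    rw [show f w u = σ (f u w) from H.herm u w, ← map_mul, div_mul_cancel₀ _ huw]
    linear_combination hm
  by_cases h : f (w + (k / f u w) • u) z = 0
  · refine ⟨_, (good (k + l) (by rw [map_add]; linear_combination hk + hl)).1,
      (good (k + l) (by rw [map_add]; linear_combination hk + hl)).2, fun h' => ?_⟩
    rw [H.add_left, H.smul_left] at h h'
    have h3 : l / f u w * f u z = 0 := by
      rw [add_div] at h'
      linear_combination h' - h
    rw [(mul_eq_zero.1 h3).resolve_left (div_ne_zero hl0 huw), mul_zero, add_zero] at h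
    exact hwz h
  · exact ⟨_, (good k hk).1, (good k hk).2, h⟩

variable [FiniteDimensional F U]

/-- Few equations leave a large subspace. -/
theorem finrank_perp_le {m : ℕ} (g : Fin m → U) :
    ∃ P : Submodule F U, (∀ x, x ∈ P ↔ ∀ i, f x (g i) = 0) ∧ finrank F U ≤ finrank F P + m := by
  refine ⟨LinearMap.ker (LinearMap.pi fun i => H.lin (g i)), fun x => ?_, ?_⟩
  · rw [LinearMap.mem_ker, funext_iff]
    exact Iff.rfl
  · have h1 := LinearMap.finrank_range_add_finrank_ker (LinearMap.pi fun i => H.lin (g i))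
    have h2 := Submodule.finrank_le (LinearMap.range (LinearMap.pi fun i => H.lin (g i)))
    rw [Module.finrank_fin_fun] at h2
    omega

/-- The perpendicular of a subspace. -/
theorem exists_perp_sub (W : Submodule F U) :
    ∃ P : Submodule F U, (∀ x, x ∈ P ↔ ∀ w ∈ W, f w x = 0) ∧ finrank F U ≤ finrank F P + finrank F W := by
  let B := Module.finBasis F W
  obtain ⟨P, hP, hdim⟩ := H.finrank_perp_le fun i => (B i : U)
  refine ⟨P, fun x => ⟨fun hx w hw => ?_, fun h => (hP x).2 fun i => H.symm0 (h _ (B i).2)⟩, hdim⟩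
  have e := congrArg Subtype.val (B.sum_repr ⟨w, hw⟩)
  simp only [AddSubmonoidClass.coe_finsetSum, Submodule.coe_smul] at e
  rw [← e, H.sum_left]
  exact Finset.sum_eq_zero fun i _ => by rw [H.smul_left, H.symm0 ((hP x).1 hx i), mul_zero]

/-- A subspace of dimension at least two has an isotropic vector. -/
theorem exists_iso_mem (S : Sig σ) {W : Submodule F U} (hW : 2 ≤ finrank F W) :
    ∃ u ∈ W, u ≠ 0 ∧ f u u = 0 := by
  obtain ⟨x, hx, hx0⟩ := (Submodule.ne_bot_iff W).1 fun e => by rw [e, finrank_bot] at hW; omega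
  by_cases hxx : f x x = 0
  · exact ⟨x, hx, hx0, hxx⟩
  obtain ⟨z, hz, hz0, hzx⟩ : ∃ z ∈ W, z ≠ 0 ∧ f z x = 0 := by
    have h1 := LinearMap.finrank_range_add_finrank_ker ((H.lin x).domRestrict W)
    have h2 := Submodule.finrank_le (LinearMap.range ((H.lin x).domRestrict W))
    rw [Module.finrank_self] at h2
    obtain ⟨z, hz, hz0⟩ := (Submodule.ne_bot_iff (LinearMap.ker ((H.lin x).domRestrict W))).1
      fun e => by rw [e, finrank_bot] at h1; omega
    exact ⟨z, z.2, fun e => hz0 (Subtype.ext e), LinearMap.mem_ker.1 hz⟩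
  by_cases hzz : f z z = 0
  · exact ⟨z, hz, hz0, hzz⟩
  obtain ⟨a, ha⟩ := S.norm (-f x x / f z z) (by rw [map_div₀, map_neg, H.self_fix, H.self_fix])
  refine ⟨x + a • z, W.add_mem hx (W.smul_mem a hz), fun e => ?_, ?_⟩
  · have := congrArg (H.lin x) e
    simp only [map_add, map_smul, lin_apply, hzx, smul_zero, add_zero, map_zero] at this
    exact hxx this
  · simp only [H.add_left, H.add_right, H.smul_left, H.smul_right, hzx, H.symm0 hzx, mul_zero,
      add_zero, zero_add]
    rw [eq_div_iff hzz] at ha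
    linear_combination ha

/-- Isotropic vectors span. -/
theorem eq_zero_of_iso (S : Sig σ) (h2 : 2 ≤ finrank F U) {W : Type*} [AddCommGroup W] [Module F W]
    (φ : U →ₗ[F] W) (h : ∀ u, f u u = 0 → φ u = 0) : φ = 0 := by
  obtain ⟨u, -, hu, huu⟩ := H.exists_iso_mem S (W := ⊤) (by rwa [finrank_top])
  have np : ∀ z, f u z ≠ 0 → φ z = 0 := fun z hz => by
    obtain ⟨k, hk⟩ := S.trace (-f z z) (by rw [map_neg, H.self_fix])
    have h1 := h (z + (k / f u z) • u) (by
      simp only [H.add_left, H.add_right, H.smul_left, H.smul_right, huu, mul_zero, add_zero,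
        div_mul_cancel₀ _ hz]
      rw [show f z u = σ (f u z) from H.herm u z, ← map_mul, div_mul_cancel₀ _ hz]
      linear_combination hk)
    rwa [map_add, map_smul, h u huu, smul_zero, add_zero] at h1
  refine LinearMap.ext fun z => ?_
  by_cases hz : f u z = 0
  · obtain ⟨y, -, -, hy⟩ := H.exists_partner S hu huu
    have h1 := np (z + y) (by rw [H.add_right, hz, hy, zero_add]; exact one_ne_zero)
    rw [map_add, np y (by rw [hy]; exact one_ne_zero), add_zero] at h1
    exact h1
  · exact np z hz

end HForm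

end CfsgLib.MaxSub.TensorHerm
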