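/-
Elements of the radical of a parabolic give a non-scalar endomorphism or are pure, hence so do
elements stabilising an isotropic space of pure tensors.
-/
import Cfsg.Agent.Lib.MaxSub.TensorHerm.Basic

set_option autoImplicit false
set_option maxHeartbeats 400000
set_option linter.unusedSectionVars false

namespace CfsgLib.MaxSub.TensorHerm

open Matrix Module
open CfsgLib.MaxSub.TensorLin (Col colMap colMap_apply mem_col finrank_col colMap_injective vmv_eq_zero
  vmv_zero NP map_map_inv exists_dot_one)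

variable {F : Type*} [Field F] {ι κ : Type*} [Fintype ι] [Fintype κ] [DecidableEq ι] [DecidableEq κ]
variable {σ : F →+* F} {f1 : (ι → F) → (ι → F) → F} {f2 : (κ → F) → (κ → F) → F}
  {f : Matrix ι κ F → Matrix ι κ F → F} {G : Subgroup (Matrix ι κ F ≃ₗ[F] Matrix ι κ F)}

local notation "MV" => Matrix ι κ F

/-- A functional is the form of a vector. -/
theorem HForm.exists_repr {U : Type*} [AddCommGroup U] [Module F U] [FiniteDimensional F U]
    {h : U → U → F} (H : HForm σ h) (S : Sig σ) (φ : U →ₗ[F] F) : ∃ w, ∀ x, φ x = h x w := by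
  let b := Module.finBasis F U
  let Φ : U →ₗ[F] (Fin (finrank F U) → F) := LinearMap.pi fun i => H.lin (b i)
  have hΦ : Function.Injective Φ := (injective_iff_map_eq_zero Φ).2 fun x hx => H.nondeg x fun y => by
    rw [← b.sum_repr y, H.sum_right]
    exact Finset.sum_eq_zero fun i _ => by
      rw [H.smul_right, show h x (b i) = 0 from congrFun hx i, mul_zero]
  let e := LinearEquiv.ofInjectiveOfFinrankEq Φ hΦ (by rw [Module.finrank_fin_fun])
  refine ⟨∑ i, σ (φ (e.symm (Pi.single i 1))) • b i, fun x => ?_⟩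
  conv_lhs => rw [← e.symm_apply_apply x, pi_eq_sum_univ' (e x), map_sum, map_sum]
  rw [H.sum_right]
  refine Finset.sum_congr rfl fun i _ => ?_
  rw [H.smul_right, S.invol, map_smul, map_smul, smul_eq_mul, mul_comm]
  rfl

section

variable (O : TU σ f1 f2 f G)
include O

/-- An element attached to a vector and an endomorphism. -/
def InG (v : κ → F) (T : (ι → F) →ₗ[F] (ι → F)) : Prop :=
  ∃ g ∈ G, ∀ X, g X = X + vecMulVec (T (cv O v X)) v

/-- A non-scalar endomorphism at some isotropic vector. -/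
def Ex : Prop :=
  ∃ v : κ → F, v ≠ 0 ∧ f2 v v = 0 ∧ ∃ T : (ι → F) →ₗ[F] (ι → F), (∀ s : F, ∃ c, T c ≠ s • c) ∧ InG O v T

/-- A map into a space of pure tensors killing its perpendicular. -/
theorem exists_rT {v z z' : κ → F} (hz : f2 v z = 1) (hz' : f2 z' v = 1) (D : MV →ₗ[F] MV)
    (hk : ∀ c x, f2 x v = 0 → D (vecMulVec c x) = 0) (hi : ∀ X, D X ∈ Col v) (X : MV) :
    D X = vecMulVec (cv O z (D (vecMulVec (cv O v X) z'))) v := by
  have hback : ∀ Y ∈ Col (ι := ι) v, Y = vecMulVec (cv O z Y) v := fun Y hY => by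
    obtain ⟨d, rfl⟩ := mem_col.1 hY
    rw [cv_pure, hz, one_smul]
  refine ext_pure (A := D) (B := colMap v ∘ₗ cv O z ∘ₗ D ∘ₗ colMap z' ∘ₗ cv O v) (fun c x => ?_) X
  show _ = vecMulVec (cv O z (D (vecMulVec (cv O v (vecMulVec c x)) z'))) v
  rw [← hback _ (hi _), cv_pure]
  have e : vecMulVec c x = vecMulVec c (x - f2 x v • z') + vecMulVec (f2 x v • c) z' := by
    rw [vmv_sub, vmv_smul, smul_vecMulVec, sub_add_cancel]
  conv_lhs => rw [e]
  rw [map_add, hk c _ (by rw [O.h2.sub_left, O.h2.smul_left, hz', mul_one, sub_self]), zero_add]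

/-- An element of the radical: a non-scalar endomorphism, or pure. -/
theorem qel {D : MV ≃ₗ[F] MV} (hD : D ∈ G) {v : κ → F} (hv : v ≠ 0) (hvv : f2 v v = 0)
    (hfix : ∀ c, D (vecMulVec c v) = vecMulVec c v)
    (hQ : ∀ c x, f2 x v = 0 → D (vecMulVec c x) - vecMulVec c x ∈ Col v) : Ex O ∨ Pure D := by
  by_contra hcon
  push Not at hcon
  obtain ⟨hex, hnp⟩ := hcon
  obtain ⟨hperp, hin⟩ := qlin O hD hv hfix hQ
  obtain ⟨z, -, hz', hz⟩ := O.h2.exists_partner O.sg hv hvv
  let Δ : MV →ₗ[F] MV := D.toLinearMap - LinearMap.id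
  have hΔ : ∀ X, Δ X = D X - X := fun X => rfl
  have hD' : ∀ X, D X = X + Δ X := fun X => by rw [hΔ, add_sub_cancel]
  have hΔN : ∀ Y ∈ Col (ι := ι) v, Δ Y = 0 := fun Y hY => by
    obtain ⟨c, rfl⟩ := mem_col.1 hY
    rw [hΔ, hfix, sub_self]
  -- commutators with Siegel elements
  have key : ∀ w, f2 w v = 0 → ∃ r : F, ∀ c,
      cv O z (Δ (vecMulVec c w)) + cv O w (Δ (vecMulVec c z)) = r • c := by
    intro w hw
    obtain ⟨μ, hμ⟩ := O.sg.trace (-f2 w w) (by rw [map_neg, O.h2.self_fix])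
    obtain ⟨E, hE, hEX, -⟩ := eich O hvv hw hμ
    have hwv : f2 v w = 0 := O.h2.symm0 hw
    have hδN : ∀ Y ∈ Col (ι := ι) v, dl O v w μ Y = 0 := fun Y hY => by
      rw [dl_apply, cv_col O hvv hY, cv_col O hwv hY, zero_vecMulVec, zero_vecMulVec, smul_zero,
        sub_zero, add_zero]
    have hδc : ∀ X, cv O v (dl O v w μ X) = 0 := fun X => by
      simp [dl_apply, cv_pure, hw, hvv]
    have hδq : ∀ Y, cv O v Y = 0 → dl O v w μ Y = -vecMulVec (cv O w Y) v := fun Y hY => by
      rw [dl_apply, hY, zero_vecMulVec, zero_vecMulVec, smul_zero, zero_sub, add_zero]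
    let C : MV →ₗ[F] MV := Δ ∘ₗ dl O v w μ - dl O v w μ ∘ₗ Δ
    have hC : ∀ X, C X = Δ (dl O v w μ X) - dl O v w μ (Δ X) := fun X => rfl
    have hCi : ∀ X, C X ∈ Col v := fun X => by
      rw [hC]
      refine (Col v).sub_mem (hin _ (hδc X)) ?_
      rw [hδq (Δ X) (hperp X)]
      exact (Col v).neg_mem (mem_col.2 ⟨_, rfl⟩)
    have hCk : ∀ c x, f2 x v = 0 → C (vecMulVec c x) = 0 := fun c x hx => by
      have h1 : dl O v w μ (vecMulVec c x) ∈ Col v := by
        rw [hδq _ (by rw [cv_pure, hx, zero_smul])]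
        exact (Col v).neg_mem (mem_col.2 ⟨_, rfl⟩)
      rw [hC, hΔN _ h1, hδN (Δ (vecMulVec c x)) (hQ c x hx), sub_zero]
    have hCX := exists_rT O hz hz' C hCk hCi
    let T : (ι → F) →ₗ[F] (ι → F) := cv O z ∘ₗ C ∘ₗ colMap z
    have hT : InG O v T := by
      refine ⟨(E * D)⁻¹ * (D * E), mul_mem (inv_mem (mul_mem hE hD)) (mul_mem hD hE), fun X => ?_⟩
      refine (E * D).injective ?_
      rw [← LinearEquiv.mul_apply, mul_inv_cancel_left]
      show D (E X) = E (D (X + vecMulVec (cv O z (C (vecMulVec (cv O v X) z))) v))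
      rw [← hCX, map_add D, hEX X, map_add D, hD' (C X), hΔN _ (hCi X), add_zero, hD' X,
        hD' (dl O v w μ X), hEX, map_add (dl O v w μ), map_add (dl O v w μ), hδN _ (hCi X), add_zero, hC]
      abel
    by_contra hr
    push Not at hr
    refine hex ⟨v, hv, hvv, T, fun s => ?_, hT⟩
    obtain ⟨c, hc⟩ := hr s
    refine ⟨c, fun e => hc ?_⟩
    rw [← e]
    show _ = cv O z (C (vecMulVec c z))
    have h1 : Δ (dl O v w μ (vecMulVec c z)) = Δ (vecMulVec c w) := by
      rw [dl_pure, hz', one_smul, mul_one, vecMulVec_add, vmv_sub, map_add, map_sub,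
        hΔN (vecMulVec c (f2 z w • v)) (mem_col.2 ⟨f2 z w • c, by rw [smul_vecMulVec, vmv_smul]⟩),
        hΔN (vecMulVec c (μ • v)) (mem_col.2 ⟨μ • c, by rw [smul_vecMulVec, vmv_smul]⟩), sub_zero,
        add_zero]
    rw [hC, h1, map_sub, hδq (Δ (vecMulVec c z)) (hperp _), map_neg, cv_pure, hz, one_smul, sub_neg_eq_add]
  obtain ⟨η, hη⟩ := O.sg.moved
  have hscal : ∀ w, f2 w v = 0 → ∃ r : F, ∀ c, cv O z (Δ (vecMulVec c w)) = r • c := by
    intro w hw
    obtain ⟨r, hr⟩ := key w hw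
    obtain ⟨r', hr'⟩ := key (η • w) (by rw [O.h2.smul_left, hw, mul_zero])
    refine ⟨(η - σ η)⁻¹ * (r' - σ η * r), fun c => ?_⟩
    have h1 := hr' c
    rw [vmv_smul, map_smul, map_smul, cv_smul_vec, ← sub_eq_zero] at h1
    have h2 : (η - σ η) • cv O z (Δ (vecMulVec c w)) = (r' - σ η * r) • c := by
      rw [sub_smul, sub_smul, ← smul_smul, ← hr c, smul_add, ← sub_eq_zero]
      refine Eq.trans ?_ h1
      abel
    rw [mul_smul, ← h2, smul_smul, inv_mul_cancel₀ (sub_ne_zero.2 (Ne.symm hη)), one_smul]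
  have := O.two
  obtain ⟨i⟩ : Nonempty ι := Fintype.card_pos_iff.1 (by omega)
  let φ : (κ → F) →ₗ[F] F :=
    { toFun := fun x => cv O z (Δ (vecMulVec (Pi.single i 1) x)) i
      map_add' := fun x y => by rw [vecMulVec_add, map_add, map_add, Pi.add_apply]
      map_smul' := fun t x => by
        rw [vmv_smul, map_smul, map_smul, Pi.smul_apply, RingHom.id_apply] }
  have hφ : ∀ w, f2 w v = 0 → ∀ c, Δ (vecMulVec c w) = vecMulVec (φ w • c) v := fun w hw c => by
    obtain ⟨r, hr⟩ := hscal w hw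
    have e : φ w = r := by
      show cv O z (Δ (vecMulVec (Pi.single i 1) w)) i = r
      rw [hr, Pi.smul_apply, Pi.single_eq_same, smul_eq_mul, mul_one]
    obtain ⟨d, hd⟩ := mem_col.1 (hQ c w hw)
    rw [hΔ, ← hd, e, ← hr c, hΔ, ← hd, cv_pure, hz, one_smul]
  obtain ⟨w₀, hw₀⟩ := O.h2.exists_repr O.sg φ
  have hw₀v : f2 w₀ v = 0 := O.h2.symm0 (by
    rw [← hw₀]
    show cv O z (Δ (vecMulVec (Pi.single i 1) v)) i = 0
    rw [hΔN _ (mem_col.2 ⟨_, rfl⟩), map_zero, Pi.zero_apply])
  obtain ⟨μ, hμ⟩ := O.sg.trace (-f2 (-w₀) (-w₀)) (by rw [map_neg, O.h2.self_fix])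
  obtain ⟨E, hE, hEX, hEp⟩ := eich O hvv (w := -w₀) (by rw [O.h2.neg_left, hw₀v, neg_zero]) hμ
  have hEx : ∀ c x, f2 x v = 0 → E (vecMulVec c x) = D (vecMulVec c x) := fun c x hx => by
    rw [hEX, hD', hφ x hx, hw₀, dl_pure, hx, zero_smul, mul_zero, zero_smul, add_zero, zero_sub,
      O.h2.neg_right, neg_smul, neg_neg, vmv_smul, smul_vecMulVec]
  have hfix' : ∀ c x, f2 x v = 0 → (E⁻¹ * D) (vecMulVec c x) = vecMulVec c x := fun c x hx => by
    show E.symm (D (vecMulVec c x)) = _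
    rw [← hEx c x hx, E.symm_apply_apply]
  let Δ' : MV →ₗ[F] MV := (E⁻¹ * D).toLinearMap - LinearMap.id
  have hΔ' : ∀ X, Δ' X = (E⁻¹ * D) X - X := fun X => rfl
  have hgG : E⁻¹ * D ∈ G := mul_mem (inv_mem hE) hD
  have hΔ'i : ∀ X, Δ' X ∈ Col v := fun X => col_of_cv O hv fun x hx => cv_eq_zero O fun d => by
    rw [hΔ', O.h.sub_left]
    conv_lhs => rw [show f ((E⁻¹ * D) X) (vecMulVec d x) = f ((E⁻¹ * D) X) ((E⁻¹ * D) (vecMulVec d x)) by
      rw [hfix' d x hx]]
    rw [O.isom _ hgG, sub_self]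
  have hrT := exists_rT O hz hz' Δ' (fun c x hx => by rw [hΔ', hfix' c x hx, sub_self]) hΔ'i
  by_cases hns : ∀ s : F, ∃ c, cv O z (Δ' (vecMulVec c z)) ≠ s • c
  · refine hex ⟨v, hv, hvv, cv O z ∘ₗ Δ' ∘ₗ colMap z, hns, _, hgG, fun X => ?_⟩
    show _ = _ + vecMulVec (cv O z (Δ' (vecMulVec (cv O v X) z))) v
    rw [← hrT, hΔ', add_sub_cancel]
  push Not at hns
  obtain ⟨s, hs⟩ := hns
  refine hnp ?_
  rw [← mul_inv_cancel_left E D]
  refine pure_mul O hEp ⟨fun x => x + (s * f2 x v) • v, fun c x => ?_⟩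
  rw [vecMulVec_add, vmv_smul, ← sub_eq_iff_eq_add', ← hΔ', hrT, hs, cv_pure, smul_smul,
    smul_vecMulVec]

/-- An element stabilising an isotropic space of pure tensors and transvecting along a member that is
not pure gives a non-scalar endomorphism. -/
theorem stab (hκ2 : Fintype.card κ ≠ 2) {M : Submodule F MV} (hnp : NP M) (hM : Mem f2 G M) {A : MV →ₗ[F] MV} (hA : Tr f G M A)
    {v : κ → F} (hv : v ≠ 0) (hvv : f2 v v = 0) (hN : ∀ c, A (vecMulVec c v) ∈ Col v) : Ex O := by
  by_contra hex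
  obtain ⟨y, hy, hyX⟩ := hA.elem
  obtain ⟨z, -, -, hz⟩ := O.h2.exists_partner O.sg hv hvv
  obtain ⟨Z, hZv, hZ0, hZdim⟩ := exists_compl O hv hvv
  have hback : ∀ Y ∈ Col (ι := ι) v, Y = vecMulVec (cv O z Y) v := fun Y hY => by
    obtain ⟨d, rfl⟩ := mem_col.1 hY
    rw [cv_pure, hz, one_smul]
  let φ : (ι → F) →ₗ[F] (ι → F) := cv O z ∘ₗ A ∘ₗ colMap v
  have hφ : ∀ c, A (vecMulVec c v) = vecMulVec (φ c) v := fun c => hback _ (hN c)
  have hφφ : ∀ c, φ (φ c) = 0 := fun c => by
    show cv O z (A (vecMulVec (φ c) v)) = 0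
    rw [← hφ, hA.sq, map_zero]
  have hcvA : ∀ c x, f2 x v = 0 → cv O v (A (vecMulVec c x)) = 0 := fun c x hx => cv_eq_zero O fun d => by
    rw [hA.skew, hφ, O.f_pure, hx, mul_zero, neg_zero]
  -- the commutator
  have key : ∀ w x, f2 w v = 0 → f2 x v = 0 → ∃ s : F, ∀ c,
      cv O w (A (vecMulVec c x)) = s • c + (f2 x w - s) • φ c := by
    intro w x hw hx
    obtain ⟨μ, hμ⟩ := O.sg.trace (-f2 w w) (by rw [map_neg, O.h2.self_fix])
    obtain ⟨E, hE, hEX, -⟩ := eich O hvv hw hμ
    have hwv : f2 v w = 0 := O.h2.symm0 hw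
    have hEN : ∀ Y ∈ Col (ι := ι) v, E Y = Y := fun Y hY => by
      rw [hEX, dl_apply, cv_col O hvv hY, cv_col O hwv hY, zero_vecMulVec, zero_vecMulVec, smul_zero,
        sub_zero, add_zero, add_zero]
    have hyN : ∀ Y ∈ Col (ι := ι) v, y Y ∈ Col v ∧ y.symm Y ∈ Col v := fun Y hY => by
      obtain ⟨c, rfl⟩ := mem_col.1 hY
      exact ⟨by rw [hyX]; exact (Col v).add_mem (mem_col.2 ⟨c, rfl⟩) (hN c),
        by rw [hA.inv hyX]; exact (Col v).sub_mem (mem_col.2 ⟨c, rfl⟩) (hN c)⟩
    have hEq : ∀ Y, cv O v Y = 0 → E Y = Y - vecMulVec (cv O w Y) v := fun Y hY => by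
      rw [hEX, dl_apply, hY, zero_vecMulVec, zero_vecMulVec, smul_zero, zero_sub, add_zero, ← sub_eq_add_neg]
    have hDfix : ∀ Y ∈ Col (ι := ι) v, (y * E * y⁻¹ * E⁻¹) Y = Y := fun Y hY => by
      show y (E (y.symm (E.symm Y))) = Y
      rw [show E.symm Y = Y from E.injective (by rw [E.apply_symm_apply, hEN Y hY]),
        hEN _ (hyN Y hY).2, y.apply_symm_apply]
    have hDx : ∀ (c : ι → F) (x' : κ → F), f2 x' v = 0 → (y * E * y⁻¹ * E⁻¹) (vecMulVec c x') =
        vecMulVec c x' + vecMulVec (cv O w (A (vecMulVec c x')) + φ (cv O w (A (vecMulVec c x')))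
          - f2 x' w • φ c) v := fun c x' hx' => by
      have e1 : E.symm (vecMulVec c x') = vecMulVec c x' + vecMulVec (f2 x' w • c) v := by
        refine E.injective ?_
        rw [E.apply_symm_apply, map_add, hEN _ (mem_col.2 ⟨_, rfl⟩),
          hEq _ (by rw [cv_pure, hx', zero_smul]), cv_pure, sub_add_cancel]
      show y (E (y.symm (E.symm (vecMulVec c x')))) = _
      rw [e1, map_add, map_add E, hEN _ (hyN _ (mem_col.2 ⟨_, rfl⟩)).2, map_add y, y.apply_symm_apply,
        hA.inv hyX, hEq _ (by rw [map_sub, hcvA c x' hx', cv_pure, hx', zero_smul, sub_zero]),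
        map_sub y, map_sub (cv O w), cv_pure, ← hA.inv hyX, y.apply_symm_apply, hyX (vecMulVec _ v),
        hφ, map_sub φ, map_smul φ]
      simp only [add_vecMulVec, sub_vmv]
      abel
    rcases qel O (mul_mem (mul_mem (mul_mem hy hE) (inv_mem hy)) (inv_mem hE)) hv hvv
      (fun c => hDfix _ (mem_col.2 ⟨c, rfl⟩))
      (fun c x' hx' => by rw [hDx c x' hx', add_sub_cancel_left]; exact mem_col.2 ⟨_, rfl⟩) with h | ⟨L, hL⟩
    · exact absurd h hex
    · refine ⟨f2 (L x - x) z, fun c => ?_⟩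
      set s := f2 (L x - x) z
      have h1 : cv O w (A (vecMulVec c x)) + φ (cv O w (A (vecMulVec c x))) - f2 x w • φ c = s • c := by
        have e := hL c x
        rw [hDx c x hx] at e
        have := congrArg (cv O z) (eq_sub_of_add_eq' e)
        rwa [← vmv_sub, cv_pure, cv_pure, hz, one_smul] at this
      set k := cv O w (A (vecMulVec c x))
      have h2 : φ k = s • φ c := by
        have := congrArg φ h1
        rw [map_sub, map_add, hφφ, map_smul, hφφ, smul_zero, map_smul] at this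
        rwa [add_zero, sub_zero] at this
      rw [h2] at h1
      rw [← h1, sub_smul]
      abel
  by_cases hφ0 : φ = 0
  · have hAN : ∀ Y ∈ Col (ι := ι) v, A Y = 0 := fun Y hY => by
      obtain ⟨c, rfl⟩ := mem_col.1 hY
      rw [hφ, hφ0, LinearMap.zero_apply, zero_vecMulVec]
    have hMv : ∀ m ∈ M, cv O v m = 0 := fun m hm => cv_eq_zero O fun d => O.h.symm0
      (hA.perp O (hAN _ (mem_col.2 ⟨d, rfl⟩)) hm)
    choose! s hs using key
    have hs' : ∀ w x, f2 w v = 0 → f2 x v = 0 → ∀ c, cv O w (A (vecMulVec c x)) = s w x • c :=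
      fun w x hw hx c => by rw [hs w x hw hx c, hφ0, LinearMap.zero_apply, smul_zero, add_zero]
    have pureA : ∀ {g : MV ≃ₗ[F] MV}, Pure g → (∀ X, g X = X + A X) → False := fun {g} hg hgX => by
      obtain ⟨L, hL⟩ := hg
      have hAp : ∀ c x, A (vecMulVec c x) = vecMulVec c (L x - x) := fun c x => by
        rw [vmv_sub, ← hL, hgX, add_sub_cancel_left]
      obtain ⟨x, hx⟩ : ∃ x, L x - x ≠ 0 := by
        by_contra hc
        push Not at hc
        have h0 : ∀ X, A X = 0 := ext_pure (B := (0 : MV →ₗ[F] MV)) fun c x => by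
          rw [hAp, hc, vmv_zero, LinearMap.zero_apply]
        have := mem_finrank O hM
        rw [show M = ⊥ from (Submodule.eq_bot_iff M).2 fun m hm => by
          obtain ⟨X, rfl⟩ := hA.onto m hm
          exact h0 X, finrank_bot] at this
        have := O.two
        omega
      refine hnp (L x - x) (Submodule.eq_of_le_of_finrank_eq (fun Y hY => ?_) ?_).symm
      · obtain ⟨d, rfl⟩ := mem_col.1 hY
        exact hAp d x ▸ hA.mem _
      · rw [finrank_col hx, mem_finrank O hM]
    by_cases hall : ∀ w x, f2 w v = 0 → f2 x v = 0 → s w x = 0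
    · rcases qel O hy hv hvv (fun c => by rw [hyX, hAN _ (mem_col.2 ⟨c, rfl⟩), add_zero])
        (fun c x hx => by
          rw [hyX, add_sub_cancel_left]
          exact col_of_cv O hv fun w hw => by rw [hs' w x hw hx, hall w x hw hx, zero_smul]) with h | h
      · exact hex h
      · exact pureA h hyX
    push Not at hall
    obtain ⟨w₁, x₁, hw₁, hx₁, hs1⟩ := hall
    let B : (ι → F) →ₗ[F] MV := A ∘ₗ colMap x₁
    have hB : ∀ w, f2 w v = 0 → ∀ c, cv O w (B c) = s w x₁ • c := fun w hw c => hs' w x₁ hw hx₁ c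
    have hBinj : Function.Injective B := (injective_iff_map_eq_zero B).2 fun c hc => by
      have := hB w₁ hw₁ c
      rw [hc, map_zero] at this
      exact (smul_eq_zero.1 this.symm).resolve_left hs1
    have hBonto : ∀ m ∈ M, ∃ c, B c = m := fun m hm => by
      have e : LinearMap.range B = M := Submodule.eq_of_le_of_finrank_eq
        (fun X ⟨c, hc⟩ => hc ▸ hA.mem _)
        (by rw [LinearMap.finrank_range_of_inj hBinj, mem_finrank O hM,
          Module.finrank_fintype_fun_eq_card])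
      exact LinearMap.mem_range.1 (e ▸ hm)
    -- the second factor
    obtain ⟨c₀, hc₀⟩ : ∃ c : ι → F, c ≠ 0 := by
      have := O.two
      obtain ⟨i⟩ : Nonempty ι := Fintype.card_pos_iff.1 (by omega)
      exact ⟨Pi.single i 1, by simp⟩
    obtain ⟨η, hη⟩ := exists_dot_one hc₀
    set u : κ → F := η ᵥ* (B c₀) with hu
    have hu_apply : ∀ w, f2 u w = η ⬝ᵥ cv O w (B c₀) := fun w => by
      rw [hu, vecMul_eq_sum, O.h2.sum_left]
      exact Finset.sum_congr rfl fun i _ => O.h2.smul_left _ _ _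
    have huv : f2 u v = 0 := by rw [hu_apply, hMv (B c₀) (hA.mem _), dotProduct_zero]
    have huw : ∀ w, f2 w v = 0 → f2 u w = s w x₁ := fun w hw => by
      rw [hu_apply, hB w hw, dotProduct_smul, dotProduct_comm, hη, smul_eq_mul, mul_one]
    have hBu : ∀ c, B c - vecMulVec c u ∈ Col v := fun c => col_of_cv O hv fun w hw => by
      rw [map_sub, hB w hw, cv_pure, huw w hw, sub_self]
    have huu : f2 u u = 0 := by
      obtain ⟨d, hd⟩ := O.h1.exists_left hc₀
      obtain ⟨γ, hγ⟩ := mem_col.1 (hBu c₀)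
      obtain ⟨γ', hγ'⟩ := mem_col.1 (hBu d)
      have := mem_singular O hM (X := B d) (Y := B c₀) (hA.mem _) (hA.mem _)
      rw [← sub_add_cancel (B d) (vecMulVec d u), ← hγ', ← sub_add_cancel (B c₀) (vecMulVec c₀ u),
        ← hγ, O.h.add_left, O.h.add_right, O.h.add_right, O.f_pure, O.f_pure, O.f_pure, O.f_pure,
        hvv, huv, O.h2.symm0 huv, hd] at this
      simpa using this
    set r : (κ → F) → F := fun x => s w₁ x / s w₁ x₁ with hr
    have hAr : ∀ c x, f2 x v = 0 → A (vecMulVec c x) = r x • B c := fun c x hx => by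
      obtain ⟨d, hd⟩ := hBonto _ (hA.mem (vecMulVec c x))
      have h1 := hs' w₁ x hw₁ hx c
      rw [← hd, hB w₁ hw₁] at h1
      rw [← hd, ← map_smul]
      congr 1
      calc d = (s w₁ x₁)⁻¹ • (s w₁ x₁ • d) := by rw [smul_smul, inv_mul_cancel₀ hs1, one_smul]
        _ = r x • c := by rw [h1, smul_smul]; simp only [hr]; rw [div_eq_inv_mul]
    have hsk : ∀ x x', f2 x v = 0 → f2 x' v = 0 → r x * f2 u x' = -(σ (r x') * f2 x u) := by
      intro x x' hx hx'
      obtain ⟨d, hd⟩ := O.h1.exists_left hc₀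
      have := hA.skew (vecMulVec d x) (vecMulVec c₀ x')
      rw [hAr d x hx, hAr c₀ x' hx', O.h.smul_left, O.h.smul_right, f_cv O, hB x' hx',
        f_cv' O, hB x hx, O.h1.smul_left, O.h1.smul_right, hd, ← huw x' hx', ← huw x hx,
        ← O.h2.herm, mul_one, mul_one] at this
      exact this
    set l := -(σ (r w₁)) / f2 u w₁ with hl
    have hu1 : f2 u w₁ ≠ 0 := by rwa [huw w₁ hw₁]
    have hrl : ∀ x, f2 x v = 0 → r x = l * f2 x u := fun x hx => by
      rw [hl, div_mul_eq_mul_div, eq_div_iff hu1, hsk x w₁ hx hw₁]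
      ring
    have hr1 : r x₁ = 1 := by rw [hr]; exact div_self hs1
    have hls : l + σ l = 0 := by
      have h1 := hsk w₁ w₁ hw₁ hw₁
      rw [O.h2.herm u w₁] at h1
      have gen : ∀ a b : F, b ≠ 0 → a * b = -(σ a * σ b) → -(σ a) / b + σ (-(σ a) / b) = 0 :=
        fun a b hb hab => by
          have hb' : σ b ≠ 0 := fun e => hb (O.sg.eq_zero e)
          rw [map_div₀, map_neg, O.sg.invol]
          field_simp
          linear_combination -hab
      rw [hl]
      exact gen _ _ hu1 h1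
    obtain ⟨t, ht, htX, htp⟩ := tv O huu (l := -l) (by rw [map_neg]; linear_combination -hls)
    rcases qel O (mul_mem hy ht) hv hvv (fun c => by
        show y (t _) = _
        rw [htX, cv_pure, O.h2.symm0 huv, zero_smul, zero_vecMulVec, smul_zero, add_zero, hyX,
          hAN _ (mem_col.2 ⟨c, rfl⟩), add_zero])
      (fun c x hx => by
        show y (t _) - _ ∈ _
        rw [htX, map_add, map_smul, hyX, hyX, cv_pure, smul_vecMulVec, map_smul, hAr c x hx,
          hAr c u huv, hrl u huv, huu, mul_zero, zero_smul, smul_zero, add_zero, hrl x hx,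
          show vecMulVec c x + (l * f2 x u) • B c + -l • f2 x u • vecMulVec c u - vecMulVec c x
            = (l * f2 x u) • (B c - vecMulVec c u) by module]
        exact (Col v).smul_mem _ (hBu c)) with h | h
    · exact hex h
    · refine pureA ?_ hyX
      rw [← mul_inv_cancel_right y t]
      refine pure_mul O h ?_
      obtain ⟨t', ht', ht'X, ht'p⟩ := tv O huu hls
      convert ht'p
      refine (inv_eq_of_mul_eq_one_left (LinearEquiv.ext fun X => ?_))
      show t' (t X) = X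
      rw [ht'X, htX, map_add, map_smul, cv_pure, huu, zero_smul, smul_zero, add_zero]
      module
  -- a non-zero restriction
  let M₁ := M ⊓ LinearMap.ker (cv O v)
  have hR : finrank F (LinearMap.range φ) + finrank F M₁ ≤ Fintype.card ι := by
    obtain ⟨P, hP, hdim⟩ := O.h1.exists_perp_sub (M.map (cv O v))
    have hPk : P ≤ LinearMap.ker φ := fun d hd => by
      refine LinearMap.mem_ker.2 ((colMap_injective hv) ?_)
      rw [colMap_apply, colMap_apply, zero_vecMulVec, ← hφ]
      refine hA.ker _ fun m hm => O.h.symm0 ?_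
      rw [f_cv O]
      exact (hP d).1 hd _ (Submodule.mem_map_of_mem hm)
    have h1 := Submodule.finrank_mono hPk
    have h2 := LinearMap.finrank_range_add_finrank_ker φ
    have h3 := rank_add_ker O hM v
    rw [Module.finrank_fintype_fun_eq_card] at hdim h2
    show _ + finrank F (M ⊓ LinearMap.ker (cv O v) : Submodule F MV) ≤ _
    change _ ≤ _ + rank O M v at hdim
    omega
  have room : ∀ (S : Submodule F MV), S ≤ M₁ → (∀ X ∈ S, X ∈ Col v → X = 0) →
      finrank F S + 2 * finrank F (LinearMap.range φ) ≤ Fintype.card ι := fun S hS hSN => by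
    let R := (LinearMap.range φ).map (colMap v)
    have hR' : finrank F R = finrank F (LinearMap.range φ) :=
      ((Submodule.equivMapOfInjective _ (colMap_injective hv) _).finrank_eq).symm
    have hRle : R ≤ M₁ := by
      rintro _ ⟨_, ⟨c, rfl⟩, rfl⟩
      rw [colMap_apply, ← hφ]
      refine ⟨hA.mem _, LinearMap.mem_ker.2 ?_⟩
      rw [hφ, cv_pure, hvv, zero_smul]
    have hdis : S ⊓ R = ⊥ := (Submodule.eq_bot_iff _).2 fun X hX => hSN X hX.1 (by
      obtain ⟨d, -, rfl⟩ := hX.2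
      exact mem_col.2 ⟨d, rfl⟩)
    have h1 := Submodule.finrank_sup_add_finrank_inf_eq S R
    rw [hdis, finrank_bot] at h1
    have h2 := Submodule.finrank_mono (sup_le hS hRle)
    omega
  have hk : 1 ≤ finrank F (LinearMap.range φ) := Nat.one_le_iff_ne_zero.2 fun e => hφ0
    (LinearMap.range_eq_bot.1 (Submodule.finrank_eq_zero.1 e))
  have hs0 : ∀ w x, f2 w v = 0 → f2 x v = 0 → ∀ c,
      cv O w (A (vecMulVec c x)) = f2 x w • φ c := by
    intro w x hw hx c
    obtain ⟨s, hs⟩ := key w x hw hx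
    suffices s = 0 by rw [hs, this, zero_smul, zero_add, sub_zero]
    by_contra hs0
    let Ψ : LinearMap.ker φ →ₗ[F] MV := A ∘ₗ colMap x ∘ₗ (LinearMap.ker φ).subtype
    have hΨ : ∀ c : LinearMap.ker φ, cv O w (Ψ c) = s • (c : ι → F) := fun c => by
      show cv O w (A (vecMulVec (c : ι → F) x)) = _
      rw [hs, LinearMap.mem_ker.1 c.2, smul_zero, add_zero]
    have h1 := room (LinearMap.range Ψ) (by
        rintro _ ⟨c, rfl⟩
        exact ⟨hA.mem _, LinearMap.mem_ker.2 (hcvA _ x hx)⟩) (by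
        rintro _ ⟨c, rfl⟩ hc
        have := hΨ c
        rw [cv_col O (O.h2.symm0 hw) hc] at this
        rw [show c = 0 from Subtype.ext ((smul_eq_zero.1 this.symm).resolve_left hs0), map_zero])
    have hinj : Function.Injective Ψ := (injective_iff_map_eq_zero Ψ).2 fun c hc => by
      have := hΨ c
      rw [hc, map_zero] at this
      exact Subtype.ext ((smul_eq_zero.1 this.symm).resolve_left hs0)
    rw [LinearMap.finrank_range_of_inj hinj] at h1
    have h2 := LinearMap.finrank_range_add_finrank_ker φ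
    rw [Module.finrank_fintype_fun_eq_card] at h2
    omega
  obtain ⟨c, hc⟩ : ∃ c, φ c ≠ 0 := by
    by_contra hc
    push Not at hc
    exact hφ0 (LinearMap.ext hc)
  let Ψ : Z →ₗ[F] MV :=
    { toFun := fun x => A (vecMulVec c (x : κ → F))
      map_add' := fun x y => by rw [Submodule.coe_add, vecMulVec_add, map_add]
      map_smul' := fun t x => by rw [Submodule.coe_smul, vmv_smul, map_smul, RingHom.id_apply] }
  have hΨN : ∀ x, Ψ x ∈ Col v → x = 0 := fun x hx => by
    refine Subtype.ext (hZ0 _ x.2 (O.h2.perp_perp hv fun w hw => ?_))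
    have := hs0 w x hw (hZv _ x.2) c
    rw [cv_col O (O.h2.symm0 hw) (show A (vecMulVec c (x : κ → F)) ∈ Col v from hx)] at this
    exact (smul_eq_zero.1 this.symm).resolve_right hc
  have h1 := room (LinearMap.range Ψ) (by
      rintro _ ⟨x, rfl⟩
      exact ⟨hA.mem _, LinearMap.mem_ker.2 (hcvA _ _ (hZv _ x.2))⟩) (by
      rintro _ ⟨x, rfl⟩ hx
      rw [hΨN x hx, map_zero])
  rw [LinearMap.finrank_range_of_inj ((injective_iff_map_eq_zero Ψ).2 fun x hx =>
    hΨN x (hx ▸ (Col v).zero_mem))] at h1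
  have := O.lt hκ2
  omega

end

end CfsgLib.MaxSub.TensorHerm
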