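/-
Common zeros of a quadric and a hermitian determinant over the fixed field of an involution, by
the theorem of Chevalley and Warning.
-/
import Cfsg.Agent.Lib.MaxSub.TensorHerm.Herm
import Mathlib

set_option autoImplicit false
set_option maxHeartbeats 400000
set_option linter.unusedSectionVars false

namespace CfsgLib.MaxSub.TensorHerm

open MvPolynomial

variable {F : Type*} [Field F] {σ : F →+* F}

/-- The fixed field. -/
def fixK (σ : F →+* F) : Subfield F := RingHom.eqLocusField σ (RingHom.id F)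

theorem mem_fixK {x : F} : x ∈ fixK σ ↔ σ x = x := Iff.rfl

/-- A polynomial over the fixed field with the same fixed values. -/
theorem exists_descend (S : Sig σ) {V : Type*} (P : MvPolynomial V F) :
    ∃ Q : MvPolynomial V (fixK σ), Q.totalDegree ≤ P.totalDegree ∧ ∀ x : V → fixK σ,
      σ (eval (fun v => (x v : F)) P) = eval (fun v => (x v : F)) P →
        ((eval x Q : fixK σ) : F) = eval (fun v => (x v : F)) P := by
  classical
  obtain ⟨k, hk⟩ := S.trace_one
  let π : F → fixK σ := fun a => ⟨k * a + σ (k * a), mem_fixK.2 (S.trace_fix _)⟩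
  refine ⟨∑ m ∈ P.support, monomial m (π (coeff m P)), ?_, fun x hfix => ?_⟩
  · refine (totalDegree_finsetSum _ _).trans (Finset.sup_le fun m hm => ?_)
    exact (totalDegree_monomial_le _ _).trans (le_totalDegree hm)
  · set E := eval (fun v => (x v : F)) P with hE
    have e : E = k * E + σ (k * E) := by
      rw [map_mul, hfix]
      linear_combination -E * hk
    conv_rhs => rw [e, hE, eval_eq, Finset.mul_sum, map_sum, ← Finset.sum_add_distrib]
    rw [map_sum, AddSubmonoidClass.coe_finsetSum]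
    refine Finset.sum_congr rfl fun m _ => ?_
    rw [eval_monomial, Finsupp.prod]
    have hp : σ (∏ i ∈ m.support, (x i : F) ^ m i) = ∏ i ∈ m.support, (x i : F) ^ m i := by
      rw [map_prod]
      exact Finset.prod_congr rfl fun i _ => by rw [map_pow, mem_fixK.1 (x i).2]
    push_cast
    show (k * coeff m P + σ (k * coeff m P)) * _ = _
    rw [map_mul σ k (coeff m P * _), map_mul σ (coeff m P), hp, map_mul σ k]
    ring

/-- A non-trivial common zero. -/
theorem exists_zero [Fintype F] (S : Sig σ) {V : Type*} [Fintype V] [DecidableEq V] {k : Type*}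
    [Fintype k] [DecidableEq k] (hk : Nonempty k) (Φ : V → V → F) (N : V → Matrix k k F)
    (hΦ : ∀ x : V → F, (∀ v, σ (x v) = x v) →
      σ (∑ i, ∑ j, x i * x j * Φ i j) = ∑ i, ∑ j, x i * x j * Φ i j)
    (hN : ∀ x : V → F, (∀ v, σ (x v) = x v) → (∑ v, x v • N v).map σ = (∑ v, x v • N v).transpose)
    (hlt : 2 + Fintype.card k < Fintype.card V) :
    ∃ x : V → F, (∀ v, σ (x v) = x v) ∧ x ≠ 0 ∧ ∑ i, ∑ j, x i * x j * Φ i j = 0 ∧
      (∑ v, x v • N v).det = 0 := by
  classical
  let P₁ : MvPolynomial V F := ∑ i, ∑ j, C (Φ i j) * (X i * X j)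
  let L : Matrix k k (MvPolynomial V F) := fun a b => ∑ v, C (N v a b) * X v
  have hP₁ : P₁.totalDegree ≤ 2 := by
    refine (totalDegree_finsetSum _ _).trans (Finset.sup_le fun i _ => ?_)
    refine (totalDegree_finsetSum _ _).trans (Finset.sup_le fun j _ => ?_)
    refine (totalDegree_mul _ _).trans ?_
    rw [totalDegree_C, zero_add]
    refine (totalDegree_mul _ _).trans ?_
    rw [totalDegree_X, totalDegree_X]
  have hL : ∀ a b, (L a b).totalDegree ≤ 1 := fun a b =>
    (totalDegree_finsetSum _ _).trans (Finset.sup_le fun v _ => (totalDegree_mul _ _).trans (by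
      rw [totalDegree_C, zero_add, totalDegree_X]))
  have hP₂ : L.det.totalDegree ≤ Fintype.card k := by
    rw [Matrix.det_apply']
    refine (totalDegree_finsetSum _ _).trans (Finset.sup_le fun p _ => ?_)
    refine (totalDegree_mul _ _).trans ?_
    rw [show ((Equiv.Perm.sign p : ℤ) : MvPolynomial V F) = C ((Equiv.Perm.sign p : ℤ) : F) by simp,
      totalDegree_C, zero_add]
    refine (totalDegree_finsetProd _ _).trans ?_
    calc ∑ i, (L (p i) i).totalDegree ≤ ∑ _i : k, 1 := Finset.sum_le_sum fun i _ => hL _ _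
      _ = Fintype.card k := by simp
  have e₁ : ∀ x : V → F, eval x P₁ = ∑ i, ∑ j, x i * x j * Φ i j := fun x => by
    simp [P₁, map_sum, mul_comm (Φ _ _)]
  have e₂ : ∀ x : V → F, eval x L.det = (∑ v, x v • N v).det := fun x => by
    rw [RingHom.map_det]
    congr 1
    ext a b
    show eval x (∑ v, C (N v a b) * X v) = _
    simp [map_sum, Matrix.sum_apply, mul_comm (N _ _ _)]
  have hdet : ∀ x : V → F, (∀ v, σ (x v) = x v) →
      σ (∑ v, x v • N v).det = (∑ v, x v • N v).det := fun x hx => by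
    rw [RingHom.map_det, RingHom.mapMatrix_apply, hN x hx, Matrix.det_transpose]
  obtain ⟨Q₁, hQ₁, hQ₁'⟩ := exists_descend S P₁
  obtain ⟨Q₂, hQ₂, hQ₂'⟩ := exists_descend S L.det
  obtain ⟨p, hp⟩ := CharP.exists (fixK σ)
  haveI : Fintype (fixK σ) := Fintype.ofFinite _
  haveI hprime := Fact.mk (CharP.char_is_prime (fixK σ) p)
  have hdvd := char_dvd_card_solutions_of_add_lt p (f₁ := Q₁) (f₂ := Q₂) (by omega)
  have hc : ∀ x : V → fixK σ, ∀ v, σ (x v : F) = x v := fun x v => mem_fixK.1 (x v).2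
  have val : ∀ x : V → fixK σ, (eval x Q₁ = 0 ↔ ∑ i, ∑ j, (x i : F) * x j * Φ i j = 0) ∧
      (eval x Q₂ = 0 ↔ (∑ v, (x v : F) • N v).det = 0) := fun x => by
    refine ⟨?_, ?_⟩
    · rw [← ZeroMemClass.coe_eq_zero, hQ₁' x (by rw [e₁]; exact hΦ _ (hc x)), e₁]
    · rw [← ZeroMemClass.coe_eq_zero, hQ₂' x (by rw [e₂]; exact hdet _ (hc x)), e₂]
  have h0 : eval (0 : V → fixK σ) Q₁ = 0 ∧ eval (0 : V → fixK σ) Q₂ = 0 :=
    ⟨(val 0).1.2 (by simp), (val 0).2.2 (by
      haveI := hk
      simp)⟩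
  obtain ⟨⟨x, hx⟩, hne⟩ := Fintype.exists_ne_of_one_lt_card
      (hprime.out.one_lt.trans_le (Nat.le_of_dvd (Fintype.card_pos_iff.2 ⟨⟨0, h0⟩⟩) hdvd)) ⟨0, h0⟩
  refine ⟨fun v => (x v : F), hc x, fun e => hne (Subtype.ext (funext fun v => Subtype.ext ?_)),
    (val x).1.1 hx.1, (val x).2.1 hx.2⟩
  exact congrFun e v

/-- A non-zero real point where a hermitian pencil is singular. -/
theorem exists_det_zero [Fintype F] (S : Sig σ) {V : Type*} [Fintype V] [DecidableEq V] {k : Type*}
    [Fintype k] [DecidableEq k] (hk : Nonempty k) (N : V → Matrix k k F)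
    (hN : ∀ x : V → F, (∀ v, σ (x v) = x v) → (∑ v, x v • N v).map σ = (∑ v, x v • N v).transpose)
    (hlt : Fintype.card k < Fintype.card V) :
    ∃ x : V → F, (∀ v, σ (x v) = x v) ∧ x ≠ 0 ∧ (∑ v, x v • N v).det = 0 := by
  classical
  let L : Matrix k k (MvPolynomial V F) := fun a b => ∑ v, C (N v a b) * X v
  have hL : ∀ a b, (L a b).totalDegree ≤ 1 := fun a b =>
    (totalDegree_finsetSum _ _).trans (Finset.sup_le fun v _ => (totalDegree_mul _ _).trans (by
      rw [totalDegree_C, zero_add, totalDegree_X]))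
  have hP₂ : L.det.totalDegree ≤ Fintype.card k := by
    rw [Matrix.det_apply']
    refine (totalDegree_finsetSum _ _).trans (Finset.sup_le fun p _ => ?_)
    refine (totalDegree_mul _ _).trans ?_
    rw [show ((Equiv.Perm.sign p : ℤ) : MvPolynomial V F) = C ((Equiv.Perm.sign p : ℤ) : F) by simp,
      totalDegree_C, zero_add]
    refine (totalDegree_finsetProd _ _).trans ?_
    calc ∑ i, (L (p i) i).totalDegree ≤ ∑ _i : k, 1 := Finset.sum_le_sum fun i _ => hL _ _
      _ = Fintype.card k := by simp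
  have e₂ : ∀ x : V → F, eval x L.det = (∑ v, x v • N v).det := fun x => by
    rw [RingHom.map_det]
    congr 1
    ext a b
    show eval x (∑ v, C (N v a b) * X v) = _
    simp [map_sum, Matrix.sum_apply, mul_comm (N _ _ _)]
  have hdet : ∀ x : V → F, (∀ v, σ (x v) = x v) →
      σ (∑ v, x v • N v).det = (∑ v, x v • N v).det := fun x hx => by
    rw [RingHom.map_det, RingHom.mapMatrix_apply, hN x hx, Matrix.det_transpose]
  obtain ⟨Q₂, hQ₂, hQ₂'⟩ := exists_descend S L.det
  obtain ⟨p, hp⟩ := CharP.exists (fixK σ)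
  haveI : Fintype (fixK σ) := Fintype.ofFinite _
  haveI hprime := Fact.mk (CharP.char_is_prime (fixK σ) p)
  have hdvd := char_dvd_card_solutions p (f := Q₂) (by omega)
  have hc : ∀ x : V → fixK σ, ∀ v, σ (x v : F) = x v := fun x v => mem_fixK.1 (x v).2
  have val : ∀ x : V → fixK σ, eval x Q₂ = 0 ↔ (∑ v, (x v : F) • N v).det = 0 := fun x => by
    rw [← ZeroMemClass.coe_eq_zero, hQ₂' x (by rw [e₂]; exact hdet _ (hc x)), e₂]
  have h0 : eval (0 : V → fixK σ) Q₂ = 0 := (val 0).2 (by
    haveI := hk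
    simp)
  obtain ⟨⟨x, hx⟩, hne⟩ := Fintype.exists_ne_of_one_lt_card
      (hprime.out.one_lt.trans_le (Nat.le_of_dvd (Fintype.card_pos_iff.2 ⟨⟨0, h0⟩⟩) hdvd)) ⟨0, h0⟩
  refine ⟨fun v => (x v : F), hc x, fun e => hne (Subtype.ext (funext fun v => Subtype.ext ?_)),
    (val x).1 hx⟩
  exact congrFun e v

end CfsgLib.MaxSub.TensorHerm
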