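/-
A member that is not pure gives a non-scalar endomorphism: induction on the rank of its pairing with
an isotropic space of pure tensors.
-/
import Cfsg.Agent.Lib.MaxSub.TensorHerm.Stab
import Cfsg.Agent.Lib.MaxSub.TensorHerm.Warning

set_option autoImplicit false
set_option maxHeartbeats 1200000
set_option linter.unusedSectionVars false

namespace CfsgLib.MaxSub.TensorHerm

open Matrix Module
open CfsgLib.MaxSub.TensorLin (Col colMap colMap_apply mem_col finrank_col colMap_injective vmv_eq_zero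
  vmv_zero NP map_map_inv)

variable {F : Type*} [Field F] {ι κ : Type*} [Fintype ι] [Fintype κ] [DecidableEq ι] [DecidableEq κ]
variable {σ : F →+* F} {f1 : (ι → F) → (ι → F) → F} {f2 : (κ → F) → (κ → F) → F}
  {f : Matrix ι κ F → Matrix ι κ F → F} {G : Subgroup (Matrix ι κ F ≃ₗ[F] Matrix ι κ F)}

local notation "MV" => Matrix ι κ F

section

variable (O : TU σ f1 f2 f G)
include O

theorem f_dl (v w : κ → F) (μ : F) (X Y : MV) : f (dl O v w μ X) Y =
    f1 (cv O v X) (cv O w Y) - f1 (cv O w X) (cv O v Y) + μ * f1 (cv O v X) (cv O v Y) := by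
  rw [dl_apply, O.h.add_left, O.h.sub_left, O.h.smul_left, f_cv' O, f_cv' O, f_cv' O]

omit O in
theorem vmv_sum {α : Type*} (s : Finset α) (c : ι → F) (g : α → κ → F) :
    vecMulVec c (∑ a ∈ s, g a) = ∑ a ∈ s, vecMulVec c (g a) := by
  ext i j
  simp only [vecMulVec_apply, Matrix.sum_apply, Finset.sum_apply, Finset.mul_sum]

/-- All members that are not pure pair fully with isotropic vectors. -/
def Full (G : Subgroup (Matrix ι κ F ≃ₗ[F] Matrix ι κ F)) (O : TU σ f1 f2 f G) : Prop :=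
  ∀ L, Mem f2 G L → NP L → ∀ v, v ≠ 0 → f2 v v = 0 → ¬ rank O L v < Fintype.card ι

theorem full_injective (hF : Full G O) {M : Submodule F MV} (hM : Mem f2 G M) (hnp : NP M) {v : κ → F}
    (hv : v ≠ 0) (hvv : f2 v v = 0) {m : MV} (hm : m ∈ M) (h : cv O v m = 0) : m = 0 := by
  have h1 := hF M hM hnp v hv hvv
  have h2 := rank_add_ker O hM v
  have h3 : (M ⊓ LinearMap.ker (cv O v) : Submodule F MV) = ⊥ := Submodule.finrank_eq_zero.1 (by omega)
  exact (Submodule.eq_bot_iff _).1 h3 m ⟨hm, LinearMap.mem_ker.2 h⟩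

theorem tr_injective (hF : Full G O) {M : Submodule F MV} (hM : Mem f2 G M) (hnp : NP M)
    {A : MV →ₗ[F] MV} (hA : Tr f G M A) {v : κ → F} (hv : v ≠ 0) (hvv : f2 v v = 0) {c : ι → F}
    (h : A (vecMulVec c v) = 0) : c = 0 := by
  refine O.h1.nondeg c fun d => O.h1.symm0 ?_
  have hsurj : M.map (cv O v) = ⊤ := by
    refine Submodule.eq_top_of_finrank_eq (le_antisymm (Submodule.finrank_le _) ?_)
    rw [Module.finrank_fintype_fun_eq_card]
    exact Nat.le_of_not_lt (hF M hM hnp v hv hvv)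
  obtain ⟨m, hm, rfl⟩ := hsurj.ge (Submodule.mem_top (x := d))
  rw [← f_cv O]
  exact O.h.symm0 (hA.perp O h hm)

/-- The third member is pure. -/
theorem pureThree (hex : ¬ Ex O) (hF : Full G O) {M : Submodule F MV} (hM : Mem f2 G M) (hnp : NP M)
    {A : MV →ₗ[F] MV} (hA : Tr f G M A) {v w : κ → F} {μ : F} (hv : v ≠ 0) (hvv : f2 v v = 0)
    (hwv : f2 w v = 0) (hw : w ∉ F ∙ v) (hμ : μ + σ μ = -f2 w w)
    (hB : ∀ X ∈ M, ∀ Y ∈ M, f (dl O v w μ X) Y = 0) :
    ∃ δ : F, ∀ c, cv O (w + δ • v) (A (vecMulVec c v)) = -c := by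
  obtain ⟨y, hy, hyX⟩ := hA.elem
  obtain ⟨E, hE, hEX, -⟩ := eich O hvv hwv hμ
  have hvw : f2 v w = 0 := O.h2.symm0 hwv
  have hδN : ∀ c, dl O v w μ (vecMulVec c v) = 0 := fun c => by simp [dl_apply, cv_pure, hvv, hvw]
  have hcalc : ∀ c, (y * E * y⁻¹ * E⁻¹) (vecMulVec c v)
      = vecMulVec c v - dl O v w μ (A (vecMulVec c v)) := fun c => by
    show y (E (y.symm (E.symm (vecMulVec c v)))) = _
    rw [show E.symm (vecMulVec c v) = vecMulVec c v from
      E.injective (by rw [E.apply_symm_apply, hEX, hδN, add_zero]), hA.inv hyX, hEX, map_sub (dl O v w μ),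
      hδN, hyX, map_add A, map_sub A, map_sub A, hA.sq, map_zero,
      hA.ker (dl O v w μ (A (vecMulVec c v))) fun m hm => hB _ (hA.mem _) m hm]
    abel
  have hδv : ∀ X, cv O v (dl O v w μ X) = 0 := fun X => by simp [dl_apply, cv_pure, hvv, hwv]
  set L := (Col (ι := ι) v).map (y * E * y⁻¹ * E⁻¹).toLinearMap
  have hLm : Mem f2 G L := mem_map O (mem_col_self O hv hvv)
    (mul_mem (mul_mem (mul_mem hy hE) (inv_mem hy)) (inv_mem hE))
  obtain ⟨u', hu'⟩ : ∃ u', L = Col u' := by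
    by_contra hc
    push Not at hc
    refine hF L hLm hc v hv hvv ?_
    have h0 : rank O L v = 0 := (rank_eq_zero O).2 fun X hX => by
      obtain ⟨Y, hY, rfl⟩ := hX
      obtain ⟨c, rfl⟩ := mem_col.1 hY
      show cv O v ((y * E * y⁻¹ * E⁻¹) (vecMulVec c v)) = 0
      rw [hcalc, map_sub, hδv, cv_pure, hvv, zero_smul, sub_zero]
    rw [h0]
    have := O.two
    omega
  -- dual vectors
  obtain ⟨x₁, hx₁v, hx₁w⟩ : ∃ x, f2 v x = 0 ∧ f2 w x = 1 := by
    obtain ⟨x, hx, hxw⟩ : ∃ x, f2 x v = 0 ∧ f2 w x ≠ 0 := by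
      by_contra hc
      push Not at hc
      exact hw (O.h2.perp_perp hv hc)
    refine ⟨σ ((f2 w x)⁻¹) • x, by rw [O.h2.smul_right, O.h2.symm0 hx, mul_zero], ?_⟩
    rw [O.h2.smul_right, O.sg.invol, inv_mul_cancel₀ hxw]
  obtain ⟨z, -, -, hz⟩ := O.h2.exists_partner O.sg hv hvv
  set x₂ := z - σ (f2 w z) • x₁ with hx₂
  have hx₂v : f2 v x₂ = 1 := by rw [hx₂, O.h2.sub_right, O.h2.smul_right, hx₁v, mul_zero, sub_zero, hz]
  have hx₂w : f2 w x₂ = 0 := by
    rw [hx₂, O.h2.sub_right, O.h2.smul_right, O.sg.invol, hx₁w, mul_one, sub_self]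
  have heq : ∀ c, ∃ d,
      -cv O v (A (vecMulVec c v)) = f2 u' x₁ • d ∧
      c + cv O w (A (vecMulVec c v)) - μ • cv O v (A (vecMulVec c v)) = f2 u' x₂ • d := fun c => by
    have hmem : vecMulVec c v - dl O v w μ (A (vecMulVec c v)) ∈ Col u' := by
      rw [← hu', ← hcalc]
      exact ⟨_, mem_col.2 ⟨c, rfl⟩, rfl⟩
    obtain ⟨d, hd⟩ := mem_col.1 hmem
    refine ⟨d, ?_, ?_⟩
    · have := congrArg (cv O x₁) hd
      rw [cv_pure] at this
      rw [this, dl_apply]
      simp [cv_pure, hx₁v, hx₁w]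
    · have := congrArg (cv O x₂) hd
      rw [cv_pure] at this
      rw [this, dl_apply]
      simp [cv_pure, hx₂v, hx₂w]
      abel
  have hα : f2 u' x₁ ≠ 0 := fun e => by
    have := O.two
    obtain ⟨i⟩ : Nonempty ι := Fintype.card_pos_iff.1 (by omega)
    obtain ⟨d, h1, -⟩ := heq (Pi.single i 1)
    rw [e, zero_smul, neg_eq_zero] at h1
    have := tr_injective O hF hM hnp hA hv hvv (full_injective O hF hM hnp hv hvv (hA.mem _) h1)
    simp at this
  refine ⟨σ (f2 u' x₂ / f2 u' x₁ - μ), fun c => ?_⟩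
  obtain ⟨d, h1, h2⟩ := heq c
  rw [cv_add_vec, cv_smul_vec, O.sg.invol, ← add_eq_zero_iff_eq_neg]
  have h3 : (f2 u' x₂ / f2 u' x₁) • cv O v (A (vecMulVec c v)) = -(f2 u' x₂ • d) := by
    rw [← neg_neg (cv O v (A (vecMulVec c v))), h1, smul_neg, smul_smul, div_mul_cancel₀ _ hα]
  rw [sub_smul, h3, ← h2]
  abel

/-- The case of full pairing leads to a contradiction. -/
theorem full_false (hex : ¬ Ex O) (hF : Full G O) {M : Submodule F MV} (hM : Mem f2 G M) (hnp : NP M)
    {v w : κ → F} {μ : F} (hv : v ≠ 0) (hvv : f2 v v = 0) (hww : f2 w w = 0) (hwv : f2 w v = 0)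
    (hw : w ∉ F ∙ v) (hμ : μ + σ μ = 0) (hB : ∀ X ∈ M, ∀ Y ∈ M, f (dl O v w μ X) Y = 0) : False := by
  obtain ⟨A, hA⟩ := exists_tr O hM
  have hμ' : μ + σ μ = -f2 w w := by rw [hww, neg_zero]; exact hμ
  have hA1 : Tr f G M A := by simpa using hA 1 (map_one σ) one_ne_zero
  obtain ⟨δ, hδ⟩ := pureThree O hex hF hM hnp hA1 hv hvv hwv hw hμ' hB
  have := O.two
  obtain ⟨i⟩ : Nonempty ι := Fintype.card_pos_iff.1 (by omega)
  have hc₀ : (Pi.single i 1 : ι → F) ≠ 0 := by simp
  have hne : ∀ a b : F, a ≠ 0 → a • w + b • v ≠ 0 := fun a b ha e => hw (by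
    refine Submodule.mem_span_singleton.2 ⟨-(b / a), ?_⟩
    rw [eq_neg_of_add_eq_zero_right e |> fun h : b • v = -(a • w) => show -(b / a) • v = w by
      rw [neg_smul, div_eq_inv_mul, mul_smul, h, smul_neg, smul_smul, inv_mul_cancel₀ ha, one_smul, neg_neg]])
  have hiso : ∀ a b : F, f2 (a • w + b • v) (a • w + b • v) = 0 := fun a b => by
    simp [O.h2.add_left, O.h2.add_right, O.h2.smul_left, O.h2.smul_right, hww, hvv, hwv, O.h2.symm0 hwv]
  by_cases hq : ∃ t : F, σ t = t ∧ t ≠ 0 ∧ t ≠ 1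
  · obtain ⟨t, ht, ht0, ht1⟩ := hq
    obtain ⟨δ', hδ'⟩ := pureThree O hex hF hM hnp (hA t ht ht0) hv hvv hwv hw hμ' hB
    have e : (w + δ' • v) - t⁻¹ • (w + δ • v) = (1 - t⁻¹) • w + (δ' - t⁻¹ * δ) • v := by module
    have h1 := hne (1 - t⁻¹) (δ' - t⁻¹ * δ)
      (sub_ne_zero.2 fun h => ht1 (by rw [← inv_inv t, ← h, inv_one]))
    have h2 := hiso (1 - t⁻¹) (δ' - t⁻¹ * δ)
    rw [← e] at h1 h2
    have hz := hδ' (Pi.single i 1)
    rw [LinearMap.smul_apply, map_smul] at hz
    refine hc₀ (tr_injective O hF hM hnp hA1 hv hvv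
      (full_injective O hF hM hnp h1 h2 (hA1.mem _) ?_))
    rw [cv_sub_vec, cv_smul_vec, map_inv₀, ht, hδ, ← hz, smul_smul, inv_mul_cancel₀ ht0, one_smul, sub_self]
  push Not at hq
  have h2 : (2 : F) = 0 := by
    have := hq (-1) (by rw [map_neg, map_one]) (neg_ne_zero.2 one_ne_zero)
    linear_combination -this
  have hneg : ∀ {U : Type _} [AddCommGroup U] [Module F U] (x : U), x + x = 0 := fun {U} _ _ x => by
    rw [← two_smul F, h2, zero_smul]
  set u := w + δ • v with hu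
  have huv : f2 u v = 0 := by rw [hu, O.h2.add_left, O.h2.smul_left, hwv, hvv, mul_zero, add_zero]
  have huu : f2 u u = 0 := by simpa using hiso 1 δ
  have hunv : u ∉ F ∙ v := fun h => hw (by
    have := Submodule.sub_mem _ h (Submodule.smul_mem _ δ (Submodule.mem_span_singleton_self v))
    rwa [hu, add_sub_cancel_right] at this)
  have hu0 : u ≠ 0 := fun e => hunv (by rw [e]; exact zero_mem _)
  -- the imaginary parameter
  have hμδ : μ = δ - σ δ := by
    have hcv : ∀ X, cv O u X = cv O w X + σ δ • cv O v X := fun X => by rw [hu, cv_add_vec, cv_smul_vec]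
    obtain ⟨d, hd⟩ : ∃ d, f1 (cv O v (A (vecMulVec (Pi.single i 1) v)))
        (cv O v (A (vecMulVec d v))) ≠ 0 := by
      by_contra hc
      push Not at hc
      refine hc₀ (tr_injective O hF hM hnp hA1 hv hvv (full_injective O hF hM hnp hv hvv (hA1.mem _)
        (O.h1.nondeg _ fun e => ?_)))
      have hsurj : Function.Surjective fun d => cv O v (A (vecMulVec d v)) :=
        LinearMap.surjective_of_injective (f := cv O v ∘ₗ A ∘ₗ colMap v)
          ((injective_iff_map_eq_zero (cv O v ∘ₗ A ∘ₗ colMap v)).2 fun d hd =>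
            tr_injective O hF hM hnp hA1 hv hvv (full_injective O hF hM hnp hv hvv (hA1.mem _) hd))
      obtain ⟨d, rfl⟩ := hsurj e
      exact hc d
    have hs := hA1.skew (vecMulVec (Pi.single i 1) v) (vecMulVec d v)
    rw [f_cv O, f_cv' O] at hs
    have hb := hB _ (hA1.mem (vecMulVec (Pi.single i 1) v)) _ (hA1.mem (vecMulVec d v))
    rw [f_dl O] at hb
    have ew : ∀ X, cv O w X = cv O u X - σ δ • cv O v X := fun X => by rw [hcv, add_sub_cancel_right]
    rw [ew, ew, hu, hδ, hδ, O.h1.sub_right, O.h1.sub_left, O.h1.neg_right, O.h1.neg_left, O.h1.smul_right,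
      O.h1.smul_left, O.sg.invol] at hb
    have h3 : (μ - δ + σ δ) * f1 (cv O v (A (vecMulVec (Pi.single i 1) v)))
        (cv O v (A (vecMulVec d v))) = 0 := by
      linear_combination hb + hs - (f1 (Pi.single i 1) (cv O v (A (vecMulVec d v)))) * h2
    linear_combination (mul_eq_zero.1 h3).resolve_right hd
  -- the adjoint relation
  have hadj : ∀ c, cv O v (A (vecMulVec c u)) = c := fun c => O.h1.ext_left fun d => by
    rw [← f_cv O, hA1.skew, f_cv' O, hu, hδ, O.h1.neg_right, neg_neg]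
  -- the second pair
  set v' := v + u with hv'
  have hv'v : f2 v' v' = 0 := by
    simp [hv', O.h2.add_left, O.h2.add_right, hvv, huu, huv, O.h2.symm0 huv]
  have huv' : f2 u v' = 0 := by rw [hv', O.h2.add_right, huv, huu, add_zero]
  have hv'0 : v' ≠ 0 := fun e => hunv (Submodule.mem_span_singleton.2 ⟨-1, by
    rw [neg_one_smul]; exact neg_eq_of_add_eq_zero_right e⟩)
  have hunv' : u ∉ F ∙ v' := fun h => by
    obtain ⟨t, ht⟩ := Submodule.mem_span_singleton.1 h
    rw [hv', smul_add] at ht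
    have : t • v = (1 - t) • u := by rw [sub_smul, one_smul, eq_sub_iff_add_eq]; exact ht
    rcases eq_or_ne t 1 with rfl | ht1
    · rw [sub_self, zero_smul, one_smul] at this
      exact hv this
    · refine hunv (Submodule.mem_span_singleton.2 ⟨(1 - t)⁻¹ * t, ?_⟩)
      rw [mul_smul, this, smul_smul, inv_mul_cancel₀ (sub_ne_zero.2 (Ne.symm ht1)), one_smul]
  have hsame : ∀ X, dl O v' u 0 X = dl O v w μ X := fun X => by
    rw [dl_apply, dl_apply, hv', cv_add_vec, hu, cv_add_vec, cv_smul_vec, hμδ]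
    simp only [add_vecMulVec, vecMulVec_add, smul_vecMulVec, vmv_smul, zero_smul, add_zero, smul_add]
    module
  obtain ⟨δ', hδ'⟩ := pureThree O hex hF hM hnp hA1 hv'0 hv'v huv' hunv' (μ := 0)
    (by rw [huu, map_zero, add_zero, neg_zero]) (fun X hX Y hY => by rw [hsame]; exact hB X hX Y hY)
  have hfix : σ δ' = δ' := by
    have hB' : ∀ X ∈ M, ∀ Y ∈ M, f (dl O v' u 0 X) Y = 0 := fun X hX Y hY => by
      rw [hsame]; exact hB X hX Y hY
    by_contra hne'
    obtain ⟨d, hd⟩ : ∃ d, f1 (cv O v' (A (vecMulVec (Pi.single i 1) v')))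
        (cv O v' (A (vecMulVec d v'))) ≠ 0 := by
      by_contra hc
      push Not at hc
      refine hc₀ (tr_injective O hF hM hnp hA1 hv'0 hv'v (full_injective O hF hM hnp hv'0 hv'v (hA1.mem _)
        (O.h1.nondeg _ fun e => ?_)))
      have hsurj : Function.Surjective fun d => cv O v' (A (vecMulVec d v')) :=
        LinearMap.surjective_of_injective (f := cv O v' ∘ₗ A ∘ₗ colMap v')
          ((injective_iff_map_eq_zero (cv O v' ∘ₗ A ∘ₗ colMap v')).2 fun d hd =>
            tr_injective O hF hM hnp hA1 hv'0 hv'v (full_injective O hF hM hnp hv'0 hv'v (hA1.mem _) hd))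
      obtain ⟨d, rfl⟩ := hsurj e
      exact hc d
    have hs := hA1.skew (vecMulVec (Pi.single i 1) v') (vecMulVec d v')
    rw [f_cv O, f_cv' O] at hs
    have hb := hB' _ (hA1.mem (vecMulVec (Pi.single i 1) v')) _ (hA1.mem (vecMulVec d v'))
    rw [f_dl O] at hb
    have ew : ∀ X, cv O u X = cv O (u + δ' • v') X - σ δ' • cv O v' X := fun X =>
      eq_sub_of_add_eq (by rw [← cv_smul_vec, ← cv_add_vec])
    rw [ew, ew, hδ', hδ', O.h1.sub_right, O.h1.sub_left, O.h1.neg_right, O.h1.neg_left, O.h1.smul_right,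
      O.h1.smul_left, O.sg.invol] at hb
    have h3 : (σ δ' - δ') * f1 (cv O v' (A (vecMulVec (Pi.single i 1) v')))
        (cv O v' (A (vecMulVec d v'))) = 0 := by
      linear_combination hb + hs - (f1 (Pi.single i 1) (cv O v' (A (vecMulVec d v')))) * h2
    exact hne' (sub_eq_zero.1 ((mul_eq_zero.1 h3).resolve_right hd))
  have hz := hδ' (Pi.single i 1)
  rw [hv', vecMulVec_add, map_add A, map_add] at hz
  rcases eq_or_ne δ' 0 with rfl | hd0
  · rw [zero_smul, add_zero, hu, hδ, ← hu, add_eq_left] at hz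
    have h0 := full_injective O hF hM hnp hu0 huu (hA1.mem _) hz
    have h := hadj (Pi.single i 1)
    rw [h0, map_zero] at h
    exact hc₀ h.symm
  · rw [hq δ' hfix hd0, one_smul, add_left_comm, hneg, add_zero, hadj] at hz
    refine hc₀ (tr_injective O hF hM hnp hA1 hv hvv (full_injective O hF hM hnp hv hvv (hA1.mem _) ?_))
    rw [eq_sub_of_add_eq hz, sub_eq_add_neg, ← neg_add, ← two_smul F, h2, zero_smul, neg_zero]

/-- A hermitian combination of the two transvections and the Siegel element of a singular plane. -/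
theorem exists_root_four [Fintype F] (hκ2 : Fintype.card κ ≠ 2) {M : Submodule F MV} (hM : Mem f2 G M) {v : κ → F}
    (hv : v ≠ 0) (hvv : f2 v v = 0) (hκ : Fintype.card κ = 4) (hι : Fintype.card ι = 3)
    (hfull : 3 = Fintype.card ι → ∀ x, x ≠ 0 → f2 x x = 0 → rank O M x = 3) :
    ∃ v w μ z, v ≠ 0 ∧ f2 v v = 0 ∧ rank O M v = 3 ∧ (∀ X ∈ M, cv O v X = 0 → X ∈ Col v) ∧
      f2 w v = 0 ∧ (w ∈ F ∙ v → w = 0) ∧ f2 w w = 0 ∧ μ + σ μ = 0 ∧ (w = 0 → μ ≠ 0) ∧ z ∈ M ∧
      cv O v z ≠ 0 ∧ ∀ Y ∈ M, f (dl O v w μ z) Y = 0 := by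
  classical
  have hinj : ∀ x, x ≠ 0 → f2 x x = 0 → ∀ X ∈ M, cv O x X = 0 → X = 0 := fun x hx hxx X hX h0 => by
    have h1 := rank_add_ker O hM x
    rw [hfull hι.symm x hx hxx, hι] at h1
    have h3 : (M ⊓ LinearMap.ker (cv O x) : Submodule F MV) = ⊥ := Submodule.finrank_eq_zero.1 (by omega)
    exact (Submodule.eq_bot_iff _).1 h3 X ⟨hX, LinearMap.mem_ker.2 h0⟩
  obtain ⟨Z, hZv, hZ0, hZdim⟩ := exists_compl O hv hvv
  obtain ⟨w₀, hw₀Z, hw₀, hw₀w₀⟩ := O.h2.exists_iso_mem O.sg (W := Z) (by omega)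
  have hw₀v := hZv w₀ hw₀Z
  have hvw₀ := O.h2.symm0 hw₀v
  have hw₀n : w₀ ∉ F ∙ v := fun h => hw₀ (hZ0 w₀ hw₀Z h)
  obtain ⟨η, hη⟩ := O.sg.moved
  obtain ⟨l, hl0, hl⟩ := O.sg.skew
  let bM := Module.finBasisOfFinrankEq F M (show finrank F M = 3 by rw [mem_finrank O hM, hι])
  let tv' : Fin 4 → F := ![1, η, 0, 0]
  let μv : Fin 4 → F := ![0, 0, l, 0]
  let κv : Fin 4 → F := ![0, 0, 0, l]
  let D : F → F → F → MV → MV → F := fun t m k X Y =>
    f (dl O v (t • w₀) m X) Y + k * f1 (cv O w₀ X) (cv O w₀ Y)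
  let Nv : Fin 4 → Matrix (Fin 3) (Fin 3) F := fun a =>
    Matrix.of fun i j => l * D (tv' a) (μv a) (κv a) (bM i : MV) (bM j : MV)
  have hD : ∀ t m k X Y, D t m k X Y = t * f1 (cv O v X) (cv O w₀ Y) - σ t * f1 (cv O w₀ X) (cv O v Y) +
      m * f1 (cv O v X) (cv O v Y) + k * f1 (cv O w₀ X) (cv O w₀ Y) := fun t m k X Y => by
    simp only [D, f_dl O, cv_smul_vec, O.h1.smul_right, O.h1.smul_left, O.sg.invol]
  have hsum : ∀ x : Fin 4 → F, (∀ a, σ (x a) = x a) → ∀ i j, (∑ a, x a • Nv a) i j =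
      l * D (x 0 + x 1 * η) (x 2 * l) (x 3 * l) (bM i : MV) (bM j : MV) := fun x hx i j => by
    simp only [Matrix.sum_apply, Matrix.smul_apply, Nv, Matrix.of_apply, hD, smul_eq_mul, Fin.sum_univ_four]
    simp [tv', μv, κv, map_add, map_mul, hx]
    ring
  have hskew : ∀ x : Fin 4 → F, (∀ a, σ (x a) = x a) → ∀ i : Fin 4, x i * l + σ (x i * l) = 0 :=
    fun x hx i => by rw [map_mul, hx]; linear_combination x i * hl
  obtain ⟨x, hx, hx0, hxdet⟩ := exists_det_zero O.sg (k := Fin 3) ⟨0⟩ Nv (fun x hx => by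
    ext i j
    rw [Matrix.map_apply, Matrix.transpose_apply, hsum x hx, hsum x hx, hD, hD]
    simp only [map_mul, map_add, map_sub, O.sg.invol, ← O.h1.herm, hx,
      eq_neg_of_add_eq_zero_right hl]
    ring) (by simp)
  obtain ⟨a, ha0, ha⟩ := Matrix.exists_vecMul_eq_zero_iff.2 hxdet
  set t := x 0 + x 1 * η with ht
  set m := x 2 * l with hm
  set k := x 3 * l with hk
  have hms : m + σ m = 0 := hskew x hx 2
  have hks : k + σ k = 0 := hskew x hx 3
  have hne : ¬ (t = 0 ∧ m = 0 ∧ k = 0) := fun ⟨e1, e2, e3⟩ => hx0 (by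
    have h1 : x 1 = 0 := by
      by_contra h1
      refine hη ?_
      have e : η = -(x 0) / x 1 := by rw [eq_div_iff h1]; linear_combination e1
      rw [e, map_div₀, map_neg, hx, hx]
    funext i
    fin_cases i
    · simpa [ht, h1] using e1
    · exact h1
    · exact (mul_eq_zero.1 e2).resolve_right hl0
    · exact (mul_eq_zero.1 e3).resolve_right hl0)
  set z : M := ∑ i, a i • bM i with hz
  have hz0 : (z : MV) ≠ 0 := fun e => ha0 (funext
    (Fintype.linearIndependent_iff.1 bM.linearIndependent a (Subtype.ext e)))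
  have hzD : ∀ Y ∈ M, D t m k z Y = 0 := by
    intro Y hY
    obtain ⟨Y', rfl⟩ : ∃ Y' : M, (Y' : MV) = Y := ⟨⟨Y, hY⟩, rfl⟩
    have hlin : ∀ j, D t m k z (bM j : MV) = 0 := fun j => by
      have hj := congrFun ha j
      simp only [Matrix.vecMul, dotProduct, Pi.zero_apply, hsum x hx] at hj
      refine (mul_eq_zero.1 (?_ : l * D t m k z (bM j : MV) = 0)).resolve_left hl0
      rw [← hj]
      simp only [hD, hz, ht, hm, hk, Fin.sum_univ_three, Submodule.coe_add, Submodule.coe_smul,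
        map_add (cv O v), map_add (cv O w₀), map_smul, O.h1.add_left, O.h1.smul_left]
      ring
    rw [show (Y' : MV) = ∑ j, bM.repr Y' j • (bM j : MV) by
      conv_lhs => rw [← bM.sum_repr Y']
      rw [AddSubmonoidClass.coe_finsetSum]
      rfl]
    have := hlin 0; have := hlin 1; have := hlin 2
    simp only [hD, map_sum, map_smul, Fin.sum_univ_three, map_add, O.h1.add_right, O.h1.smul_right] at *
    linear_combination σ (bM.repr Y' 0) * hlin 0 + σ (bM.repr Y' 1) * hlin 1 + σ (bM.repr Y' 2) * hlin 2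
  rcases eq_or_ne k 0 with hk0 | hk0
  · refine ⟨v, t • w₀, m, z, hv, hvv, hfull hι.symm v hv hvv,
      fun X hX h => by rw [hinj v hv hvv X hX h]; exact zero_mem _,
      by rw [O.h2.smul_left, hw₀v, mul_zero], fun h => ?_,
      by rw [O.h2.smul_left, O.h2.smul_right, hw₀w₀, mul_zero, mul_zero], hms, fun h e => ?_, z.2,
      fun h => hz0 (hinj v hv hvv _ z.2 h), fun Y hY => ?_⟩
    · by_contra h0
      obtain ⟨ht0, -⟩ := smul_ne_zero_iff.1 h0
      exact hw₀n (by simpa [smul_smul, inv_mul_cancel₀ ht0] using Submodule.smul_mem _ t⁻¹ h)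
    · exact hne ⟨(smul_eq_zero.1 h).resolve_right hw₀, e, hk0⟩
    · have h1 := hzD Y hY
      simpa [D, hk0] using h1
  -- a new first vector
  have hσk : σ k = -k := by linear_combination hks
  set s := σ t / k with hsdef
  have hs1 : k * s = σ t := by rw [hsdef, mul_comm, div_mul_cancel₀ _ hk0]
  have hs2 : k * σ s = -t := by
    rw [hsdef, map_div₀, O.sg.invol, hσk, div_neg, mul_neg, mul_comm, div_mul_cancel₀ _ hk0]
  set B := k * (s * σ s) + t * s - σ (t * s) + m with hBdef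
  have hBs : σ B = -B := by
    rw [hBdef]
    simp only [map_add, map_sub, map_mul, O.sg.invol, hσk, show σ m = -m by linear_combination hms]
    ring
  obtain ⟨e, he⟩ := O.sg.norm (-B / k) (by
    rw [map_div₀, map_neg, hBs, hσk, div_neg, neg_neg, neg_div])
  set p := e - s with hp
  set u := w₀ + p • v with hu
  set τ₁ := -σ t - k * p with hτ₁
  have huu : f2 u u = 0 := by
    simp [hu, O.h2.add_left, O.h2.add_right, O.h2.smul_left, O.h2.smul_right, hw₀w₀, hvv, hw₀v, hvw₀]
  have hun : u ≠ 0 := fun h => hw₀n (Submodule.mem_span_singleton.2 ⟨-p, by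
    rw [neg_smul]; exact (eq_neg_of_add_eq_zero_left h).symm⟩)
  have hcoef : m - t * p + σ (t * p) + k * (p * σ p) = 0 := by
    have e1 : k * (e * σ e) = -B := by rw [he, mul_comm, div_mul_cancel₀ _ hk0]
    rw [hBdef, map_mul] at e1
    rw [hp, map_mul, map_sub]
    linear_combination e1 - e * hs2 - σ e * hs1
  refine ⟨u, τ₁ • v, k, z, hun, huu, hfull hι.symm u hun huu,
    fun X hX h => by rw [hinj u hun huu X hX h]; exact zero_mem _, ?_, fun h => ?_, ?_, hks,
    fun _ => hk0, z.2, fun h => hz0 (hinj u hun huu _ z.2 h), fun Y hY => ?_⟩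
  · simp [hu, O.h2.add_right, O.h2.smul_left, O.h2.smul_right, hvw₀, hvv]
  · by_contra h0
    obtain ⟨s, hs⟩ := Submodule.mem_span_singleton.1 h
    have hs0 : s ≠ 0 := fun e => h0 (by rw [← hs, e, zero_smul])
    refine hw₀n (Submodule.mem_span_singleton.2 ⟨s⁻¹ * τ₁ - p, ?_⟩)
    rw [sub_smul, mul_smul, ← hs, smul_smul, inv_mul_cancel₀ hs0, one_smul, hu, add_sub_cancel_right]
  · rw [O.h2.smul_left, O.h2.smul_right, hvv, mul_zero, mul_zero]
  · have h1 := hzD Y hY
    rw [hD] at h1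
    rw [f_dl O, hu, cv_add_vec, cv_smul_vec, cv_add_vec, cv_smul_vec, cv_smul_vec, cv_smul_vec]
    simp only [O.h1.add_left, O.h1.add_right, O.h1.smul_left, O.h1.smul_right, O.sg.invol, hτ₁, map_sub,
      map_neg, map_mul, hσk] at hcoef ⊢
    linear_combination h1 - f1 (cv O v (z : MV)) (cv O v Y) * hcoef


/-- A root element with a singular pairing. -/
theorem exists_root [Fintype F] (hκ2 : Fintype.card κ ≠ 2) {M : Submodule F MV} (hM : Mem f2 G M) {r : ℕ} (hr0 : 0 < r) {v : κ → F}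
    (hv : v ≠ 0) (hvv : f2 v v = 0) (hr : rank O M v = r)
    (hperf : ∀ X ∈ M, cv O v X = 0 → X ∈ Col v)
    (hfull : r = Fintype.card ι → ∀ x, x ≠ 0 → f2 x x = 0 → rank O M x = r) :
    ∃ v w μ z, v ≠ 0 ∧ f2 v v = 0 ∧ rank O M v = r ∧ (∀ X ∈ M, cv O v X = 0 → X ∈ Col v) ∧
      f2 w v = 0 ∧ (w ∈ F ∙ v → w = 0) ∧ f2 w w = 0 ∧ μ + σ μ = 0 ∧ (w = 0 → μ ≠ 0) ∧ z ∈ M ∧
      cv O v z ≠ 0 ∧ ∀ Y ∈ M, f (dl O v w μ z) Y = 0 := by
  classical
  have hle : r ≤ Fintype.card ι := by have := rank_add_ker O hM v; omega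
  by_cases hsm : Fintype.card κ = 4 ∧ r = 3
  · obtain ⟨hκ, rfl⟩ := hsm
    exact exists_root_four O hκ2 hM hv hvv hκ (le_antisymm (by have := (O.lt hκ2); omega) hle) hfull
  obtain ⟨Z, hZv, hZ0, hZdim⟩ := exists_compl O hv hvv
  let bz := Module.finBasis F Z
  obtain ⟨η, hη⟩ := O.sg.moved
  obtain ⟨l, hl0, hl⟩ := O.sg.skew
  let bI := (Module.finBasis F (M.map (cv O v))).reindex
    (finCongr (show finrank F (M.map (cv O v)) = r from hr))
  have hpre : ∀ i, ∃ X ∈ M, cv O v X = (bI i : ι → F) := fun i => Submodule.mem_map.1 (bI i).2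
  choose zs hzs hzsv using hpre
  let wv : (Fin (finrank F Z) × Bool) ⊕ Unit → (κ → F) :=
    Sum.elim (fun p => (if p.2 then η else 1) • (bz p.1 : κ → F)) (fun _ => 0)
  let μv : (Fin (finrank F Z) × Bool) ⊕ Unit → F := Sum.elim (fun _ => 0) (fun _ => l)
  let Nv : (Fin (finrank F Z) × Bool) ⊕ Unit → Matrix (Fin r) (Fin r) F :=
    fun a => Matrix.of fun i j => l * f (dl O v (wv a) (μv a) (zs i)) (zs j)
  have hsum : ∀ x : (Fin (finrank F Z) × Bool) ⊕ Unit → F, (∀ a, σ (x a) = x a) → ∀ X,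
      dl O v (∑ a, x a • wv a) (∑ a, x a * μv a) X = ∑ a, x a • dl O v (wv a) (μv a) X := by
    intro x hx X
    have hcv : ∀ s : Finset ((Fin (finrank F Z) × Bool) ⊕ Unit),
        cv O (∑ a ∈ s, x a • wv a) X = ∑ a ∈ s, x a • cv O (wv a) X := fun s => by
      classical
      induction s using Finset.induction with
      | empty => rw [Finset.sum_empty, Finset.sum_empty, cv_zero_vec]
      | insert a s ha ihs => rw [Finset.sum_insert ha, Finset.sum_insert ha, cv_add_vec, cv_smul_vec, hx, ihs]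
    have e1 : vecMulVec (cv O v X) (∑ a, x a • wv a) = ∑ a, x a • vecMulVec (cv O v X) (wv a) := by
      rw [vmv_sum]
      exact Finset.sum_congr rfl fun a _ => vmv_smul _ _ _
    have e2 : vecMulVec (∑ a, x a • cv O (wv a) X) v = ∑ a, x a • vecMulVec (cv O (wv a) X) v := by
      show colMap v _ = _
      rw [map_sum]
      exact Finset.sum_congr rfl fun a _ => map_smul _ _ _
    rw [dl_apply, hcv, e1, e2, Finset.sum_smul, ← Finset.sum_sub_distrib, ← Finset.sum_add_distrib]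
    refine Finset.sum_congr rfl fun a _ => ?_
    rw [dl_apply, smul_add, smul_sub, mul_smul]
  have hμskew : ∀ x : (Fin (finrank F Z) × Bool) ⊕ Unit → F, (∀ a, σ (x a) = x a) →
      (∑ a, x a * μv a) + σ (∑ a, x a * μv a) = 0 := by
    intro x hx
    rw [map_sum, ← Finset.sum_add_distrib]
    refine Finset.sum_eq_zero fun a _ => ?_
    rw [map_mul, hx]
    rcases a with p | u
    · simp [μv]
    · show x (Sum.inr u) * l + x (Sum.inr u) * σ l = 0
      linear_combination x (Sum.inr u) * hl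
  have hNval : ∀ x : (Fin (finrank F Z) × Bool) ⊕ Unit → F, (∀ a, σ (x a) = x a) → ∀ i j,
      (∑ a, x a • Nv a) i j
        = l * f (dl O v (∑ a, x a • wv a) (∑ a, x a * μv a) (zs i)) (zs j) := by
    intro x hx i j
    rw [hsum x hx, O.h.sum_left, Finset.mul_sum, Matrix.sum_apply]
    refine Finset.sum_congr rfl fun a _ => ?_
    rw [O.h.smul_left, Matrix.smul_apply, smul_eq_mul]
    show x a * (l * _) = _
    ring
  have hne : Nonempty (Fin r) := ⟨⟨0, hr0⟩⟩
  obtain ⟨x, hx, hx0, hxΦ, hxdet⟩ := exists_zero O.sg hne (fun a b => f2 (wv a) (wv b)) Nv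
    (fun x hx => by
      have e : ∑ a, ∑ b, x a * x b * f2 (wv a) (wv b)
          = f2 (∑ a, x a • wv a) (∑ a, x a • wv a) := by
        rw [O.h2.sum_left]
        refine Finset.sum_congr rfl fun a _ => ?_
        rw [O.h2.sum_right]
        refine Finset.sum_congr rfl fun b _ => ?_
        rw [O.h2.smul_left, O.h2.smul_right, hx]
        ring
      rw [e, O.h2.self_fix])
    (fun x hx => by
      ext i j
      rw [Matrix.map_apply, Matrix.transpose_apply, hNval x hx, hNval x hx, f_dl O, f_dl O, map_mul, map_add,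
        map_sub, map_mul, ← O.h1.herm, ← O.h1.herm, ← O.h1.herm,
        eq_neg_of_add_eq_zero_right hl, eq_neg_of_add_eq_zero_right (hμskew x hx)]
      ring)
    (by
      simp only [Fintype.card_fin, Fintype.card_sum, Fintype.card_prod, Fintype.card_bool, Fintype.card_unit]
      have := (O.five hκ2)
      have := (O.lt hκ2)
      omega)
  set w := ∑ a, x a • wv a with hwdef
  set μ := ∑ a, x a * μv a with hμdef
  have hww : f2 w w = 0 := by
    rw [← hxΦ, hwdef, O.h2.sum_left]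
    refine Finset.sum_congr rfl fun a _ => ?_
    rw [O.h2.sum_right]
    refine Finset.sum_congr rfl fun b _ => ?_
    rw [O.h2.smul_left, O.h2.smul_right, hx]
    ring
  have hwZ : w ∈ Z := Submodule.sum_mem _ fun a _ => Submodule.smul_mem _ _ (by
    rcases a with p | u
    · exact Submodule.smul_mem _ _ (bz p.1).2
    · exact zero_mem _)
  have hwv := hZv w hwZ
  have hμs : μ + σ μ = 0 := hμskew x hx
  have hwμ : w = 0 → μ ≠ 0 := fun hw0 hμ0 => hx0 (by
    have hwe : w = ∑ i, (x (Sum.inl (i, false)) + x (Sum.inl (i, true)) * η) • (bz i : κ → F) := by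
      rw [hwdef, Fintype.sum_sum_type, Fintype.sum_prod_type]
      simp only [wv, Sum.elim_inl, Sum.elim_inr, smul_zero, Finset.sum_const_zero, add_zero]
      refine Finset.sum_congr rfl fun i _ => ?_
      simp [Fintype.sum_bool, add_smul, smul_smul, add_comm]
    have hli : LinearIndependent F (fun i => (bz i : κ → F)) :=
      bz.linearIndependent.map' Z.subtype (Submodule.ker_subtype Z)
    have h0 := Fintype.linearIndependent_iff.1 hli _ (hwe ▸ hw0)
    funext a
    rcases a with ⟨i, b⟩ | u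
    · have hi := h0 i
      by_cases ht : x (Sum.inl (i, true)) = 0
      · rw [ht, zero_mul, add_zero] at hi
        cases b
        · exact hi
        · exact ht
      · refine absurd ?_ hη
        have e : η = -(x (Sum.inl (i, false))) / x (Sum.inl (i, true)) := by
          rw [eq_div_iff ht]; linear_combination hi
        rw [e, map_div₀, map_neg, hx, hx]
    · rw [hμdef, Fintype.sum_sum_type] at hμ0
      simpa [μv, hl0] using hμ0)
  -- a vector of the kernel
  obtain ⟨a, ha0, ha⟩ := Matrix.exists_vecMul_eq_zero_iff.2 hxdet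
  set z := ∑ i, a i • zs i with hzdef
  have hzM : z ∈ M := M.sum_mem fun i _ => M.smul_mem _ (hzs i)
  have hzv : cv O v z ≠ 0 := fun e => ha0 (by
    have hli : LinearIndependent F (fun i => (bI i : ι → F)) :=
      bI.linearIndependent.map' _ (Submodule.ker_subtype _)
    refine funext (Fintype.linearIndependent_iff.1 hli a ?_)
    rw [← e, hzdef, map_sum]
    exact Finset.sum_congr rfl fun i _ => by rw [map_smul, hzsv])
  have hδv : ∀ X, cv O v (dl O v w μ X) = 0 := fun X => by simp [dl_apply, cv_pure, hvv, hwv]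
  have hδN : ∀ X ∈ Col (ι := ι) v, dl O v w μ X = 0 := fun X hX => by
    rw [dl_apply, cv_col O hvv hX, cv_col O (O.h2.symm0 hwv) hX, zero_vecMulVec, zero_vecMulVec,
      smul_zero, sub_zero, add_zero]
  have hzB : ∀ Y ∈ M, f (dl O v w μ z) Y = 0 := by
    intro Y hY
    have hspan : cv O v Y ∈ M.map (cv O v) := Submodule.mem_map_of_mem hY
    set cf := bI.repr ⟨_, hspan⟩
    have hY' : cv O v (Y - ∑ j, cf j • zs j) = 0 := by
      rw [map_sub, map_sum, sub_eq_zero]
      have := congrArg Subtype.val (bI.sum_repr ⟨_, hspan⟩)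
      rw [AddSubmonoidClass.coe_finsetSum] at this
      refine this.symm.trans (Finset.sum_congr rfl fun j _ => ?_)
      rw [map_smul, hzsv]
      rfl
    have hK := hperf _ (M.sub_mem hY (M.sum_mem fun j _ => M.smul_mem _ (hzs j))) hY'
    rw [← sub_add_cancel Y (∑ j, cf j • zs j), O.h.add_right, perp_col O (hδv z) hK, zero_add,
      O.h.sum_right]
    refine Finset.sum_eq_zero fun j _ => ?_
    rw [O.h.smul_right]
    have hj := congrFun ha j
    simp only [Matrix.vecMul, dotProduct, Pi.zero_apply, hNval x hx] at hj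
    have : f (dl O v w μ z) (zs j) = 0 := by
      refine (mul_eq_zero.1 (?_ : l * f (dl O v w μ z) (zs j) = 0)).resolve_left hl0
      rw [← hj, hzdef, map_sum, O.h.sum_left, Finset.mul_sum]
      refine Finset.sum_congr rfl fun i _ => ?_
      rw [map_smul, O.h.smul_left]
      ring
    rw [this, mul_zero]
  exact ⟨v, w, μ, z, hv, hvv, hr, hperf, hwv, hZ0 w hwZ, hww, hμs, hwμ, hzM, hzv, hzB⟩

/-- A member that is not pure gives a non-scalar endomorphism. -/
theorem ex_of_np [Fintype F] (hκ2 : Fintype.card κ ≠ 2) {M : Submodule F MV} (hM : Mem f2 G M) (hnp : NP M) : Ex O := by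
  by_contra hex
  suffices hall : ∀ r, ∀ L, Mem f2 G L → NP L → ∀ v, v ≠ 0 → f2 v v = 0 → rank O L v ≠ r by
    obtain ⟨v, -, hv, hvv⟩ := O.h2.exists_iso_mem O.sg (W := ⊤) (by
      rw [finrank_top, Module.finrank_fintype_fun_eq_card]; exact O.two')
    exact hall _ M hM hnp v hv hvv rfl
  intro r
  induction r using Nat.strong_induction_on with
  | _ r ih =>
  have ih' : ∀ L, Mem f2 G L → NP L → ∀ v, v ≠ 0 → f2 v v = 0 → ¬ rank O L v < r :=
    fun L hL hn v hv hvv h => ih _ h L hL hn v hv hvv rfl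
  clear ih M hM hnp
  intro M hM hnp v hv hvv hr
  obtain ⟨A, hA⟩ := exists_tr_one O hM
  rcases Nat.eq_zero_or_pos r with rfl | hr0
  · refine hex (stab O hκ2 hnp hM hA hv hvv fun c => ?_)
    rw [hA.ker _ fun m hm => O.h.symm0 (perp_col O ((rank_eq_zero O).1 hr m hm) (mem_col.2 ⟨c, rfl⟩))]
    exact zero_mem _
  -- make the pair perfect
  obtain ⟨M, hM, hnp, hr, hperf⟩ : ∃ M, Mem f2 G M ∧ NP M ∧ rank O M v = r ∧
      ∀ X ∈ M, cv O v X = 0 → X ∈ Col v := by
    have hle : r ≤ Fintype.card ι := by have := rank_add_ker O hM v; omega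
    rcases hle.lt_or_eq with hlt | he
    · obtain ⟨N, hNle, hNperp, hNdim⟩ := exists_perp_part O M hv
      rw [hr] at hNdim
      obtain ⟨y, hy, hyX⟩ := hA.elem
      by_cases hN : ∀ c, A (vecMulVec c v) ∈ Col v
      · exact absurd (stab O hκ2 hnp hM hA hv hvv hN) hex
      push Not at hN
      obtain ⟨c, hc⟩ := hN
      set M' := (Col (ι := ι) v).map y.toLinearMap with hM'
      have hM'm : Mem f2 G M' := mem_map O (mem_col_self O hv hvv) hy
      have hNM' : N ≤ M' := fun n hn => ⟨n, hNle hn, by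
        show y n = n
        rw [hyX, hA.ker n fun m hm => O.h.symm0 (hNperp m hm n hn), add_zero]⟩
      have hNk : N ≤ M' ⊓ LinearMap.ker (cv O v) := le_inf hNM' fun n hn =>
        LinearMap.mem_ker.2 (cv_col O hvv (hNle hn))
      obtain ⟨n, hn, hn0⟩ := (Submodule.ne_bot_iff N).1 fun e => by
        rw [e, finrank_bot] at hNdim
        omega
      have hnp' : NP M' := np_of_meet O (fun e => hc ?_) hn0 (hNM' hn) (hNle hn)
      · have h1 := rank_add_ker O hM'm v
        have h2 := Submodule.finrank_mono hNk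
        have h3 := ih' M' hM'm hnp' v hv hvv
        refine ⟨M', hM'm, hnp', by omega, fun X hX hXv => ?_⟩
        have e := Submodule.eq_of_le_of_finrank_le hNk (by omega)
        exact hNle (e.ge ⟨hX, LinearMap.mem_ker.2 hXv⟩)
      · have h1 : y (vecMulVec c v) ∈ Col v := e ▸ ⟨_, mem_col.2 ⟨c, rfl⟩, rfl⟩
        rw [hyX] at h1
        have := (Col v).sub_mem h1 (mem_col.2 ⟨c, rfl⟩)
        rwa [add_sub_cancel_left] at this
    · refine ⟨M, hM, hnp, hr, fun X hX hXv => ?_⟩
      have h2 := rank_add_ker O hM v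
      have h3 : (M ⊓ LinearMap.ker (cv O v) : Submodule F MV) = ⊥ :=
        Submodule.finrank_eq_zero.1 (by omega)
      rw [(Submodule.eq_bot_iff _).1 h3 X ⟨hX, LinearMap.mem_ker.2 hXv⟩]
      exact zero_mem _
  clear A hA
  obtain ⟨g, hg, v', hv'0, hv'v', hgM⟩ := id hM
  have hker := rank_add_ker O hM v
  rw [hr] at hker
  have hle : r ≤ Fintype.card ι := by omega
  suffices key : ∀ v, v ≠ 0 → f2 v v = 0 → rank O M v = r → (∀ X ∈ M, cv O v X = 0 → X ∈ Col v) →
      ∀ w μ, f2 w v = 0 → (w ∈ F ∙ v → w = 0) → f2 w w = 0 → μ + σ μ = 0 → (w = 0 → μ ≠ 0) →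
      ∀ z ∈ M, cv O v z ≠ 0 → (∀ Y ∈ M, f (dl O v w μ z) Y = 0) → False by
    obtain ⟨v₁, w, μ, z, h1, h2, h3, h4, h5, h6, h7, h8, h9, h10, h11, h12⟩ :=
      exists_root O hκ2 hM hr0 hv hvv hr hperf fun he x hx hxx => by
        by_contra hne
        refine ih' M hM hnp x hx hxx (lt_of_le_of_ne ?_ hne)
        have := rank_add_ker O hM x
        omega
    exact key v₁ h1 h2 h3 h4 w μ h5 h6 h7 h8 h9 z h10 h11 h12
  clear! v
  intro v hv hvv hr hperf w μ hwv hwspan hww hμs hwμ z hzM hzv hzB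
  have hker := rank_add_ker O hM v
  rw [hr] at hker
  obtain ⟨E, hE, hEX, -⟩ := eich O hvv hwv (μ := μ) (by rw [hww, neg_zero]; exact hμs)
  have hδv : ∀ X, cv O v (dl O v w μ X) = 0 := fun X => by simp [dl_apply, cv_pure, hvv, hwv]
  have hδN : ∀ X ∈ Col (ι := ι) v, dl O v w μ X = 0 := fun X hX => by
    rw [dl_apply, cv_col O hvv hX, cv_col O (O.h2.symm0 hwv) hX, zero_vecMulVec, zero_vecMulVec,
      smul_zero, sub_zero, add_zero]
  -- the new member
  set M'' := (M.map E.toLinearMap).map (g⁻¹ : MV ≃ₗ[F] MV).toLinearMap with hM''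
  have hM''m : Mem f2 G M'' := mem_map O (mem_map O hM hE) (inv_mem hg)
  have hk : ∀ m ∈ M, (∀ Y ∈ M, f (dl O v w μ m) Y = 0) → cv O v' (g.symm (E m)) = 0 := fun m hm hB =>
    cv_eq_zero O fun d => by
      have hd : g (vecMulVec d v') ∈ M := by rw [hgM]; exact ⟨_, mem_col.2 ⟨d, rfl⟩, rfl⟩
      rw [isom_symm O hg, hEX, O.h.add_left, mem_singular O hM hm hd, hB _ hd, add_zero]
  have hlt : rank O M'' v' < r := by
    have h1 := rank_add_ker O hM''m v'
    have hzK : z ∉ M ⊓ LinearMap.ker (cv O v) := fun h => hzv (LinearMap.mem_ker.1 h.2)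
    have h2 : finrank F (M ⊓ LinearMap.ker (cv O v) : Submodule F MV)
        < finrank F ((M ⊓ LinearMap.ker (cv O v)) ⊔ F ∙ z : Submodule F MV) :=
      Submodule.finrank_lt_finrank_of_lt (lt_of_le_of_ne le_sup_left fun e =>
        hzK (e ▸ Submodule.mem_sup_right (Submodule.mem_span_singleton_self z)))
    have h3 : ((M ⊓ LinearMap.ker (cv O v)) ⊔ F ∙ z).map (E.trans g.symm).toLinearMap
        ≤ M'' ⊓ LinearMap.ker (cv O v') := by
      rintro _ ⟨X, hX, rfl⟩
      obtain ⟨X₁, hX₁, X₂, hX₂, rfl⟩ := Submodule.mem_sup.1 hX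
      obtain ⟨t, rfl⟩ := Submodule.mem_span_singleton.1 hX₂
      have hXM : X₁ + t • z ∈ M := M.add_mem hX₁.1 (M.smul_mem t hzM)
      refine ⟨⟨_, ⟨_, hXM, rfl⟩, rfl⟩, LinearMap.mem_ker.2 (hk _ hXM fun Y hY => ?_)⟩
      rw [map_add, map_smul, hδN _ (hperf _ hX₁.1 (LinearMap.mem_ker.1 hX₁.2)), zero_add, O.h.smul_left,
        hzB Y hY, mul_zero]
    have h4 := Submodule.finrank_mono h3
    rw [LinearEquiv.finrank_map_eq] at h4
    omega
  by_cases hEM : M.map E.toLinearMap = M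
  · have hδM : ∀ m ∈ M, dl O v w μ m ∈ M := fun m hm => by
      have h1 : E m ∈ M := hEM ▸ Submodule.mem_map_of_mem hm
      rw [← add_sub_cancel_left m (dl O v w μ m), ← hEX]
      exact M.sub_mem h1 hm
    obtain ⟨m₁, hm₁, hm₁v⟩ : ∃ m ∈ M, cv O v m ≠ 0 := ⟨z, hzM, hzv⟩
    by_cases hw0 : w = 0
    · have hμ0 := hwμ hw0
      have hδ : ∀ X, dl O v w μ X = μ • vecMulVec (cv O v X) v := fun X => by
        rw [dl_apply, hw0, cv_zero_vec, vmv_zero, zero_vecMulVec, sub_zero, zero_add]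
      rcases hle.lt_or_eq with hlt' | he
      · have hnp3 : NP ((Col (ι := ι) v).map (g⁻¹ : MV ≃ₗ[F] MV).toLinearMap) := fun x hx => by
          have hL : ∀ c, ∃ d, g (vecMulVec d x) = vecMulVec c v := fun c => by
            obtain ⟨d, hd⟩ := mem_col.1 (hx ▸ Submodule.mem_map_of_mem (mem_col.2 ⟨c, rfl⟩) :
              (g⁻¹ : MV ≃ₗ[F] MV) (vecMulVec c v) ∈ Col x)
            exact ⟨d, by rw [hd]; exact g.apply_symm_apply _⟩
          have hL' : ∀ d, ∃ c, g (vecMulVec d x) = vecMulVec c v := fun d => by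
            obtain ⟨Y, hY, hYe⟩ := hx.ge (mem_col.2 ⟨d, rfl⟩)
            obtain ⟨c, rfl⟩ := mem_col.1 hY
            exact ⟨c, by rw [← hYe]; exact g.apply_symm_apply _⟩
          rw [hgM] at hm₁ hker
          obtain ⟨Y, hY, rfl⟩ := hm₁
          obtain ⟨d, rfl⟩ := mem_col.1 hY
          by_cases hxv : f2 x v' = 0
          · refine hm₁v (cv_eq_zero O fun c => ?_)
            obtain ⟨e, he⟩ := hL c
            rw [← he]
            show f (g (vecMulVec d v')) (g (vecMulVec e x)) = 0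
            rw [O.isom g hg, O.f_pure, O.h2.symm0 hxv, mul_zero]
          · have hbot : ((Col v').map g.toLinearMap ⊓ LinearMap.ker (cv O v) : Submodule F MV) = ⊥ := by
              refine (Submodule.eq_bot_iff _).2 fun X hX => ?_
              obtain ⟨⟨Y, hY, rfl⟩, hX2⟩ := hX
              obtain ⟨e, rfl⟩ := mem_col.1 hY
              have he0 : e = 0 := O.h1.nondeg e fun d' => by
                obtain ⟨c, hc⟩ := hL' d'
                have h1 := O.isom g hg (vecMulVec e v') (vecMulVec d' x)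
                rw [hc, O.f_pure, f_cv O] at h1
                have h0 : cv O v (g (vecMulVec e v')) = 0 := LinearMap.mem_ker.1 hX2
                rw [h0, O.h1.zero_left] at h1
                exact (mul_eq_zero.1 h1.symm).resolve_right fun e' => hxv (O.h2.symm0 e')
              show g (vecMulVec e v') = 0
              rw [he0, zero_vecMulVec, map_zero]
            rw [hbot, finrank_bot] at hker
            omega
        refine hex (stab O hκ2 hnp3 (mem_map O (mem_col_self O hv hvv) (inv_mem hg))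
          (tr_of O (inv_mem hg) hv hvv hμ0 hμs) hv'0 hv'v' fun c => ?_)
        have hgc : g (vecMulVec c v') ∈ M := hgM ▸ Submodule.mem_map_of_mem (mem_col.2 ⟨c, rfl⟩)
        have h1 := hδM _ hgc
        rw [hδ, hgM] at h1
        obtain ⟨Y, hY, hYe⟩ := h1
        show μ • g.symm (vecMulVec (cv O v (g (vecMulVec c v'))) v) ∈ Col v'
        rw [← map_smul, ← hYe]
        show g.symm (g Y) ∈ _
        rwa [g.symm_apply_apply]
      · have h3 : (M ⊓ LinearMap.ker (cv O v) : Submodule F MV) = ⊥ :=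
          Submodule.finrank_eq_zero.1 (by omega)
        have := (Submodule.eq_bot_iff _).1 h3 _ ⟨hδM _ hm₁, LinearMap.mem_ker.2 (hδv _)⟩
        rw [hδ, smul_eq_zero, vmv_eq_zero] at this
        exact (this.resolve_left hμ0).elim hm₁v hv
    · have hwnv : w ∉ F ∙ v := fun h => hw0 (hwspan h)
      obtain ⟨x', hx', hxw⟩ : ∃ x', f2 x' v = 0 ∧ f2 w x' ≠ 0 := by
        by_contra hc
        push Not at hc
        exact hwnv (O.h2.perp_perp hv hc)
      have := cv_col O (O.h2.symm0 hx') (hperf _ (hδM _ hm₁) (hδv _))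
      rw [dl_apply, map_add, map_sub, map_smul, cv_pure, cv_pure, cv_pure, O.h2.symm0 hx'] at this
      simp [hxw, hm₁v] at this
  have hne'' : M'' ≠ Col v' := fun e => hEM (Submodule.map_injective_of_injective
    (f := (g⁻¹ : MV ≃ₗ[F] MV).toLinearMap) (g⁻¹ : MV ≃ₗ[F] MV).injective
    (e.trans (by rw [hgM, map_map_inv])))
  rcases hle.lt_or_eq with hlt' | he
  · obtain ⟨u₀, hu₀, hu₀0⟩ := (Submodule.ne_bot_iff (M ⊓ LinearMap.ker (cv O v))).1 fun e => by
      rw [e, finrank_bot] at hker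
      omega
    refine ih' M'' hM''m (np_of_meet O hne'' (X := g.symm u₀) ?_ ?_ ?_) v' hv'0 hv'v' hlt
    · exact fun e => hu₀0 (g.symm.map_eq_zero_iff.1 e)
    · refine ⟨u₀, ⟨u₀, hu₀.1, ?_⟩, rfl⟩
      show E u₀ = u₀
      rw [hEX, hδN _ (hperf _ hu₀.1 (LinearMap.mem_ker.1 hu₀.2)), add_zero]
    · obtain ⟨Y, hY, hYe⟩ := hgM ▸ hu₀.1
      rw [← hYe]
      show g.symm (g Y) ∈ _
      rwa [g.symm_apply_apply]
  subst he
  obtain ⟨x'', hx''⟩ : ∃ x'', M'' = Col x'' := by
    by_contra hc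
    push Not at hc
    exact ih' M'' hM''m hc v' hv'0 hv'v' hlt
  have hxv' : f2 x'' v' = 0 := by
    by_contra hc
    refine absurd hlt (not_lt.2 (le_of_eq ?_))
    have h1 := rank_add_ker O hM''m v'
    have h2 : (M'' ⊓ LinearMap.ker (cv O v') : Submodule F MV) = ⊥ :=
      (Submodule.eq_bot_iff _).2 fun X hX => by
        obtain ⟨d, rfl⟩ := mem_col.1 (hx'' ▸ hX.1)
        have := LinearMap.mem_ker.1 hX.2
        rw [cv_pure, smul_eq_zero] at this
        rw [this.resolve_left hc, zero_vecMulVec]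
    rw [h2, finrank_bot, add_zero] at h1
    exact h1.symm
  have hB : ∀ X ∈ M, ∀ Y ∈ M, f (dl O v w μ X) Y = 0 := fun X hX Y hY => by
    have h1 : g.symm (E X) ∈ Col x'' := hx'' ▸ Submodule.mem_map_of_mem (Submodule.mem_map_of_mem hX)
    rw [hgM] at hY
    obtain ⟨Y, hY', rfl⟩ := hY
    obtain ⟨d, rfl⟩ := mem_col.1 hY'
    have h2 : f (g.symm (E X)) (vecMulVec d v') = 0 := by
      obtain ⟨c, hc⟩ := mem_col.1 h1
      rw [← hc, O.f_pure, hxv', mul_zero]
    rw [isom_symm O hg, hEX, O.h.add_left,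
      mem_singular O hM hX (hgM ▸ Submodule.mem_map_of_mem (mem_col.2 ⟨d, rfl⟩)), zero_add] at h2
    exact h2
  have hwnv : w ∉ F ∙ v := fun h => by
    have hw0 := hwspan h
    have := hB z hzM
    simp only [f_dl O, hw0, cv_zero_vec, O.h1.zero_left, O.h1.zero_right, sub_zero, zero_add] at this
    refine hzv (O.h1.nondeg _ fun d => ?_)
    have hsurj : M.map (cv O v) = ⊤ := Submodule.eq_top_of_finrank_eq
      (hr.trans (Module.finrank_fintype_fun_eq_card F).symm)
    obtain ⟨m, hm, rfl⟩ := hsurj.ge (Submodule.mem_top (x := d))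
    exact (mul_eq_zero.1 (this m hm)).resolve_left (hwμ hw0)
  exact full_false O hex (fun L hL hn u hu huu h => ih' L hL hn u hu huu h) hM hnp hv hvv hww hwv hwnv
    hμs hB

end

end CfsgLib.MaxSub.TensorHerm
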