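/-
A non-scalar endomorphism at an isotropic vector gives, at all isotropic vectors, the endomorphisms
of rank one, hence the transvections centred at isotropic pure tensors.
-/
import Cfsg.Agent.Lib.MaxSub.TensorHerm.Stab

set_option autoImplicit false
set_option maxHeartbeats 400000
set_option linter.unusedSectionVars false

namespace CfsgLib.MaxSub.TensorHerm

open Matrix Module
open CfsgLib.MaxSub.TensorLin (Col colMap colMap_apply mem_col vmv_eq_zero vmv_zero)

variable {F : Type*} [Field F] {ι κ : Type*} [Fintype ι] [Fintype κ] [DecidableEq ι] [DecidableEq κ]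
variable {σ : F →+* F} {f1 : (ι → F) → (ι → F) → F} {f2 : (κ → F) → (κ → F) → F}
  {f : Matrix ι κ F → Matrix ι κ F → F} {G : Subgroup (Matrix ι κ F ≃ₗ[F] Matrix ι κ F)}

local notation "MV" => Matrix ι κ F

section

variable (O : TU σ f1 f2 f G)
include O

/-- An endomorphism at all isotropic vectors. -/
def AllIn (T : (ι → F) →ₗ[F] (ι → F)) : Prop :=
  ∀ x : κ → F, x ≠ 0 → f2 x x = 0 → InG O x T

/-- The endomorphism of rank one of a vector. -/
def kk (l : F) (u : ι → F) : (ι → F) →ₗ[F] (ι → F) := (l • O.h1.lin u).smulRight u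

theorem kk_apply (l : F) (u c : ι → F) : kk O l u c = (l * f1 c u) • u := rfl

theorem ing_add {v : κ → F} (hvv : f2 v v = 0) {T T' : (ι → F) →ₗ[F] (ι → F)} (h : InG O v T)
    (h' : InG O v T') : InG O v (T + T') := by
  obtain ⟨g, hg, hgX⟩ := h
  obtain ⟨g', hg', hgX'⟩ := h'
  refine ⟨g * g', mul_mem hg hg', fun X => ?_⟩
  rw [LinearEquiv.mul_apply, hgX, hgX', map_add (cv O v), cv_pure, hvv, zero_smul, add_zero,
    LinearMap.add_apply, add_vecMulVec, add_assoc, add_comm (vecMulVec (T' _) v)]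

theorem ing_neg {v : κ → F} (hvv : f2 v v = 0) {T : (ι → F) →ₗ[F] (ι → F)} (h : InG O v T) :
    InG O v (-T) := by
  obtain ⟨g, hg, hgX⟩ := h
  refine ⟨g⁻¹, inv_mem hg, fun X => ?_⟩
  refine g.injective ?_
  show g (g.symm X) = _
  rw [g.apply_symm_apply, hgX, map_add (cv O v), cv_pure, hvv, zero_smul, add_zero,
    LinearMap.neg_apply, neg_vmv, add_assoc, neg_add_cancel, add_zero]

/-- Conjugation. -/
theorem ing_map {v v' : κ → F} {T : (ι → F) →ₗ[F] (ι → F)} (h : InG O v T) {e : MV ≃ₗ[F] MV}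
    (he : e ∈ G) (hev : ∀ d, e (vecMulVec d v) = vecMulVec d v') : InG O v' T := by
  obtain ⟨g, hg, hgX⟩ := h
  refine ⟨e * g * e⁻¹, mul_mem (mul_mem he hg) (inv_mem he), fun X => ?_⟩
  show e (g (e.symm X)) = _
  have h1 : cv O v (e.symm X) = cv O v' X := O.h1.ext_left fun d => by
    rw [← f_cv O, isom_symm O he, hev, f_cv O]
  rw [hgX, map_add, e.apply_symm_apply, hev, h1]

/-- The endomorphism is skew. -/
theorem ing_skew {v : κ → F} (hv : v ≠ 0) (hvv : f2 v v = 0) {T : (ι → F) →ₗ[F] (ι → F)}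
    (h : InG O v T) (c d : ι → F) : f1 (T c) d + f1 c (T d) = 0 := by
  obtain ⟨g, hg, hgX⟩ := h
  obtain ⟨z, -, hz, hz'⟩ := O.h2.exists_partner O.sg hv hvv
  have := O.isom g hg (vecMulVec c z) (vecMulVec d z)
  rw [hgX, hgX, cv_pure, cv_pure, hz, one_smul, one_smul, O.h.add_left, O.h.add_right, O.h.add_right,
    O.f_pure (T c), O.f_pure c (T d), O.f_pure (T c), hvv, hz, hz'] at this
  linear_combination this

/-- Moving along perpendicular vectors. -/
theorem ing_propagate {v x : κ → F} (hv : v ≠ 0) (hvv : f2 v v = 0) (hxx : f2 x x = 0)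
    (hxv : f2 x v = 0) (hx : x ∉ F ∙ v) {T : (ι → F) →ₗ[F] (ι → F)} (h : InG O v T) {t : F}
    (ht : σ t = t) : InG O x (t • T) := by
  have hx0 : x ≠ 0 := fun e => hx (by rw [e]; exact zero_mem _)
  have hvnx : v ∉ F ∙ x := fun hm => by
    obtain ⟨s, hs⟩ := Submodule.mem_span_singleton.1 hm
    exact hx (Submodule.mem_span_singleton.2 ⟨s⁻¹, by
      rw [← hs, smul_smul, inv_mul_cancel₀ fun e : s = 0 => hv (by rw [← hs, e, zero_smul]), one_smul]⟩)
  have hline : ∀ α : F, InG O (v + α • x) T := fun α => by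
    obtain ⟨w, hw, hvw⟩ : ∃ w, f2 w x = 0 ∧ f2 v w ≠ 0 := by
      by_contra hc
      push Not at hc
      exact hvnx (O.h2.perp_perp hx0 hc)
    obtain ⟨w', hw', hvw'⟩ : ∃ w', f2 w' x = 0 ∧ f2 v w' = -α :=
      ⟨σ (-α / f2 v w) • w, by rw [O.h2.smul_left, hw, mul_zero],
        by rw [O.h2.smul_right, O.sg.invol, div_mul_cancel₀ _ hvw]⟩
    obtain ⟨μ, hμ⟩ := O.sg.trace (-f2 w' w') (by rw [map_neg, O.h2.self_fix])
    obtain ⟨e, he, heX⟩ := O.eichR x w' μ hxx hw' hμ
    refine ing_map O h he fun d => ?_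
    rw [heX, O.h2.symm0 hxv, hvw', zero_smul, mul_zero, zero_smul, add_zero, add_zero, neg_smul,
      sub_neg_eq_add]
  obtain ⟨α, hα⟩ := O.sg.trace t ht
  obtain ⟨g1, hg1, hg1X⟩ := hline (α + 1)
  obtain ⟨g2, hg2, hg2X⟩ := hline α
  obtain ⟨g3, hg3, hg3X⟩ := hline 1
  obtain ⟨g4, hg4, hg4X⟩ := hline 0
  refine ⟨g2⁻¹ * g3⁻¹ * (g1 * g4), mul_mem (mul_mem (inv_mem hg2) (inv_mem hg3)) (mul_mem hg1 hg4),
    fun X => ?_⟩
  have hz : ∀ β γ : F, f2 (v + β • x) (v + γ • x) = 0 := fun β γ => by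
    simp [O.h2.add_left, O.h2.add_right, O.h2.smul_left, O.h2.smul_right, hvv, hxx, hxv, O.h2.symm0 hxv]
  have hvx := O.h2.symm0 hxv
  have hwx : ∀ β : F, f2 x (v + β • x) = 0 := fun β => by
    simp [O.h2.add_right, O.h2.smul_right, hxx, hxv]
  refine g2.injective (g3.injective ?_)
  show g3 (g2 (g2.symm (g3.symm (g1 (g4 X))))) = _
  rw [g2.apply_symm_apply, g3.apply_symm_apply, hg4X, hg1X, hg2X, hg3X]
  simp only [map_add, cv_pure, hz]
  simp only [zero_smul, add_zero, map_zero, zero_vecMulVec]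
  simp only [cv_add_vec, cv_smul_vec, LinearMap.smul_apply, map_add, map_smul, map_one, map_zero, add_smul,
    zero_smul, one_smul, add_vecMulVec, vecMulVec_add, smul_vecMulVec, vmv_smul, smul_add, smul_smul,
    add_zero, mul_one, one_mul]
  have hwx1 : f2 x (v + x) = 0 := by simpa using hwx 1
  simp only [hwx, hwx1, zero_mul, mul_zero, zero_smul, smul_zero, add_zero]
  rw [← hα]
  module

/-- Two isotropic vectors have a common neighbour. -/
theorem exists_between (hk : Fintype.card κ ≠ 2) {v x : κ → F} (hv : v ≠ 0) (hvv : f2 v v = 0) (hx : x ≠ 0)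
    (h : f2 x v ≠ 0 ∨ x ∈ F ∙ v) :
    ∃ z, z ≠ 0 ∧ f2 z z = 0 ∧ f2 z v = 0 ∧ z ∉ F ∙ v ∧ f2 x z = 0 ∧ x ∉ F ∙ z := by
  obtain ⟨y, -, -, hvy⟩ := O.h2.exists_partner O.sg hv hvv
  rcases h with h | h
  · obtain ⟨P, hP, hdim⟩ := O.h2.finrank_perp_le ![v, x]
    rw [Module.finrank_fintype_fun_eq_card] at hdim
    obtain ⟨z, hz, hz0, hzz⟩ := O.h2.exists_iso_mem O.sg (W := P) (by have := O.five hk; omega)
    have hzv : f2 z v = 0 := (hP z).1 hz 0
    have hzx : f2 z x = 0 := (hP z).1 hz 1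
    refine ⟨z, hz0, hzz, hzv, fun hm => ?_, O.h2.symm0 hzx, fun hm => ?_⟩
    · obtain ⟨s, rfl⟩ := Submodule.mem_span_singleton.1 hm
      rw [O.h2.smul_left] at hzx
      exact hz0 (by rw [(mul_eq_zero.1 hzx).resolve_right fun e => h (O.h2.symm0 e), zero_smul])
    · obtain ⟨s, rfl⟩ := Submodule.mem_span_singleton.1 hm
      exact h (by rw [O.h2.smul_left, hzv, mul_zero])
  · obtain ⟨P, hP, hdim⟩ := O.h2.finrank_perp_le ![v, y]
    rw [Module.finrank_fintype_fun_eq_card] at hdim
    obtain ⟨z, hz, hz0, hzz⟩ := O.h2.exists_iso_mem O.sg (W := P) (by have := O.five hk; omega)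
    have hzv : f2 z v = 0 := (hP z).1 hz 0
    have hzy : f2 z y = 0 := (hP z).1 hz 1
    have hznv : z ∉ F ∙ v := fun hm => by
      obtain ⟨s, rfl⟩ := Submodule.mem_span_singleton.1 hm
      rw [O.h2.smul_left, hvy, mul_one] at hzy
      exact hz0 (by rw [hzy, zero_smul])
    obtain ⟨r, rfl⟩ := Submodule.mem_span_singleton.1 h
    refine ⟨z, hz0, hzz, hzv, hznv, by rw [O.h2.smul_left, O.h2.symm0 hzv, mul_zero], fun hm => ?_⟩
    obtain ⟨s, hs⟩ := Submodule.mem_span_singleton.1 hm
    have hs0 : s ≠ 0 := fun e => hx (by rw [← hs, e, zero_smul])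
    refine hznv (Submodule.mem_span_singleton.2 ⟨s⁻¹ * r, ?_⟩)
    rw [mul_smul, ← hs, smul_smul, inv_mul_cancel₀ hs0, one_smul]

/-- An element carrying an isotropic vector to another one with skew product. -/
theorem exists_move {v x : κ → F} (hvv : f2 v v = 0) (hxx : f2 x x = 0) (h0 : f2 v x ≠ 0)
    (hs : f2 v x + σ (f2 v x) = 0) : ∃ e ∈ G, (∀ c, e (vecMulVec c v) = vecMulVec c x) ∧ Pure e := by
  set β := f2 v x with hβ
  have hσ : σ β = -β := eq_neg_of_add_eq_zero_right hs
  have hxv : f2 x v = -β := by rw [O.h2.herm, ← hβ, hσ]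
  have hi : β⁻¹ + σ β⁻¹ = 0 := by rw [map_inv₀, hσ, inv_neg, add_neg_cancel]
  obtain ⟨e₁, he₁, he₁X, hp₁⟩ := tv O hxx hi
  obtain ⟨e₂, he₂, he₂X, hp₂⟩ := tv O hvv hi
  refine ⟨e₂ * e₁, mul_mem he₂ he₁, fun c => ?_, pure_mul O hp₂ hp₁⟩
  rw [LinearEquiv.mul_apply, he₁X, cv_pure, smul_vecMulVec, smul_smul, inv_mul_cancel₀ h0, one_smul,
    he₂X, map_add, cv_pure, cv_pure, hvv, hxv, zero_smul, zero_add, smul_vecMulVec, smul_smul,
    mul_neg, inv_mul_cancel₀ h0, neg_one_smul]
  abel

/-- Rescaling the vector. -/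
theorem ing_scale {v : κ → F} {T : (ι → F) →ₗ[F] (ι → F)} (a : F) :
    InG O (a • v) T ↔ InG O v ((a * σ a) • T) := by
  have key : ∀ X : MV, vecMulVec (T (cv O (a • v) X)) (a • v)
      = vecMulVec (((a * σ a) • T) (cv O v X)) v := fun X => by
    rw [cv_smul_vec, map_smul, vmv_smul, smul_vecMulVec, smul_smul, LinearMap.smul_apply,
      smul_vecMulVec]
  simp only [InG, key]

/-- Two isotropic vectors of a plane that are perpendicular are proportional. -/
theorem plane_prop (hk : Fintype.card κ = 2) {v x : κ → F} (hv : v ≠ 0) (hvv : f2 v v = 0)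
    (h : f2 x v = 0) : x ∈ F ∙ v := by
  refine O.h2.perp_perp hv fun z hz => ?_
  obtain ⟨y, hyy, hyv, hvy⟩ := O.h2.exists_partner O.sg hv hvv
  have hind : LinearIndependent F ![v, y] := by
    refine LinearIndependent.pair_iff.2 fun s t hst => ?_
    have h1 := congrArg (O.h2.lin v) hst
    have h2 := congrArg (O.h2.lin y) hst
    simp [HForm.lin_apply, O.h2.add_left, O.h2.smul_left, O.h2.zero_left, hvv, hyv, hvy, hyy] at h1 h2
    exact ⟨h2, h1⟩
  have hspan := hind.span_eq_top_of_card_eq_finrank (by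
    rw [Fintype.card_fin, Module.finrank_fintype_fun_eq_card, hk])
  have hz' : z ∈ Submodule.span F (Set.range ![v, y]) := hspan ▸ Submodule.mem_top
  rw [Matrix.range_cons, Matrix.range_cons, Matrix.range_empty, Set.union_empty, Set.singleton_union,
    Submodule.mem_span_pair] at hz'
  obtain ⟨α, β, rfl⟩ := hz'
  rw [O.h2.add_left, O.h2.smul_left, O.h2.smul_left, hvv, hyv, mul_zero, zero_add, mul_one] at hz
  rw [hz, zero_smul, add_zero, O.h2.smul_right, h, mul_zero]

/-- With a two-dimensional second factor one vector suffices. -/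
theorem allIn_plane [Finite F] (hk : Fintype.card κ = 2) {v : κ → F} (hv : v ≠ 0) (hvv : f2 v v = 0)
    {T : (ι → F) →ₗ[F] (ι → F)} (h : InG O v T) {t : F} (ht : σ t = t) : AllIn O (t • T) := by
  obtain ⟨v', hv'v', hv'v, hvv'⟩ := O.h2.exists_partner O.sg hv hvv
  obtain ⟨l, hl0, hl⟩ := O.sg.skew
  have hσl : σ l = -l := eq_neg_of_add_eq_zero_right hl
  have hsq : ∀ τ : F, σ τ = τ → InG O v ((τ * τ) • T) := by
    intro τ hτ
    rcases eq_or_ne τ 0 with rfl | hτ0
    · exact ⟨1, one_mem G, fun X => by simp⟩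
    have hμ : f2 v (l • v') = -l := by rw [O.h2.smul_right, hvv', mul_one, hσl]
    obtain ⟨e₁, he₁, h₁, -⟩ := exists_move O (v := v) (x := l • v') hvv
      (by rw [O.h2.smul_left, O.h2.smul_right, hv'v', mul_zero, mul_zero])
      (by rw [hμ]; exact neg_ne_zero.2 hl0)
      (by rw [hμ, map_neg, hσl, neg_neg, neg_add_cancel])
    have hν : f2 (l • v') (τ • v) = l * τ := by
      rw [O.h2.smul_left, O.h2.smul_right, hv'v, mul_one, hτ]
    obtain ⟨e₂, he₂, h₂, -⟩ := exists_move O (v := l • v') (x := τ • v)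
      (by rw [O.h2.smul_left, O.h2.smul_right, hv'v', mul_zero, mul_zero])
      (by rw [O.h2.smul_left, O.h2.smul_right, hvv, mul_zero, mul_zero])
      (by rw [hν]; exact mul_ne_zero hl0 hτ0)
      (by rw [hν, map_mul, hτ, hσl]; ring)
    have h3 := (ing_scale O τ).1 (ing_map O h (mul_mem he₂ he₁) (v' := τ • v) fun d => by
      rw [LinearEquiv.mul_apply, h₁, h₂])
    rwa [hτ] at h3
  have hall : ∀ t : F, σ t = t → InG O v (t • T) := by
    intro t ht
    by_cases h2 : (2 : F) = 0
    · haveI : CharP F 2 := CharTwo.of_one_ne_zero_of_two_eq_zero one_ne_zero h2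
      obtain ⟨τ, hτ⟩ := FiniteField.isSquare_of_char_two
        ((ringChar.eq_iff (R := F) (p := 2)).2 inferInstance) t
      have hτσ : σ τ = τ := CharTwo.sq_injective (R := F) (by
        show (σ τ) ^ 2 = τ ^ 2
        rw [pow_two, pow_two, ← map_mul, ← hτ, ht])
      rw [hτ]
      exact hsq τ hτσ
    · have h1 := hsq ((t + 1) / 2) (by rw [map_div₀, map_add, ht, map_one, map_ofNat])
      have h1' := hsq ((t - 1) / 2) (by rw [map_div₀, map_sub, ht, map_one, map_ofNat])
      have h3 := ing_add O hvv h1 (ing_neg O hvv h1')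
      have h22 : (2 : F) ≠ 0 := h2
      convert h3 using 1
      match_scalars
      field_simp
      ring
  intro x hx hxx
  by_cases hd : f2 x v = 0
  · obtain ⟨a, rfl⟩ := Submodule.mem_span_singleton.1 (plane_prop O hk hv hvv hd)
    refine (ing_scale O a).2 ?_
    rw [smul_smul]
    exact hall _ (by rw [map_mul, O.sg.norm_fix, ht])
  · have hd' : f2 v x ≠ 0 := fun e => hd (O.h2.symm0 e)
    set c := σ (l / f2 v x) with hc
    have hc0 : c ≠ 0 := fun e => div_ne_zero hl0 hd' (O.sg.eq_zero e)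
    have hcl : f2 v (c • x) = l := by
      rw [O.h2.smul_right, hc, O.sg.invol, div_mul_cancel₀ _ hd']
    obtain ⟨e, he, heX, -⟩ := exists_move O (v := v) (x := c • x) hvv
      (by rw [O.h2.smul_left, O.h2.smul_right, hxx, mul_zero, mul_zero])
      (by rw [hcl]; exact hl0) (by rw [hcl]; exact hl)
    have := (ing_scale O c).1 (ing_map O (hall (t / (c * σ c))
      (by rw [map_div₀, ht, O.sg.norm_fix])) he heX)
    rwa [smul_smul, mul_div_cancel₀ _ (mul_ne_zero hc0 fun e => hc0 (O.sg.eq_zero e))] at this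

/-- One vector suffices. -/
theorem allIn_smul [Finite F] {v : κ → F} (hv : v ≠ 0) (hvv : f2 v v = 0) {T : (ι → F) →ₗ[F] (ι → F)}
    (h : InG O v T) {t : F} (ht : σ t = t) : AllIn O (t • T) := by
  by_cases hk : Fintype.card κ = 2
  · exact allIn_plane O hk hv hvv h ht
  intro x hx hxx
  by_cases hd : f2 x v ≠ 0 ∨ x ∈ F ∙ v
  · obtain ⟨z, hz, hzz, hzv, hznv, hxz, hxnz⟩ := exists_between O hk hv hvv hx hd
    have h1 := ing_propagate O hv hvv hzz hzv hznv h (map_one σ)
    rw [one_smul] at h1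
    exact ing_propagate O hz hzz hxx hxz hxnz h1 ht
  · push Not at hd
    exact ing_propagate O hv hvv hxx hd.1 hd.2 h ht

theorem exists_iso_vec : ∃ v : κ → F, v ≠ 0 ∧ f2 v v = 0 := by
  obtain ⟨v, -, hv, hvv⟩ := O.h2.exists_iso_mem O.sg (W := ⊤) (by
    rw [finrank_top, Module.finrank_fintype_fun_eq_card]; exact O.two')
  exact ⟨v, hv, hvv⟩

variable {O} in
theorem AllIn.smul [Finite F] {T : (ι → F) →ₗ[F] (ι → F)} (h : AllIn O T) {t : F} (ht : σ t = t) :
    AllIn O (t • T) := by
  obtain ⟨v, hv, hvv⟩ := exists_iso_vec O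
  exact allIn_smul O hv hvv (h v hv hvv) ht

variable {O} in
theorem AllIn.add {T T' : (ι → F) →ₗ[F] (ι → F)} (h : AllIn O T) (h' : AllIn O T') : AllIn O (T + T') :=
  fun x hx hxx => ing_add O hxx (h x hx hxx) (h' x hx hxx)

variable {O} in
theorem AllIn.neg {T : (ι → F) →ₗ[F] (ι → F)} (h : AllIn O T) : AllIn O (-T) :=
  fun x hx hxx => ing_neg O hxx (h x hx hxx)

variable {O} in
/-- Conjugation by the first factor. -/
theorem AllIn.map {T T' : (ι → F) →ₗ[F] (ι → F)} (h : AllIn O T) {e : MV ≃ₗ[F] MV} (he : e ∈ G)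
    {hl : (ι → F) →ₗ[F] (ι → F)} (heX : ∀ c x, e (vecMulVec c x) = vecMulVec (hl c) x)
    (hT : ∀ c, T' (hl c) = hl (T c)) : AllIn O T' := fun x hx hxx => by
  obtain ⟨g, hg, hgX⟩ := h x hx hxx
  refine ⟨e * g * e⁻¹, mul_mem (mul_mem he hg) (inv_mem he), fun X => ?_⟩
  show e (g (e.symm X)) = _
  have h1 : ∀ Y, cv O x (e Y) = hl (cv O x Y) :=
    ext_pure (A := cv O x ∘ₗ e.toLinearMap) (B := hl ∘ₗ cv O x) fun c y => by
      show cv O x (e (vecMulVec c y)) = hl (cv O x (vecMulVec c y))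
      rw [heX, cv_pure, cv_pure, map_smul]
  conv_rhs => rw [← e.apply_symm_apply X, h1, hT]
  rw [hgX, map_add, heX]

theorem allIn_scalar {l : F} (hl : l + σ l = 0) : AllIn O (l • LinearMap.id) := fun x _ hxx => by
  obtain ⟨g, hg, hgX, -⟩ := tv O hxx hl
  exact ⟨g, hg, fun X => by rw [hgX, LinearMap.smul_apply, LinearMap.id_apply, smul_vecMulVec]⟩

/-- Transvections of the first factor. -/
theorem left_tv {u : ι → F} (huu : f1 u u = 0) {l : F} (hl : l + σ l = 0) :
    ∃ e ∈ G, ∀ c x, e (vecMulVec c x) = vecMulVec ((LinearMap.id + kk O l u : (ι → F) →ₗ[F] _) c) x := by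
  obtain ⟨e, he, heX⟩ := O.eichL u 0 l huu (O.h1.zero_left u)
    (by rw [O.h1.zero_left, neg_zero]; exact hl)
  refine ⟨e, he, fun c x => ?_⟩
  rw [heX, smul_zero, add_zero, O.h1.zero_right, zero_smul, sub_zero]
  rfl

/-- An isotropic vector where a non-scalar skew endomorphism does not vanish. -/
theorem exists_kappa {T : (ι → F) →ₗ[F] (ι → F)} (hskew : ∀ c d, f1 (T c) d + f1 c (T d) = 0)
    (hns : ∀ s : F, ∃ c, T c ≠ s • c) : ∃ u, u ≠ 0 ∧ f1 u u = 0 ∧ f1 (T u) u ≠ 0 := by
  by_contra hc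
  push Not at hc
  obtain ⟨l, hl0, hl⟩ := O.sg.skew
  have hσl : σ l = -l := eq_neg_of_add_eq_zero_right hl
  let g : (ι → F) → (ι → F) → F := fun x y => l * f1 (T x) y
  have hg : ∀ x y, g y x = σ (g x y) := fun x y => by
    show l * _ = σ (l * _)
    rw [map_mul, hσl, ← O.h1.herm]
    linear_combination l * hskew y x
  obtain ⟨u, -, hu, huu⟩ := O.h1.exists_iso_mem O.sg (W := ⊤) (by
    rw [finrank_top, Module.finrank_fintype_fun_eq_card]; exact O.two)
  obtain ⟨y, hyy, hyu, huy⟩ := O.h1.exists_partner O.sg hu huu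
  have hy : y ≠ 0 := fun e => one_ne_zero (α := F) (by rw [← hyu, e, O.h1.zero_left])
  have hiso : ∀ x, x ≠ 0 → f1 x x = 0 → g x x = 0 := fun x hx hxx => by
    show l * _ = 0
    rw [hc x hx hxx, mul_zero]
  have gl : ∀ a x x', g (a • x) x' = a * g x x' := fun a x x' => by
    show l * _ = _
    rw [map_smul, O.h1.smul_left]; show _ = a * (l * _); ring
  have ga : ∀ x x' z, g (x + x') z = g x z + g x' z := fun x x' z => by
    show l * _ = _
    rw [map_add, O.h1.add_left, mul_add]
  have gr : ∀ a x x', g x (a • x') = σ a * g x x' := fun a x x' => by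
    show l * _ = _
    rw [O.h1.smul_right]; show _ = σ a * (l * _); ring
  have gb : ∀ x x' z, g z (x + x') = g z x + g z x' := fun x x' z => by
    show l * _ = _
    rw [O.h1.add_right, mul_add]
  have gnz : ∀ x, f1 x x = 0 → g x x = 0 := fun x hxx => by
    by_cases hx : x = 0
    · show l * _ = 0
      rw [hx, O.h1.zero_right, mul_zero]
    · exact hiso x hx hxx
  have hr : g u y = g y u := by
    have h1 := gnz (u + l • y) (by
      simp [O.h1.add_left, O.h1.add_right, O.h1.smul_left, O.h1.smul_right, huu, hyy, hyu, huy]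
      linear_combination hl)
    simp only [ga, gb, gl, gr, gnz u huu, gnz y hyy] at h1
    rw [hσl] at h1
    exact mul_left_cancel₀ hl0 (by linear_combination -h1)
  set r := g u y with hrd
  -- a third vector
  have key : ∀ w, f1 w u = 0 → f1 w y = 0 → ∀ u' y', u' = u ∧ y' = y ∨ u' = y ∧ y' = u → g w y' = 0 := by
    intro w hwu hwy u' y' h
    obtain ⟨hu'u', hy'y', hu'y', hy'u', hwu', hwy', hru⟩ :
        f1 u' u' = 0 ∧ f1 y' y' = 0 ∧ f1 u' y' = 1 ∧ f1 y' u' = 1 ∧ f1 w u' = 0 ∧ f1 w y' = 0 ∧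
        g u' y' = g y' u' := by
      rcases h with ⟨rfl, rfl⟩ | ⟨rfl, rfl⟩
      · exact ⟨huu, hyy, huy, hyu, hwu, hwy, hr⟩
      · exact ⟨hyy, huu, hyu, huy, hwy, hwu, hr.symm⟩
    refine O.sg.eq_zero_of_trace fun s => ?_
    obtain ⟨k, hk⟩ := O.sg.trace (-f1 w w) (by rw [map_neg, O.h1.self_fix])
    have e : ∀ β, β + σ β = -f1 w w → ∀ s : F, g (u' + s • w + (β * (s * σ s)) • y')
        (u' + s • w + (β * (s * σ s)) • y') = 0 := fun β hβ s => gnz _ (by
      simp only [O.h1.add_left, O.h1.add_right, O.h1.smul_left, O.h1.smul_right, hu'u', hy'y', hu'y', hy'u',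
        hwu', hwy', O.h1.symm0 hwu', O.h1.symm0 hwy', map_mul, O.sg.invol, mul_zero, add_zero, zero_add,
        mul_one]
      linear_combination (s * σ s) * hβ)
    have hgu : g y' w = σ (g w y') := hg w y'
    have hgd : g y' y' = 0 := gnz y' hy'y'
    have hgd' : g u' u' = 0 := gnz u' hu'u'
    have h1 := e k hk
    have h2 := e (k + l) (by rw [map_add]; linear_combination hk + hl)
    simp only [ga, gb, gl, gr, hgd, hgd', hgu, ← hru, map_mul, map_add, O.sg.invol, hσl] at h1 h2
    have d : ∀ t : F, l * (t * σ t) * (σ t * σ (g w y') - t * g w y') = 0 := fun t => by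
      linear_combination h2 t - h1 t
    rcases eq_or_ne s 0 with rfl | hs
    · rw [zero_mul, map_zero, add_zero]
    have hN : ∀ t : F, t ≠ 0 → σ t * σ (g w y') - t * g w y' = 0 := fun t ht =>
      (mul_eq_zero.1 (d t)).resolve_left (mul_ne_zero hl0 (mul_ne_zero ht fun e => ht (O.sg.eq_zero e)))
    have h3 := hN (s / l) (div_ne_zero hs hl0)
    rw [map_div₀, hσl, div_mul_eq_mul_div, div_mul_eq_mul_div, div_sub_div _ _ (neg_ne_zero.2 hl0) hl0,
      div_eq_zero_iff] at h3
    have h4 := h3.resolve_right (mul_ne_zero (neg_ne_zero.2 hl0) hl0)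
    rw [map_mul]
    exact mul_left_cancel₀ hl0 (by linear_combination h4)
  have hdiag : ∀ w, f1 w u = 0 → f1 w y = 0 → g w w = r * f1 w w := fun w hwu hwy => by
    obtain ⟨k, hk⟩ := O.sg.trace (-f1 w w) (by rw [map_neg, O.h1.self_fix])
    have h1 := gnz (u + w + k • y) (by
      simp [O.h1.add_left, O.h1.add_right, O.h1.smul_left, O.h1.smul_right, huu, hyy, hyu, huy, hwu, hwy,
        O.h1.symm0 hwu, O.h1.symm0 hwy]
      linear_combination hk)
    have e1 : g w y = 0 := key w hwu hwy u y (Or.inl ⟨rfl, rfl⟩)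
    have e2 : g w u = 0 := key w hwu hwy y u (Or.inr ⟨rfl, rfl⟩)
    have e3 : g y w = 0 := by rw [hg, e1, map_zero]
    have e4 : g u w = 0 := by rw [hg, e2, map_zero]
    simp only [ga, gb, gl, gr, gnz u huu, gnz y hyy, ← hr, e1, e2, e3, e4, mul_zero, zero_add,
      add_zero] at h1
    linear_combination h1 - r * hk
  -- the difference vanishes
  have hrfix : σ r = r := by
    rw [hrd, ← hg]
    exact hr.symm
  have hzero : ∀ x, g x x = r * f1 x x := fun x => by
    set w := x - f1 x y • u - f1 x u • y with hwd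
    have hwu : f1 w u = 0 := by
      simp [hwd, O.h1.sub_left, O.h1.smul_left, huu, hyu]
    have hwy : f1 w y = 0 := by
      simp [hwd, O.h1.sub_left, O.h1.smul_left, hyy, huy]
    have ex : x = f1 x y • u + f1 x u • y + w := by rw [hwd]; abel
    have e1 : g w y = 0 := key w hwu hwy u y (Or.inl ⟨rfl, rfl⟩)
    have e2 : g w u = 0 := key w hwu hwy y u (Or.inr ⟨rfl, rfl⟩)
    have e3 : g y w = 0 := by rw [hg, e1, map_zero]
    have e4 : g u w = 0 := by rw [hg, e2, map_zero]
    conv_lhs => rw [ex]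
    conv_rhs => rw [ex]
    simp only [ga, gb, gl, gr, gnz u huu, gnz y hyy, ← hr, e1, e2, e3, e4, hdiag w hwu hwy, O.h1.add_left,
      O.h1.add_right, O.h1.smul_left, O.h1.smul_right, huu, hyy, hyu, huy, hwu, hwy, O.h1.symm0 hwu,
      O.h1.symm0 hwy, mul_zero, add_zero, zero_add, mul_one, ← hrd]
    ring
  obtain ⟨c, hc'⟩ := hns (r / l)
  refine hc' (O.h1.ext_left fun z => ?_)
  have h1 : ∀ x z, g x z - r * f1 x z = 0 := fun x z => by
    refine O.sg.eq_zero_of_trace fun s => ?_
    have h2 := hzero (s • x + z)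
    simp only [ga, gb, gl, gr, O.h1.add_left, O.h1.add_right, O.h1.smul_left, O.h1.smul_right, hzero x,
      hzero z, hg x z] at h2
    rw [map_mul σ s, map_sub σ, map_mul σ r, hrfix, ← O.h1.herm]
    linear_combination h2
  rw [O.h1.smul_left, div_mul_eq_mul_div, eq_div_iff hl0]
  linear_combination h1 c z

/-- A non-scalar endomorphism gives the endomorphisms of rank one. -/
theorem allIn_kk [Finite F] (hex : Ex O) :
    ∃ u : ι → F, u ≠ 0 ∧ f1 u u = 0 ∧ ∀ l, l + σ l = 0 → AllIn O (kk O l u) := by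
  obtain ⟨v, hv, hvv, T, hns, hT⟩ := hex
  have hTall : AllIn O T := by simpa using allIn_smul O hv hvv hT (map_one σ)
  have hskew := ing_skew O hv hvv hT
  obtain ⟨u, hu, huu, hκ⟩ := exists_kappa O hskew hns
  refine ⟨u, hu, huu, ?_⟩
  set κ' := f1 (T u) u with hκd
  set y := T u with hyd
  have huy : f1 u y = -κ' := by
    have := hskew u u
    linear_combination this
  have hκs : κ' + σ κ' = 0 := by rw [hκd, ← O.h1.herm, huy]; ring
  -- differences by transvections
  let Dl : F → (ι → F) →ₗ[F] (ι → F) := fun l =>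
    -(l • ((O.h1.lin u).smulRight y + (O.h1.lin y).smulRight u)) - kk O (l ^ 2 * κ') u
  have hDl : ∀ l, l + σ l = 0 → AllIn O (Dl l) := fun l hl => by
    obtain ⟨e, he, heX⟩ := left_tv O huu hl
    have h1 : AllIn O (T + Dl l) := hTall.map he heX fun c => by
      have hTu : ∀ a : F, T (a • u) = a • y := fun a => map_smul T a u
      have hfu : f1 (T c) u = -f1 c y := by linear_combination hskew c u
      simp only [Dl, LinearMap.add_apply, LinearMap.sub_apply, LinearMap.neg_apply, LinearMap.smul_apply,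
        LinearMap.id_apply, LinearMap.smulRight_apply, HForm.lin_apply, kk_apply, map_add, O.h1.add_left,
        O.h1.smul_left, hTu, huu, huy, hfu, mul_zero, add_zero]
      module
    have h2 := h1.add hTall.neg
    rwa [show T + Dl l + -T = Dl l by abel] at h2
  obtain ⟨l₀, hl₀0, hl₀⟩ : ∃ l₀, l₀ ≠ 0 ∧ l₀ + σ l₀ = 0 ∧ AllIn O (kk O l₀ u) := by
    by_cases hq : ∃ t : F, σ t = t ∧ t ≠ 0 ∧ t ≠ 1
    · obtain ⟨t, ht, ht0, ht1⟩ := hq
      obtain ⟨l, hl0, hl⟩ := O.sg.skew
      refine ⟨(t - t ^ 2) * (l ^ 2 * κ'), mul_ne_zero ?_ (mul_ne_zero (pow_ne_zero 2 hl0) hκ), ?_, ?_⟩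
      · rw [show t - t ^ 2 = t * (1 - t) by ring]
        exact mul_ne_zero ht0 (sub_ne_zero.2 (Ne.symm ht1))
      · rw [map_mul, map_sub, map_pow, ht, map_mul, map_pow, eq_neg_of_add_eq_zero_right hl,
          eq_neg_of_add_eq_zero_right hκs]
        ring
      · have h1 := (hDl (t * l) (by rw [map_mul, ht]; linear_combination t * hl)).add
          (((hDl l hl).smul ht).neg)
        convert h1 using 1
        refine LinearMap.ext fun c => ?_
        simp only [Dl, LinearMap.add_apply, LinearMap.sub_apply, LinearMap.neg_apply, LinearMap.smul_apply,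
          LinearMap.smulRight_apply, HForm.lin_apply, kk_apply]
        module
    · push Not at hq
      have h2 : (2 : F) = 0 := by
        have := hq (-1) (by rw [map_neg, map_one]) (neg_ne_zero.2 one_ne_zero)
        linear_combination -this
      have hm1 : (-1 : F) = 1 := by linear_combination -h2
      have hκ1 : κ' = 1 := hq κ' (by linear_combination hκs - κ' * h2) hκ
      have hone : (1 : F) + σ 1 = 0 := by rw [map_one]; linear_combination h2
      refine ⟨1, one_ne_zero, hone, ?_⟩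
      have hT2 := hDl 1 hone
      have ha : 3 ≤ Fintype.card ι := by
        have := O.two
        rcases O.small with h | ⟨t, ht, ht0, ht1⟩
        · omega
        · exact absurd (hq t ht ht0) ht1
      obtain ⟨P, hP, hdim⟩ := O.h1.finrank_perp_le ![u, y]
      rw [Module.finrank_fintype_fun_eq_card] at hdim
      obtain ⟨p, hp, hpp⟩ : ∃ p ∈ P, f1 p p ≠ 0 := by
        by_contra hc
        push Not at hc
        obtain ⟨p, hp, hp0⟩ := (Submodule.ne_bot_iff P).1 fun e => by rw [e, finrank_bot] at hdim; omega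
        refine hp0 (O.h1.nondeg p fun x => ?_)
        set β := f1 x u with hβ
        set x' := x - β • y - (σ (f1 x y - β * f1 y y)) • u with hx'
        have hyu : f1 y u = 1 := hκ1
        have hx'P : x - β • y - (f1 x y - β * f1 y y) • u ∈ P := (hP _).2 fun i => by
          fin_cases i
          · simp [O.h1.sub_left, O.h1.smul_left, huu, hyu, hβ]
          · simp [O.h1.sub_left, O.h1.smul_left, huy, hκ1, hm1]
        have hdiag : ∀ a ∈ P, ∀ b ∈ P, f1 a b = 0 := fun a ha b hb => O.sg.eq_zero_of_trace fun s => by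
          have h0 := hc _ (P.add_mem (P.smul_mem s ha) hb)
          rw [O.h1.add_left, O.h1.add_right, O.h1.add_right, hc b hb, hc _ (P.smul_mem s ha),
            O.h1.herm (s • a) b, O.h1.smul_left] at h0
          linear_combination h0
        have h0 := hdiag p hp _ hx'P
        rw [O.h1.sub_right, O.h1.sub_right, O.h1.smul_right, O.h1.smul_right,
          show f1 p y = 0 from (hP p).1 hp 1, show f1 p u = 0 from (hP p).1 hp 0] at h0
        simpa using h0
      have hpu : f1 p u = 0 := (hP p).1 hp 0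
      have hpy : f1 p y = 0 := (hP p).1 hp 1
      have hp1 : f1 p p = 1 := hq _ (O.h1.self_fix p) hpp
      obtain ⟨η, hη⟩ := O.sg.moved
      have hη0 : η ≠ 0 := fun e => hη (by rw [e, map_zero])
      have hη1 : 1 + η ≠ 0 := fun e => hη (by
        rw [show η = -1 by linear_combination e, map_neg, map_one])
      have hN : ∀ α : F, α ≠ 0 → α * σ α = 1 := fun α hα =>
        hq _ (O.sg.norm_fix α) (mul_ne_zero hα fun e => hα (O.sg.eq_zero e))
      have hX : ∀ α : F, α ≠ 0 → AllIn O ((O.h1.lin u).smulRight (α • p)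
          + (O.h1.lin (α • p)).smulRight u + kk O 1 u) := fun α hα => by
        have hww : f1 (α • p) (α • p) = 1 := by
          rw [O.h1.smul_left, O.h1.smul_right, hp1, mul_one, hN α hα]
        have hwu : f1 (α • p) u = 0 := by rw [O.h1.smul_left, hpu, mul_zero]
        obtain ⟨μ, hμ⟩ := O.sg.trace_one
        obtain ⟨e, he, heX⟩ := O.eichL u (α • p) μ huu hwu (by rw [hww, hm1]; exact hμ)
        let hl : (ι → F) →ₗ[F] (ι → F) := LinearMap.id + (O.h1.lin u).smulRight (α • p)
          - (O.h1.lin (α • p)).smulRight u + kk O μ u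
        have h1 := hT2.map (T' := Dl 1 + ((O.h1.lin u).smulRight (α • p)
          + (O.h1.lin (α • p)).smulRight u + kk O 1 u)) he (hl := hl) (fun c x => by rw [heX]; rfl)
          fun c => ?_
        · have h3 := h1.add hT2.neg
          convert h3 using 1
          abel
        · have hyu : f1 y u = 1 := hκ1
          have huw := O.h1.symm0 hwu
          have hyw : f1 y (α • p) = 0 := by rw [O.h1.smul_right, O.h1.symm0 hpy, mul_zero]
          have hwy : f1 (α • p) y = 0 := by rw [O.h1.smul_left, hpy, mul_zero]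
          have huy1 : f1 u y = 1 := by rw [huy, hκ1, hm1]
          simp only [Dl, hl, LinearMap.add_apply, LinearMap.sub_apply, LinearMap.neg_apply,
            LinearMap.smul_apply, LinearMap.id_apply, LinearMap.smulRight_apply, HForm.lin_apply, kk_apply,
            O.h1.add_left, O.h1.sub_left, O.h1.neg_left, O.h1.smul_left α, O.h1.smul_left (f1 c u),
            O.h1.smul_left (f1 c (α • p)), O.h1.smul_left (μ * f1 c u), map_add, map_sub, map_neg, map_smul,
            hκ1, one_pow, one_smul, one_mul]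
          simp only [O.h1.smul_left, huu, huy1, hyu, huw, hwu, hww, hyw, hwy, hpu, hpy, mul_zero, mul_one,
            add_zero, zero_add, sub_zero, one_smul]
          have hpw : f1 p (α • p) = σ α := by rw [O.h1.smul_right, hp1, mul_one]
          have hNα := hN α hα
          simp only [hpw]
          match_scalars <;> ring_nf <;> grind
      have h3 := ((hX 1 one_ne_zero).add (hX η hη0)).add (hX (1 + η) hη1)
      convert h3 using 1
      refine LinearMap.ext fun c => ?_
      simp only [LinearMap.add_apply, LinearMap.smulRight_apply, HForm.lin_apply, kk_apply, O.h1.smul_right,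
        map_add, map_one, one_mul]
      match_scalars <;> ring_nf <;> grind
  intro l hl
  have hfix : σ (l / l₀) = l / l₀ := by
    rw [map_div₀, eq_neg_of_add_eq_zero_right hl, eq_neg_of_add_eq_zero_right hl₀.1, neg_div_neg_eq]
  have := hl₀.2.smul hfix
  convert this using 1
  refine LinearMap.ext fun c => ?_
  rw [LinearMap.smul_apply, kk_apply, kk_apply, smul_smul, ← mul_assoc, div_mul_cancel₀ _ hl₀0]

/-- A non-scalar endomorphism gives all endomorphisms of rank one of isotropic vectors. -/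
theorem allIn_kk_all [Finite F] (hex : Ex O) {w : ι → F} (hw : w ≠ 0) (hww : f1 w w = 0) {l : F} (hl : l + σ l = 0) :
    AllIn O (kk O l w) := by
  obtain ⟨u, hu, huu, hK⟩ := allIn_kk O hex
  obtain ⟨m, hm0, hm⟩ := O.sg.skew
  have step : ∀ u w : ι → F, f1 u u = 0 → f1 w w = 0 → f1 u w ≠ 0 →
      (∀ l, l + σ l = 0 → AllIn O (kk O l u)) → ∀ l, l + σ l = 0 → AllIn O (kk O l w) := by
    intro u w huu hww huw hK l hl
    obtain ⟨a, w₁, ha, rfl, huw1⟩ : ∃ (a : F) (w₁ : ι → F), a ≠ 0 ∧ w = a • w₁ ∧ f1 u w₁ = 1 := by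
      refine ⟨σ (f1 u w), (σ (f1 u w))⁻¹ • w, fun e => huw (O.sg.eq_zero e), ?_, ?_⟩
      · rw [smul_smul, mul_inv_cancel₀ fun e => huw (O.sg.eq_zero e), one_smul]
      · rw [O.h1.smul_right, map_inv₀, O.sg.invol, inv_mul_cancel₀ huw]
    have hw1 : f1 w₁ w₁ = 0 := by
      rw [O.h1.smul_left, O.h1.smul_right] at hww
      exact ((mul_eq_zero.1 hww).resolve_left ha |> mul_eq_zero.1).resolve_left fun e => ha (O.sg.eq_zero e)
    have hwu : f1 w₁ u = 1 := by rw [O.h1.herm, huw1, map_one]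
    have conj : ∀ {p z : ι → F} {n : F}, f1 z z = 0 → n + σ n = 0 → (∀ l, l + σ l = 0 → AllIn O (kk O l p)) →
        ∀ l, l + σ l = 0 → AllIn O (kk O l (p + (n * f1 p z) • z)) := by
      intro p z n hzz hn hp l hl
      obtain ⟨e, he, heX⟩ := left_tv O hzz hn
      refine (hp l hl).map he heX fun c => ?_
      have e1 : f1 (c + (n * f1 c z) • z) (p + (n * f1 p z) • z) = f1 c p := by
        simp only [O.h1.add_left, O.h1.add_right, O.h1.smul_left, O.h1.smul_right, hzz, map_mul,
          mul_zero, add_zero]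
        rw [← O.h1.herm]
        linear_combination (f1 c z * f1 z p) * hn
      rw [LinearMap.add_apply, LinearMap.id_apply, LinearMap.add_apply, LinearMap.id_apply, kk_apply,
        kk_apply, kk_apply, kk_apply, e1, O.h1.smul_left, smul_add, smul_smul]
      congr 2
      ring
    have h1 := conj hw1 hm hK
    have hm' : -m⁻¹ + σ (-m⁻¹) = 0 := by
      rw [map_neg, map_inv₀, eq_neg_of_add_eq_zero_right hm, inv_neg]; ring
    have h2 := conj (p := u + (m * f1 u w₁) • w₁) huu hm' h1
    have e : u + (m * f1 u w₁) • w₁ + (-m⁻¹ * f1 (u + (m * f1 u w₁) • w₁) u) • u = (m * a⁻¹) • (a • w₁) := by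
      rw [huw1, mul_one, O.h1.add_left, O.h1.smul_left, huu, hwu, mul_one, zero_add, neg_mul,
        inv_mul_cancel₀ hm0, neg_one_smul, smul_smul, mul_assoc, inv_mul_cancel₀ ha, mul_one]
      abel
    have hN : m * a⁻¹ * σ (m * a⁻¹) ≠ 0 := mul_ne_zero (mul_ne_zero hm0 (inv_ne_zero ha)) fun h =>
      mul_ne_zero hm0 (inv_ne_zero ha) (O.sg.eq_zero h)
    have h3 := h2 (l / (m * a⁻¹ * σ (m * a⁻¹))) (by
      rw [map_div₀, O.sg.norm_fix, eq_neg_of_add_eq_zero_right hl]; ring)
    rw [e] at h3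
    convert h3 using 1
    refine LinearMap.ext fun c => ?_
    rw [kk_apply, kk_apply, O.h1.smul_right, O.h1.smul_right, smul_smul, smul_smul, smul_smul]
    congr 1
    have hb : σ (m * a⁻¹) ≠ 0 := fun h => mul_ne_zero hm0 (inv_ne_zero ha) (O.sg.eq_zero h)
    have ha' : σ a ≠ 0 := fun h => ha (O.sg.eq_zero h)
    have hm' : σ m ≠ 0 := fun h => hm0 (O.sg.eq_zero h)
    rw [map_mul, map_inv₀] at hb ⊢
    field_simp
    simp only [O.h1.smul_right, map_mul, map_inv₀]
    try field_simp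
  by_cases huw : f1 u w = 0
  · obtain ⟨y, hyy, hyu, hyw⟩ := O.h1.avoid O.sg hu huu hw
    exact step y w hyy hww hyw (step u y huu hyy (fun e => hyu (O.h1.symm0 e)) hK) l hl
  · exact step u w huu hww huw hK l hl

end

end CfsgLib.MaxSub.TensorHerm
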