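/-
Transvections centred at isotropic pure tensors generate all transvections.
-/
import Cfsg.Agent.Lib.MaxSub.TensorHerm.Exit

set_option autoImplicit false
set_option maxHeartbeats 400000
set_option linter.unusedSectionVars false

namespace CfsgLib.MaxSub.TensorHerm

open Matrix Module
open CfsgLib.MaxSub.TensorLin (Col colMap colMap_apply mem_col vmv_eq_zero vmv_zero)

variable {F : Type*} [Field F] {ι κ : Type*} [Fintype ι] [Fintype κ] [DecidableEq ι] [DecidableEq κ]
variable {σ : F →+* F} {f1 : (ι → F) → (ι → F) → F} {f2 : (κ → F) → (κ → F) → F}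
  {f : Matrix ι κ F → Matrix ι κ F → F} {G : Subgroup (Matrix ι κ F ≃ₗ[F] Matrix ι κ F)}

local notation "MV" => Matrix ι κ F

section

variable (O : TU σ f1 f2 f G)
include O

theorem fsl (a : F) (X Y : MV) : f (a • X) Y = a * f X Y := O.h.smul_left a X Y

theorem fsr (a : F) (X Y : MV) : f X (a • Y) = σ a * f X Y := O.h.smul_right a X Y

omit O in
/-- Transvections with a given centre. -/
def Ctr (σ : F →+* F) (f : Matrix ι κ F → Matrix ι κ F → F)
    (G : Subgroup (Matrix ι κ F ≃ₗ[F] Matrix ι κ F)) (Z : Matrix ι κ F) : Prop :=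
  ∀ l, l + σ l = 0 → ∃ g ∈ G, ∀ X, g X = X + (l * f X Z) • Z

theorem ctr_pure [Finite F] (hex : Ex O) {u : ι → F} (hu : u ≠ 0) (huu : f1 u u = 0) {x : κ → F} (hx : x ≠ 0)
    (hxx : f2 x x = 0) : Ctr σ f G (vecMulVec u x) := fun l hl => by
  obtain ⟨g, hg, hgX⟩ := allIn_kk_all O hex hu huu hl x hx hxx
  exact ⟨g, hg, fun X => by rw [hgX, kk_apply, f_cv O, smul_vecMulVec]⟩

theorem ctr_smul {Z : MV} (h : Ctr σ f G Z) (a : F) : Ctr σ f G (a • Z) := fun l hl => by
  obtain ⟨g, hg, hgX⟩ := h (l * (a * σ a)) (by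
    rw [map_mul, O.sg.norm_fix]; linear_combination (a * σ a) * hl)
  refine ⟨g, hg, fun X => ?_⟩
  rw [hgX, fsr O, smul_smul]
  congr 2
  ring

theorem ctr_conj {Z : MV} (h : Ctr σ f G Z) {e : MV ≃ₗ[F] MV} (he : e ∈ G) :
    Ctr σ f G (e Z) := fun l hl => by
  obtain ⟨g, hg, hgX⟩ := h l hl
  refine ⟨e * g * e⁻¹, mul_mem (mul_mem he hg) (inv_mem he), fun X => ?_⟩
  show e (g (e.symm X)) = _
  rw [hgX, map_add, map_smul, e.apply_symm_apply, isom_symm O he]

/-- The displacement of a Siegel element of the whole space. -/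
def er (E W : Matrix ι κ F) (μ : F) : Matrix ι κ F →ₗ[F] Matrix ι κ F :=
  (O.h.lin E).smulRight W - (O.h.lin W).smulRight E + μ • (O.h.lin E).smulRight E

theorem er_apply (E W : MV) (μ : F) (X : MV) :
    er O E W μ X = f X E • W - f X W • E + (μ * f X E) • E := by
  simp [er, HForm.lin_apply, smul_smul]

/-- A Siegel element with given centre and vector. -/
def InW (E W : Matrix ι κ F) : Prop :=
  f W E = 0 ∧ ∃ μ, ∃ g ∈ G, ∀ X, g X = X + er O E W μ X

theorem inW_zero (E : MV) : InW O E 0 :=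
  ⟨O.h.zero_left E, 0, 1, one_mem G, fun X => by simp [er_apply, O.h.zero_right]⟩

theorem inW_self {E : MV} (hE : f E E = 0) (s : F) : InW O E (s • E) := by
  refine ⟨by rw [fsl O, hE, mul_zero], σ s - s, 1, one_mem G, fun X => ?_⟩
  rw [er_apply, fsr O]
  show X = _
  module

theorem inW_add {E W W' : MV} (hE : f E E = 0) (h : InW O E W) (h' : InW O E W') : InW O E (W + W') := by
  obtain ⟨hW, μ, g, hg, hgX⟩ := h
  obtain ⟨hW', μ', g', hg', hgX'⟩ := h'
  refine ⟨by rw [O.h.add_left, hW, hW', add_zero], μ + μ' - f W' W, g * g', mul_mem hg hg', fun X => ?_⟩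
  rw [LinearEquiv.mul_apply, hgX, hgX']
  simp only [er_apply, O.h.add_left, O.h.sub_left, fsl O, O.h.add_right, hE, hW',
    O.h.symm0 hW, mul_zero, add_zero, sub_zero]
  module

/-- All multiples of a vector. -/
def AllW (E W : Matrix ι κ F) : Prop := ∀ s : F, InW O E (s • W)

/-- The subspace of such vectors. -/
def WS {E : Matrix ι κ F} (hE : f E E = 0) : Submodule F (Matrix ι κ F) where
  carrier := {W | AllW O E W}
  add_mem' {W W'} h h' s := by rw [smul_add]; exact inW_add O hE (h s) (h' s)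
  zero_mem' s := by rw [smul_zero]; exact inW_zero O E
  smul_mem' t {W} h s := by rw [smul_smul]; exact h _

theorem self_mem {E : MV} (hE : f E E = 0) : E ∈ WS O hE := fun s => inW_self O hE s

/-- Centres on a line give its second point and the Siegel elements. -/
theorem line {E Z : MV} (hE : f E E = 0) (hZ : f Z Z = 0) (hEZ : f E Z = 0)
    (h : ∀ α : F, Ctr σ f G (E + α • Z)) : Ctr σ f G Z ∧ Z ∈ WS O hE := by
  have hZE := O.h.symm0 hEZ
  have hpp : ∀ α β : F, f (E + α • Z) (E + β • Z) = 0 := fun α β => by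
    simp [O.h.add_left, O.h.add_right, fsl O, fsr O, hE, hZ, hEZ, hZE]
  have hZp : ∀ β : F, f Z (E + β • Z) = 0 := fun β => by
    simp [O.h.add_right, fsr O, hZ, hZE]
  have hab : ∀ (X : MV) (r α β : F), f (X + r • (E + α • Z)) (E + β • Z) = f X (E + β • Z) :=
    fun X r α β => by rw [O.h.add_left, fsl O, hpp, mul_zero, add_zero]
  have habZ : ∀ (X : MV) (r β : F), f (X + r • Z) (E + β • Z) = f X (E + β • Z) :=
    fun X r β => by rw [O.h.add_left, fsl O, hZp, mul_zero, add_zero]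
  have hctr : Ctr σ f G Z := fun l hl => by
    obtain ⟨k, hk⟩ := O.sg.trace_one
    have hl' : -l + σ (-l) = 0 := by rw [map_neg]; linear_combination -hl
    obtain ⟨g1, hg1, hg1X⟩ := h (k + 1) l hl
    obtain ⟨g2, hg2, hg2X⟩ := h k (-l) hl'
    obtain ⟨g3, hg3, hg3X⟩ := h 1 (-l) hl'
    obtain ⟨g4, hg4, hg4X⟩ := h 0 l hl
    refine ⟨g1 * g2 * g3 * g4, mul_mem (mul_mem (mul_mem hg1 hg2) hg3) hg4, fun X => ?_⟩
    simp only [LinearEquiv.mul_apply, hg1X, hg2X, hg3X, hg4X, hab]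
    simp only [O.h.add_right, fsr O, map_add, map_one, map_zero]
    match_scalars
    · ring
    · ring
    · linear_combination (l * f X Z) * hk
  refine ⟨hctr, fun s => ⟨by rw [fsl O, hZE, mul_zero], 0, ?_⟩⟩
  obtain ⟨l, hl0, hl⟩ := O.sg.skew
  set β := s / l with hβ
  have hl' : -l + σ (-l) = 0 := by rw [map_neg]; linear_combination -hl
  obtain ⟨g1, hg1, hg1X⟩ := h β l hl
  obtain ⟨g2, hg2, hg2X⟩ := h 0 (-l) hl'
  obtain ⟨g3, hg3, hg3X⟩ := hctr (-(l * (β * σ β))) (by
    rw [map_neg, map_mul σ l, O.sg.norm_fix]; linear_combination (-(β * σ β)) * hl)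
  refine ⟨g1 * g2 * g3, mul_mem (mul_mem hg1 hg2) hg3, fun X => ?_⟩
  simp only [LinearEquiv.mul_apply, hg1X, hg2X, hg3X, hab, habZ]
  rw [er_apply, fsr O, smul_smul, zero_mul, zero_smul, add_zero,
    show s = l * β by rw [hβ, mul_div_cancel₀ _ hl0], map_mul σ l β, eq_neg_of_add_eq_zero_right hl]
  simp only [O.h.add_right, fsr O, map_zero]
  match_scalars <;> ring

/-- Transport of vectors by a transvection. -/
theorem tran {E Z W₀ : MV} (hE : f E E = 0) (hW₀ : W₀ ∈ WS O hE) (hZ : Ctr σ f G Z) (hEZ : f E Z = 0)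
    (h : f W₀ Z ≠ 0) : Z ∈ WS O hE := by
  obtain ⟨l, hl0, hl⟩ := O.sg.skew
  obtain ⟨t, ht, htX⟩ := hZ l hl
  have htE : t E = E := by rw [htX, hEZ, mul_zero, zero_smul, add_zero]
  have h1 : t W₀ ∈ WS O hE := fun s => by
    obtain ⟨h0, μ, g, hg, hgX⟩ := hW₀ s
    rw [← map_smul]
    refine ⟨by rw [← htE, O.isom t ht, h0], μ, t * g * t⁻¹, mul_mem (mul_mem ht hg) (inv_mem ht), fun X => ?_⟩
    show t (g (t.symm X)) = _
    rw [hgX, map_add, t.apply_symm_apply, er_apply, er_apply, isom_symm O ht, isom_symm O ht]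
    simp only [map_add, map_sub, map_smul, htE]
  have h2 := (WS O hE).smul_mem (l * f W₀ Z)⁻¹ ((WS O hE).sub_mem h1 hW₀)
  rwa [htX, add_sub_cancel_left, smul_smul, inv_mul_cancel₀ (mul_ne_zero hl0 h), one_smul] at h2

/-- Centres not perpendicular to the centre of a Siegel group. -/
theorem trans_ctr {E Y₀ Y : MV} (hE : f E E = 0) (hcE : Ctr σ f G E) (hY₀ : Ctr σ f G Y₀)
    (hY₀0 : f Y₀ Y₀ = 0) (hY₀E : f Y₀ E = 1) (hY0 : f Y Y = 0) (hYE : f Y E = 1)
    (hW : Y - Y₀ ∈ WS O hE) : Ctr σ f G Y := by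
  have := hW 1
  rw [one_smul] at this
  obtain ⟨-, μ, g, hg, hgX⟩ := this
  set ν := μ - f Y₀ (Y - Y₀) with hν
  have hg0 : g Y₀ = Y + ν • E := by
    rw [hgX, er_apply, hY₀E, hν, one_smul, mul_one, sub_smul]
    abel
  have hEY : f E Y = 1 := by rw [O.h.herm, hYE, map_one]
  have hνs : ν + σ ν = 0 := by
    have h1 := O.isom g hg Y₀ Y₀
    rw [hg0, hY₀0] at h1
    simp only [O.h.add_left, O.h.add_right, fsl O, fsr O, hY0, hYE, hEY, hE, mul_one,
      mul_zero, add_zero, zero_add] at h1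
    linear_combination h1
  obtain ⟨t, ht, htX⟩ := hcE (-ν) (by rw [map_neg]; linear_combination -hνs)
  have h1 := ctr_conj O hY₀ (mul_mem ht hg)
  rwa [LinearEquiv.mul_apply, hg0, htX, O.h.add_left, fsl O, hYE, hE, mul_zero, add_zero, mul_one,
    neg_smul, add_neg_cancel_right] at h1

/-- Endomorphisms of rank two at an isotropic vector. -/
theorem allIn_cross [Finite F] (hex : Ex O) {u u' d : ι → F} (huu : f1 u u = 0) (hu'u' : f1 u' u' = 0)
    (hu'u : f1 u' u = 1) (huu' : f1 u u' = 1) (hdu : f1 d u = 0) (hdu' : f1 d u' = 0) :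
    AllIn O ((O.h1.lin u).smulRight d - (O.h1.lin d).smulRight u) := by
  have hu : u ≠ 0 := O.h1.ne_zero_left (y := u') (by rw [huu']; exact one_ne_zero)
  have hu' : u' ≠ 0 := O.h1.ne_zero_left (y := u) (by rw [hu'u]; exact one_ne_zero)
  obtain ⟨l, hl0, hl⟩ := O.sg.skew
  have hσl : σ l = -l := eq_neg_of_add_eq_zero_right hl
  have hkk : ∀ {w : ι → F}, f1 w w = 0 → ∀ {m : F}, m + σ m = 0 → AllIn O (kk O m w) := fun {w} hw {m} hm => by
    by_cases hw0 : w = 0
    · intro x _ _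
      exact ⟨1, one_mem G, fun X => by simp [kk_apply, hw0]⟩
    · exact allIn_kk_all O hex hw0 hw hm
  set r := l * l with hrd
  have hr0 : r ≠ 0 := mul_ne_zero hl0 hl0
  have hr : σ r = r := by rw [hrd, map_mul, hσl, neg_mul_neg]
  let cross : (ι → F) → (ι → F) →ₗ[F] (ι → F) := fun p =>
    (O.h1.lin u).smulRight (r • p) - (O.h1.lin p).smulRight (r • u)
  have h0 : AllIn O (cross u') := by
    have h1 := ((hkk (w := u' + l • u) (by
        simp [O.h1.add_left, O.h1.add_right, O.h1.smul_left, O.h1.smul_right, huu, hu'u', hu'u, huu']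
        linear_combination hl) hl).add (hkk hu'u' hl).neg).add
      (hkk huu (m := -(l * (l * σ l))) (by
        rw [map_neg, map_mul, O.sg.norm_fix]; linear_combination (-(l * σ l)) * hl))
    convert h1.neg using 1
    refine LinearMap.ext fun c => ?_
    simp only [cross, LinearMap.sub_apply, LinearMap.add_apply, LinearMap.neg_apply,
      LinearMap.smulRight_apply, HForm.lin_apply, kk_apply, O.h1.add_right, O.h1.smul_right, hσl, hrd]
    module
  obtain ⟨μ, hμ⟩ := O.sg.trace (-f1 (r⁻¹ • d) (r⁻¹ • d)) (by rw [map_neg, O.h1.self_fix])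
  obtain ⟨e, he, heX⟩ := O.eichL u (r⁻¹ • d) μ huu (by rw [O.h1.smul_left, hdu, mul_zero]) hμ
  let w := r⁻¹ • d
  let hl' : (ι → F) →ₗ[F] (ι → F) := LinearMap.id + (O.h1.lin u).smulRight w
    - (O.h1.lin w).smulRight u + kk O μ u
  have hwu : f1 w u = 0 := by rw [O.h1.smul_left, hdu, mul_zero]
  have hwu' : f1 w u' = 0 := by rw [O.h1.smul_left, hdu', mul_zero]
  have hiso : ∀ c p, f1 (hl' c) (hl' p) = f1 c p := fun c p => by
    simp only [hl', LinearMap.add_apply, LinearMap.sub_apply, LinearMap.id_apply, LinearMap.smulRight_apply,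
      HForm.lin_apply, kk_apply, O.h1.add_left, O.h1.add_right, O.h1.sub_left, O.h1.sub_right,
      O.h1.smul_left, O.h1.smul_right, huu, hwu, O.h1.symm0 hwu, map_mul, mul_zero, add_zero, sub_zero,
      zero_add]
    rw [← O.h1.herm p u, ← O.h1.herm p w]
    linear_combination (f1 c u * f1 u p) * hμ
  have hu1 : hl' u = u := by
    simp [hl', kk_apply, huu, O.h1.symm0 hwu, HForm.lin_apply]
  have hu2 : hl' u' = u' + w + μ • u := by
    simp [hl', kk_apply, hu'u, O.h1.symm0 hwu', HForm.lin_apply]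
  have h2 := h0.map (T' := cross (hl' u')) he (hl := hl') (fun c x => by rw [heX]; rfl) fun c => by
    simp only [cross, LinearMap.sub_apply, LinearMap.smulRight_apply, HForm.lin_apply, map_sub, map_smul,
      hu1]
    rw [show f1 (hl' c) u = f1 c u by conv_lhs => rw [← hu1, hiso], hiso]
  have h3 := (h2.add h0.neg).add (hkk huu (m := r * (σ μ - μ)) (by
    rw [map_mul, map_sub, O.sg.invol, hr]; ring))
  convert h3 using 1
  refine LinearMap.ext fun c => ?_
  simp only [cross, hu2, LinearMap.sub_apply, LinearMap.add_apply, LinearMap.neg_apply,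
    LinearMap.smulRight_apply, HForm.lin_apply, kk_apply, O.h1.add_right, O.h1.smul_right, w,
    smul_add, smul_smul, mul_inv_cancel₀ hr0, map_inv₀, hr, one_smul]
  match_scalars
  · ring
  all_goals field_simp
  all_goals ring

/-- The Siegel group of an isotropic pure tensor: the two kinds of generators in a plane. -/
theorem ws_plane [Finite F] (hex : Ex O) (hk : Fintype.card κ = 2) {u u' : ι → F} (hu : u ≠ 0)
    (hu' : u' ≠ 0) (huu : f1 u u = 0) (hu'u' : f1 u' u' = 0) (hu'u : f1 u' u = 1) (huu' : f1 u u' = 1)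
    {x x' : κ → F} (hx : x ≠ 0) (hx' : x' ≠ 0) (hxx : f2 x x = 0) (hx'x' : f2 x' x' = 0)
    (hx'x : f2 x' x = 1) (hxx' : f2 x x' = 1)
    (hE : f (vecMulVec u x) (vecMulVec u x) = 0) :
    (∀ c z, f2 z x = 0 → vecMulVec c z ∈ WS O hE) ∧
      ∀ c, f1 c u = 0 → vecMulVec c x' ∈ WS O hE := by
  set L := WS O hE
  -- Siegel elements of two pure tensors with the same second factor
  have hR : ∀ {p q d : ι → F}, f1 p p = 0 → f1 q q = 0 → f1 q p = 1 → f1 p q = 1 → f1 d p = 0 →
      f1 d q = 0 → ∀ z, z ≠ 0 → f2 z z = 0 → InW O (vecMulVec p z) (vecMulVec d z) := by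
    intro p q d hpp hqq hqp hpq hdp hdq z hz hzz
    refine ⟨by rw [O.f_pure, hdp, zero_mul], 0, ?_⟩
    obtain ⟨g, hg, hgX⟩ := allIn_cross O hex hpp hqq hqp hpq hdp hdq z hz hzz
    refine ⟨g, hg, fun X => ?_⟩
    rw [hgX, er_apply, f_cv O, f_cv O, zero_mul, zero_smul, add_zero, LinearMap.sub_apply, sub_vmv,
      LinearMap.smulRight_apply, LinearMap.smulRight_apply, smul_vecMulVec, smul_vecMulVec]
    rfl
  have hdx : ∀ d, f1 d u = 0 → f1 d u' = 0 → vecMulVec d x ∈ L := fun d hdu hdu' s => by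
    rw [← smul_vecMulVec]
    exact hR huu hu'u' hu'u huu' (by rw [O.h1.smul_left, hdu, mul_zero])
      (by rw [O.h1.smul_left, hdu', mul_zero]) x hx hxx
  -- elements fixing the centre
  have hinv : ∀ {g : MV ≃ₗ[F] MV}, g ∈ G → g (vecMulVec u x) = vecMulVec u x → ∀ W ∈ L, g W ∈ L := by
    intro g hg hgE W hW s
    obtain ⟨h0, μ, t, ht, htX⟩ := hW s
    rw [← map_smul]
    refine ⟨by rw [← hgE, O.isom g hg, h0], μ, g * t * g⁻¹, mul_mem (mul_mem hg ht) (inv_mem hg), fun X => ?_⟩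
    show g (t (g.symm X)) = _
    rw [htX, map_add, g.apply_symm_apply, er_apply, er_apply, isom_symm O hg, isom_symm O hg]
    simp only [map_add, map_sub, map_smul, hgE]
  obtain ⟨d₀, hd₀u, hd₀u', hd₀⟩ : ∃ d, f1 d u = 0 ∧ f1 d u' = 0 ∧ f1 d d ≠ 0 := by
    by_contra hc
    push Not at hc
    obtain ⟨P, hP, hdim⟩ := O.h1.finrank_perp_le ![u, u']
    rw [Module.finrank_fintype_fun_eq_card] at hdim
    have := O.three hk
    obtain ⟨p, hp, hp0⟩ := (Submodule.ne_bot_iff P).1 fun e => by rw [e, finrank_bot] at hdim; omega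
    refine hp0 (O.h1.nondeg p fun z => ?_)
    set p' := z - f1 z u' • u - f1 z u • u' with hp'
    have hp'P : p' ∈ P := (hP _).2 fun i => by
      fin_cases i <;> simp [hp', O.h1.sub_left, O.h1.smul_left, huu, hu'u', hu'u, huu']
    have hd : ∀ a ∈ P, f1 a a = 0 := fun a ha => hc a ((hP a).1 ha 0) ((hP a).1 ha 1)
    have h0 : f1 p p' = 0 := O.sg.eq_zero_of_trace fun s => by
      have e := hd _ (P.add_mem (P.smul_mem s hp) hp'P)
      rw [O.h1.add_left, O.h1.add_right, O.h1.add_right, hd p' hp'P, hd _ (P.smul_mem s hp),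
        O.h1.herm (s • p) p', O.h1.smul_left] at e
      linear_combination e
    rwa [hp', O.h1.sub_right, O.h1.sub_right, O.h1.smul_right, O.h1.smul_right,
      show f1 p u = 0 from (hP p).1 hp 0, show f1 p u' = 0 from (hP p).1 hp 1, mul_zero, sub_zero, mul_zero,
      sub_zero] at h0
  obtain ⟨-, μ, g, hg, hgX⟩ := hR (p := u) (q := u') huu hu'u' hu'u huu' hd₀u hd₀u' x' hx' hx'x'
  have hgE : g (vecMulVec u x) = vecMulVec u x := by
    rw [hgX, er_apply, O.f_pure, O.f_pure, huu, O.h1.symm0 hd₀u]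
    simp
  have hux' : vecMulVec u x' ∈ L := by
    have h1 := L.sub_mem (hinv hg hgE _ (hdx d₀ hd₀u hd₀u')) (hdx d₀ hd₀u hd₀u')
    rw [hgX, add_sub_cancel_left, er_apply, O.f_pure, O.f_pure, hd₀u, hxx'] at h1
    simp only [zero_mul, mul_zero, zero_smul, mul_one, zero_sub, add_zero] at h1
    have h2 := L.smul_mem (-(f1 d₀ d₀)⁻¹) h1
    rwa [neg_smul, smul_neg, neg_neg, smul_smul, inv_mul_cancel₀ hd₀, one_smul] at h2
  have hu'x : vecMulVec u' x ∈ L := tran O hE hux' (ctr_pure O hex hu' hu'u' hx hxx)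
    (by rw [O.f_pure, hxx, mul_zero]) (by rw [O.f_pure, huu', hx'x, mul_one]; exact one_ne_zero)
  have hdx' : ∀ d, f1 d u = 0 → f1 d u' = 0 → vecMulVec d x' ∈ L := fun d hdu hdu' => by
    obtain ⟨-, μ, g, hg, hgX⟩ := hR (p := u) (q := u') huu hu'u' hu'u huu' hdu hdu' x' hx' hx'x'
    have hgE : g (vecMulVec u x) = vecMulVec u x := by
      rw [hgX, er_apply, O.f_pure, O.f_pure, huu, O.h1.symm0 hdu]
      simp
    have h1 := L.sub_mem (hinv hg hgE _ hu'x) hu'x
    rw [hgX, add_sub_cancel_left, er_apply, O.f_pure, O.f_pure, hu'u, hxx', O.h1.symm0 hdu'] at h1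
    simp only [one_mul, zero_mul, mul_one, zero_smul, sub_zero, one_smul] at h1
    have h2 := L.sub_mem h1 (L.smul_mem μ hux')
    rwa [add_sub_cancel_right] at h2
  refine ⟨fun c z hz => ?_, fun c hc => ?_⟩
  · obtain ⟨t, rfl⟩ := Submodule.mem_span_singleton.1 (plane_prop O hk hx hxx hz)
    rw [vmv_smul]
    refine L.smul_mem t ?_
    set c₀ := c - f1 c u' • u - f1 c u • u' with hc₀
    have e : c = c₀ + f1 c u' • u + f1 c u • u' := by rw [hc₀]; abel
    rw [e, add_vecMulVec, add_vecMulVec, smul_vecMulVec, smul_vecMulVec]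
    refine L.add_mem (L.add_mem (hdx c₀ ?_ ?_) (L.smul_mem _ (self_mem O hE))) (L.smul_mem _ hu'x) <;>
      simp [hc₀, O.h1.sub_left, O.h1.smul_left, huu, hu'u', hu'u, huu']
  · set c₀ := c - f1 c u' • u with hc₀
    have e : c = c₀ + f1 c u' • u := by rw [hc₀, sub_add_cancel]
    rw [e, add_vecMulVec, smul_vecMulVec]
    refine L.add_mem (hdx' c₀ ?_ ?_) (L.smul_mem _ hux') <;>
      simp [hc₀, O.h1.sub_left, O.h1.smul_left, huu, huu', hc]

/-- The Siegel group of an isotropic pure tensor: the two kinds of generators in the big case. -/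
theorem ws_big [Finite F] (hex : Ex O) (hk : Fintype.card κ ≠ 2) {u u' : ι → F} (hu : u ≠ 0)
    (hu'0 : u' ≠ 0) (huu : f1 u u = 0) (hu'u' : f1 u' u' = 0) (hu'u : f1 u' u = 1) (huu' : f1 u u' = 1)
    {x x' : κ → F} (hx : x ≠ 0) (hx'0 : x' ≠ 0) (hxx : f2 x x = 0) (hx'x' : f2 x' x' = 0)
    (hx'x : f2 x' x = 1) (hxx' : f2 x x' = 1)
    (hE : f (vecMulVec u x) (vecMulVec u x) = 0) :
    (∀ c z, f2 z x = 0 → vecMulVec c z ∈ WS O hE) ∧
      ∀ c, f1 c u = 0 → vecMulVec c x' ∈ WS O hE := by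
  set L := WS O hE
  -- isotropic second factors perpendicular to the centre
  have h0 : ∀ z : κ → F, z ≠ 0 → f2 z z = 0 → f2 z x = 0 → z ∉ F ∙ x → vecMulVec u z ∈ L := by
    intro z hz hzz hzx hzn
    refine (line O hE (by rw [O.f_pure, huu, zero_mul])
      (by rw [O.f_pure, huu, zero_mul]) fun α => ?_).2
    rw [← vmv_smul, ← vecMulVec_add]
    refine ctr_pure O hex hu huu (fun e => ?_) (by
      simp [O.h2.add_left, O.h2.add_right, O.h2.smul_left, O.h2.smul_right, hxx, hzz, hzx, O.h2.symm0 hzx])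
    rcases eq_or_ne α 0 with rfl | hα
    · exact hx (by simpa using e)
    · refine hzn (Submodule.mem_span_singleton.2 ⟨-α⁻¹, ?_⟩)
      rw [eq_neg_of_add_eq_zero_left e, smul_neg, neg_smul, neg_neg, smul_smul, inv_mul_cancel₀ hα,
        one_smul]
  have h1 : ∀ c : ι → F, c ≠ 0 → f1 c c = 0 → ∀ z : κ → F, z ≠ 0 → f2 z z = 0 → f2 z x = 0 → z ∉ F ∙ x →
      vecMulVec c z ∈ L := by
    have step : ∀ c₁ c₂ : ι → F, c₂ ≠ 0 → f1 c₂ c₂ = 0 → f1 c₁ c₂ ≠ 0 →
        (∀ z : κ → F, z ≠ 0 → f2 z z = 0 → f2 z x = 0 → z ∉ F ∙ x → vecMulVec c₁ z ∈ L) →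
        ∀ z : κ → F, z ≠ 0 → f2 z z = 0 → f2 z x = 0 → z ∉ F ∙ x → vecMulVec c₂ z ∈ L := by
      intro c₁ c₂ hc hcc h12 hL z hz hzz hzx hzn
      obtain ⟨w, hwx, hwz⟩ : ∃ w, f2 w x = 0 ∧ f2 z w ≠ 0 := by
        by_contra hc
        push Not at hc
        exact hzn (O.h2.perp_perp hx hc)
      obtain ⟨k, hk⟩ := O.sg.trace (-f2 w w) (by rw [map_neg, O.h2.self_fix])
      set z₀ := w + (k / f2 z w) • z with hz₀
      have hz₀z : f2 z z₀ = f2 z w := by
        rw [hz₀, O.h2.add_right, O.h2.smul_right, hzz, mul_zero, add_zero]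
      have hz₀z₀ : f2 z₀ z₀ = 0 := by
        simp only [hz₀, O.h2.add_left, O.h2.add_right, O.h2.smul_left, O.h2.smul_right, hzz, mul_zero,
          add_zero, div_mul_cancel₀ _ hwz]
        rw [show f2 w z = σ (f2 z w) from O.h2.herm z w, ← map_mul, div_mul_cancel₀ _ hwz]
        linear_combination hk
      have hz₀x : f2 z₀ x = 0 := by rw [hz₀, O.h2.add_left, O.h2.smul_left, hwx, hzx, mul_zero, add_zero]
      have hz₀n : z₀ ∉ F ∙ x := O.h2.not_mem_span (y := z) (O.h2.symm0 hzx)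
        (fun e => hwz (hz₀z ▸ O.h2.symm0 e))
      have hz₀0 : z₀ ≠ 0 := fun e => hz₀n (by rw [e]; exact zero_mem _)
      refine tran O hE (hL z₀ hz₀0 hz₀z₀ hz₀x hz₀n) (ctr_pure O hex hc hcc hz hzz)
        (by rw [O.f_pure, O.h2.symm0 hzx, mul_zero]) ?_
      rw [O.f_pure]
      exact mul_ne_zero h12 fun e => hwz (hz₀z ▸ O.h2.symm0 e)
    intro c hc hcc
    by_cases huc : f1 u c = 0
    · obtain ⟨c', hc'c', hc'u, hc'c⟩ := O.h1.avoid O.sg hu huu hc
      exact step c' c hc hcc hc'c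
        (step u c' (O.h1.ne_zero_left hc'u) hc'c' (fun e => hc'u (O.h1.symm0 e)) h0)
    · exact step u c hc hcc huc h0
  -- a complement
  obtain ⟨S, hS, hSdim⟩ := O.h2.finrank_perp_le ![x, x']
  rw [Module.finrank_fintype_fun_eq_card] at hSdim
  have hSx : ∀ s ∈ S, f2 s x = 0 ∧ f2 s x' = 0 := fun s hs => ⟨(hS s).1 hs 0, (hS s).1 hs 1⟩
  let π : (κ → F) → (κ → F) := fun z => z - f2 z x' • x - f2 z x • x'
  have hπ : ∀ z, π z ∈ S := fun z => (hS _).2 fun i => by
    fin_cases i <;> simp [π, O.h2.sub_left, O.h2.smul_left, hxx, hx'x, hxx', hx'x']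
  have HS : HForm σ (fun a b : S => f2 (a : κ → F) b) :=
    { add_left := fun a b d => O.h2.add_left _ _ _
      smul_left := fun t a b => O.h2.smul_left _ _ _
      herm := fun a b => O.h2.herm _ _
      nondeg := fun a ha => Subtype.ext (O.h2.nondeg _ fun z => by
        have e := ha ⟨π z, hπ z⟩
        simp only [π, O.h2.sub_right, O.h2.smul_right, (hSx _ a.2).1, (hSx _ a.2).2, mul_zero, sub_zero] at e
        exact e) }
  have hne : ∀ s ∈ S, s ≠ 0 → s ∉ F ∙ x := fun s hs hs0 hm => by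
    obtain ⟨t, rfl⟩ := Submodule.mem_span_singleton.1 hm
    have := (hSx _ hs).2
    rw [O.h2.smul_left, hxx', mul_one] at this
    exact hs0 (by rw [this, zero_smul])
  have hmk : ∀ c z, vecMulVec c z ∈ L ↔ L.mkQ (vecMulVec c z) = 0 := fun c z => by
    rw [Submodule.mkQ_apply, Submodule.Quotient.mk_eq_zero]
  have h2 : ∀ c : ι → F, c ≠ 0 → f1 c c = 0 → ∀ z, f2 z x = 0 → vecMulVec c z ∈ L := by
    intro c hc hcc z hzx
    have hSall : ∀ s ∈ S, vecMulVec c s ∈ L := by
      let φ : S →ₗ[F] MV ⧸ L :=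
        { toFun := fun s => L.mkQ (vecMulVec c (s : κ → F))
          map_add' := fun a b => by rw [Submodule.coe_add, vecMulVec_add, map_add]
          map_smul' := fun t a => by rw [Submodule.coe_smul, vmv_smul, map_smul, RingHom.id_apply] }
      have := HS.eq_zero_of_iso O.sg (by have := O.five hk; omega) φ fun s hs => by
        rcases eq_or_ne s 0 with rfl | hs0
        · exact map_zero φ
        · exact (hmk c s).1 (h1 c hc hcc _ (fun e => hs0 (Subtype.ext e)) hs (hSx _ s.2).1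
            (hne _ s.2 fun e => hs0 (Subtype.ext e)))
      exact fun s hs => (hmk c s).2 (LinearMap.congr_fun this ⟨s, hs⟩)
    obtain ⟨s, hs, hs0, hss⟩ := O.h2.exists_iso_mem O.sg (W := S) (by have := O.five hk; omega)
    have hcx : vecMulVec c x ∈ L := by
      have h3 := h1 c hc hcc (s + x) (fun e => hne s hs hs0 ?_)
        (by simp [O.h2.add_left, O.h2.add_right, hss, hxx, (hSx s hs).1, O.h2.symm0 (hSx s hs).1])
        (by rw [O.h2.add_left, (hSx s hs).1, hxx, add_zero]) (fun e => hne s hs hs0 ?_)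
      · have := L.sub_mem h3 (hSall s hs)
        rwa [← vmv_sub, add_sub_cancel_left] at this
      · rw [eq_neg_of_add_eq_zero_left e]
        exact Submodule.neg_mem _ (Submodule.mem_span_singleton_self x)
      · simpa using Submodule.sub_mem _ e (Submodule.mem_span_singleton_self x)
    have e : z = π z + f2 z x' • x := by simp [π, hzx]
    rw [e, vecMulVec_add, vmv_smul]
    exact L.add_mem (hSall _ (hπ z)) (L.smul_mem _ hcx)
  have h3 : ∀ c z, f2 z x = 0 → vecMulVec c z ∈ L := by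
    intro c z hz
    let φ : (ι → F) →ₗ[F] MV ⧸ L := L.mkQ ∘ₗ colMap z
    have := O.h1.eq_zero_of_iso O.sg (by rw [Module.finrank_fintype_fun_eq_card]; exact O.two) φ fun c hcc => by
      rcases eq_or_ne c 0 with rfl | hc
      · exact map_zero φ
      · exact (hmk c z).1 (h2 c hc hcc z hz)
    exact (hmk c z).2 (LinearMap.congr_fun this c)
  -- first factors perpendicular to the centre
  have hY₀ : Ctr σ f G (vecMulVec u' x') := ctr_pure O hex hu'0 hu'u' hx'0 hx'x'
  have hcE := ctr_pure O hex hu huu hx hxx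
  have h4 : ∀ c, f1 c u = 0 → vecMulVec c x' ∈ L := by
    intro c hc
    have hbase : ∀ c, f1 c u = 0 → Ctr σ f G (vecMulVec c x') → vecMulVec c x' ∈ L := by
      intro c hcu hctr
      rcases eq_or_ne c 0 with rfl | hc0
      · rw [zero_vecMulVec]; exact L.zero_mem
      obtain ⟨d, hd⟩ := O.h1.exists_left hc0
      refine tran O hE (h3 d x hxx) hctr (by rw [O.f_pure, O.h1.symm0 hcu, zero_mul]) ?_
      rw [O.f_pure, hd, hxx', mul_one]
      exact one_ne_zero
    set c₀ := c - f1 c u' • u with hc₀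
    have hc₀u : f1 c₀ u = 0 := by rw [hc₀, O.h1.sub_left, O.h1.smul_left, huu, mul_zero, sub_zero, hc]
    have hc₀u' : f1 c₀ u' = 0 := by rw [hc₀, O.h1.sub_left, O.h1.smul_left, huu', mul_one, sub_self]
    have hctr : Ctr σ f G (vecMulVec c₀ x') := by
      -- the centres at the other second factor
      have hgen : ∀ y, y ≠ 0 → f2 y y = 0 → f2 y x = 1 → Ctr σ f G (vecMulVec c₀ x) := by
        intro y hy hyy hyx
        have hxy : f2 x y = 1 := by rw [O.h2.herm, hyx, map_one]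
        refine (line O (E := vecMulVec u' y) (Z := vecMulVec c₀ x) (by rw [O.f_pure, hu'u', zero_mul])
          (by rw [O.f_pure, hxx, mul_zero]) (by rw [O.f_pure, O.h1.symm0 hc₀u', zero_mul]) fun α => ?_).1
        refine trans_ctr O hE hcE (ctr_pure O hex hu'0 hu'u' hy hyy) (by rw [O.f_pure, hu'u', zero_mul])
          (by rw [O.f_pure, hu'u, hyx, mul_one]) ?_ ?_ ?_
        · simp [O.h.add_left, O.h.add_right, fsl O, fsr O, O.f_pure, hu'u', hxx, hxy,
            hc₀u', O.h1.symm0 hc₀u']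
        · rw [O.h.add_left, fsl O, O.f_pure, O.f_pure, hu'u, hyx, hxx, mul_zero, mul_zero, add_zero,
            mul_one]
        · rw [add_sub_cancel_left]
          exact L.smul_mem α (h3 c₀ x hxx)
      obtain ⟨l, hl0, hl⟩ := O.sg.skew
      obtain ⟨e₁, he₁, he₁X, -⟩ := tv O hx'x' hl
      obtain ⟨e₂, he₂, he₂X, -⟩ := tv O hxx (l := -l⁻¹) (by
        rw [map_neg, map_inv₀, eq_neg_of_add_eq_zero_right hl, inv_neg]; ring)
      have hgc : (e₂ * e₁) (vecMulVec c₀ x) = l • vecMulVec c₀ x' := by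
        rw [LinearEquiv.mul_apply, he₁X, cv_pure, hxx', one_smul, he₂X, map_add, map_smul, cv_pure, cv_pure,
          hxx, hx'x, zero_smul, zero_add, one_smul, smul_vecMulVec, smul_smul, neg_mul,
          inv_mul_cancel₀ hl0, neg_one_smul]
        abel
      have h5 := ctr_smul O (ctr_conj O (hgen x' hx'0 hx'x' hx'x) (mul_mem he₂ he₁)) l⁻¹
      rwa [hgc, smul_smul, inv_mul_cancel₀ hl0, one_smul] at h5
    have e : c = c₀ + f1 c u' • u := by rw [hc₀, sub_add_cancel]
    rw [e, add_vecMulVec, smul_vecMulVec]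
    exact L.add_mem (hbase c₀ hc₀u hctr) (L.smul_mem _
      (hbase u huu (ctr_pure O hex hu huu hx'0 hx'x')))
  exact ⟨h3, h4⟩

/-- The Siegel group of an isotropic pure tensor is complete. -/
theorem ws_full [Finite F] (hex : Ex O) {u : ι → F} (hu : u ≠ 0) (huu : f1 u u = 0) {x : κ → F} (hx : x ≠ 0)
    (hxx : f2 x x = 0) (hE : f (vecMulVec u x) (vecMulVec u x) = 0) (W : MV)
    (hW : f W (vecMulVec u x) = 0) : W ∈ WS O hE := by
  obtain ⟨u', hu'u', hu'u, huu'⟩ := O.h1.exists_partner O.sg hu huu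
  obtain ⟨x', hx'x', hx'x, hxx'⟩ := O.h2.exists_partner O.sg hx hxx
  have hu'0 : u' ≠ 0 := fun e => one_ne_zero (α := F) (by rw [← hu'u, e, O.h1.zero_left])
  have hx'0 : x' ≠ 0 := fun e => one_ne_zero (α := F) (by rw [← hx'x, e, O.h2.zero_left])
  set L := WS O hE
  obtain ⟨h3, h4⟩ : (∀ c z, f2 z x = 0 → vecMulVec c z ∈ L) ∧ ∀ c, f1 c u = 0 → vecMulVec c x' ∈ L := by
    by_cases hk : Fintype.card κ = 2
    · exact ws_plane O hex hk hu hu'0 huu hu'u' hu'u huu' hx hx'0 hxx hx'x' hx'x hxx' hE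
    exact ws_big O hex hk hu hu'0 huu hu'u' hu'u huu' hx hx'0 hxx hx'x' hx'x hxx' hE
  -- decomposition
  let Pr : MV →ₗ[F] MV := LinearMap.id - (O.h.lin (vecMulVec u x)).smulRight (vecMulVec u' x')
  have hP : ∀ X, Pr X = X - f X (vecMulVec u x) • vecMulVec u' x' := fun X => rfl
  have hpure : ∀ c z, Pr (vecMulVec c z) ∈ L := fun c z => by
    set c₀ := c - f1 c u • u' with hc₀
    set z₀ := z - f2 z x • x' with hz₀
    have hc₀u : f1 c₀ u = 0 := by rw [hc₀, O.h1.sub_left, O.h1.smul_left, hu'u, mul_one, sub_self]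
    have hz₀x : f2 z₀ x = 0 := by rw [hz₀, O.h2.sub_left, O.h2.smul_left, hx'x, mul_one, sub_self]
    have e : Pr (vecMulVec c z) = vecMulVec c z₀ + f2 z x • vecMulVec c₀ x' := by
      rw [hP, O.f_pure, hc₀, hz₀, vmv_sub, sub_vmv, vmv_smul, smul_vecMulVec, smul_sub, smul_smul,
        mul_comm]
      abel
    rw [e]
    exact L.add_mem (h3 c z₀ hz₀x) (L.smul_mem _ (h4 c₀ hc₀u))
  have := ext_pure (A := L.mkQ ∘ₗ Pr) (B := 0) (fun c z => by
    show L.mkQ (Pr (vecMulVec c z)) = 0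
    rw [Submodule.mkQ_apply, Submodule.Quotient.mk_eq_zero]
    exact hpure c z) W
  rw [LinearMap.comp_apply, hP, hW, zero_smul, sub_zero, Submodule.mkQ_apply, LinearMap.zero_apply,
    Submodule.Quotient.mk_eq_zero] at this
  exact this

/-- All isotropic vectors are centres. -/
theorem ctr_all [Finite F] (hex : Ex O) {Y : MV} (hY : f Y Y = 0) : Ctr σ f G Y := by
  by_cases hY0 : Y = 0
  · rw [hY0]
    exact fun l _ => ⟨1, one_mem G, fun X => by simp⟩
  obtain ⟨u, x, hu, huu, hx, hxx, hne⟩ : ∃ u x, u ≠ 0 ∧ f1 u u = 0 ∧ x ≠ 0 ∧ f2 x x = 0 ∧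
      f Y (vecMulVec u x) ≠ 0 := by
    by_contra hc
    push Not at hc
    refine hY0 (O.h.nondeg Y fun X => O.h.symm0 ?_)
    refine ext_pure (A := O.h.lin Y) (B := 0) (fun c z => ?_) X
    have h1 : ∀ z, f2 z z = 0 → ∀ c, f (vecMulVec c z) Y = 0 := fun z hzz c => by
      rcases eq_or_ne z 0 with rfl | hz
      · rw [vmv_zero, O.h.zero_left]
      · exact LinearMap.congr_fun (O.h1.eq_zero_of_iso O.sg
          (by rw [Module.finrank_fintype_fun_eq_card]; exact O.two) ((O.h.lin Y).comp (colMap z))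
          fun c hcc => by
            rcases eq_or_ne c 0 with rfl | hc0
            · exact map_zero _
            · exact O.h.symm0 (hc c z hc0 hcc hz hzz)) c
    let φ : (κ → F) →ₗ[F] F :=
      { toFun := fun z => f (vecMulVec c z) Y
        map_add' := fun a b => by rw [vecMulVec_add, O.h.add_left]
        map_smul' := fun t a => by rw [vmv_smul, fsl O, RingHom.id_apply, smul_eq_mul] }
    exact LinearMap.congr_fun (O.h2.eq_zero_of_iso O.sg
      (by rw [Module.finrank_fintype_fun_eq_card]; exact O.two') φ fun z hz => h1 z hz c) z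
  obtain ⟨u', hu'u', hu'u, -⟩ := O.h1.exists_partner O.sg hu huu
  obtain ⟨x', hx'x', hx'x, -⟩ := O.h2.exists_partner O.sg hx hxx
  have hu'0 : u' ≠ 0 := O.h1.ne_zero_left (y := u) (by rw [hu'u]; exact one_ne_zero)
  have hx'0 : x' ≠ 0 := O.h2.ne_zero_left (y := x) (by rw [hx'x]; exact one_ne_zero)
  set a := f Y (vecMulVec u x) with ha
  have hE : f (vecMulVec u x) (vecMulVec u x) = 0 := by rw [O.f_pure, huu, zero_mul]
  have h1 : Ctr σ f G (a⁻¹ • Y) := by
    refine trans_ctr O hE (ctr_pure O hex hu huu hx hxx) (ctr_pure O hex hu'0 hu'u' hx'0 hx'x')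
      (by rw [O.f_pure, hu'u', zero_mul]) (by rw [O.f_pure, hu'u, hx'x, mul_one]) ?_ ?_
      (ws_full O hex hu huu hx hxx hE _ ?_)
    · rw [fsl O, fsr O, hY, mul_zero, mul_zero]
    · rw [fsl O, ← ha, inv_mul_cancel₀ hne]
    · rw [O.h.sub_left, fsl O, ← ha, inv_mul_cancel₀ hne, O.f_pure, hu'u, hx'x, mul_one, sub_self]
  have h2 := ctr_smul O h1 a
  rwa [smul_smul, mul_inv_cancel₀ hne, one_smul] at h2

end

end CfsgLib.MaxSub.TensorHerm
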