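/-
Overgroups of the product of a three-dimensional and a two-dimensional unitary group: basic tools.
The members are the images of the totally isotropic spaces `B ⊗ v` of dimension three.
-/
import Cfsg.Agent.Lib.MaxSub.TensorHerm.Gen

set_option autoImplicit false
set_option maxHeartbeats 400000
set_option linter.unusedSectionVars false

namespace CfsgLib.MaxSub.TensorHerm

open Matrix Module
open CfsgLib.MaxSub.TensorLin (Col colMap colMap_apply mem_col finrank_col colMap_injective vmv_eq_zero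
  vmv_zero)

variable {F : Type*} [Field F] [Fintype F] {ι κ : Type*} [Fintype ι] [Fintype κ] [DecidableEq ι]
  [DecidableEq κ]
variable {σ : F →+* F} {f1 : (ι → F) → (ι → F) → F} {f2 : (κ → F) → (κ → F) → F}
  {f : Matrix ι κ F → Matrix ι κ F → F} {G : Subgroup (Matrix ι κ F ≃ₗ[F] Matrix ι κ F)}

local notation "MV" => Matrix ι κ F

/-- The setting of a plane and a three-space, with a hyperbolic pair and a fixed field element. -/
structure PS (σ : F →+* F) (f1 : (ι → F) → (ι → F) → F) (f2 : (κ → F) → (κ → F) → F)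
    (G : Subgroup (Matrix ι κ F ≃ₗ[F] Matrix ι κ F)) (v v' : κ → F) (τ : F) : Prop where
  hk : Fintype.card κ = 2
  hι : Fintype.card ι = 3
  v0 : v ≠ 0
  vv : f2 v v = 0
  v'v' : f2 v' v' = 0
  v'v : f2 v' v = 1
  vv' : f2 v v' = 1
  τfix : σ τ = τ
  τ0 : τ ≠ 0
  τ1 : τ ≠ 1
  left : ∀ A : (ι → F) →ₗ[F] (ι → F), LinearMap.det A = 1 → (∀ c d, f1 (A c) (A d) = f1 c d) →
    ∃ e ∈ G, ∀ c x, e (vecMulVec c x) = vecMulVec (A c) x

/-- A map respecting the decomposition. -/
def Tens (g : Matrix ι κ F ≃ₗ[F] Matrix ι κ F) : Prop :=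
  ∃ (φ : (ι → F) → (ι → F)) (L : (κ → F) → (κ → F)), ∀ c x, g (vecMulVec c x) = vecMulVec (φ c) (L x)

section

variable (O : TU σ f1 f2 f G) {v v' : κ → F} {τ : F} (S : PS σ f1 f2 G v v' τ)
include O S

theorem v'0 : v' ≠ 0 := O.h2.ne_zero_left (y := v) (by rw [S.v'v]; exact one_ne_zero)

/-- Coordinates in the plane. -/
theorem plane_dec (a : κ → F) : a = f2 a v • v' + f2 a v' • v := by
  have h1 : f2 (a - f2 a v • v' - f2 a v' • v) v = 0 := by
    rw [O.h2.sub_left, O.h2.sub_left, O.h2.smul_left, O.h2.smul_left, S.v'v, S.vv, mul_one, mul_zero,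
      sub_self, sub_zero]
  obtain ⟨s, hs⟩ := Submodule.mem_span_singleton.1 (plane_prop O S.hk S.v0 S.vv h1)
  have h2 := congrArg (O.h2.lin v') hs
  simp only [HForm.lin_apply, O.h2.smul_left, O.h2.sub_left, S.vv', S.v'v', mul_one, mul_zero, sub_zero,
    sub_self] at h2
  rw [h2, zero_smul, eq_comm, sub_sub, sub_eq_zero] at hs
  exact hs

/-- Coordinates in the space. -/
theorem dec (X : MV) : X = vecMulVec (cv O v X) v' + vecMulVec (cv O v' X) v := by
  refine ext_pure (A := LinearMap.id) (B := colMap v' ∘ₗ cv O v + colMap v ∘ₗ cv O v') (fun c a => ?_) X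
  show vecMulVec c a = vecMulVec (cv O v (vecMulVec c a)) v' + vecMulVec (cv O v' (vecMulVec c a)) v
  conv_lhs => rw [plane_dec O S a, vecMulVec_add, vmv_smul, vmv_smul]
  rw [cv_pure, cv_pure, smul_vecMulVec, smul_vecMulVec]

theorem mem_base {X : MV} : X ∈ Col (ι := ι) v ↔ cv O v X = 0 := by
  refine ⟨fun h => ?_, fun h => ?_⟩
  · exact cv_col O S.vv h
  · rw [dec O S X, h, zero_vecMulVec, zero_add]
    exact mem_col.2 ⟨_, rfl⟩

theorem base_eq {X : MV} (h : X ∈ Col (ι := ι) v) : X = vecMulVec (cv O v' X) v := by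
  conv_lhs => rw [dec O S X, (mem_base O S).1 h, zero_vecMulVec, zero_add]

theorem cv_pair (c d : ι → F) : cv O v (vecMulVec c v' + vecMulVec d v) = c ∧
    cv O v' (vecMulVec c v' + vecMulVec d v) = d := by
  refine ⟨?_, ?_⟩ <;>
    rw [map_add, cv_pure, cv_pure] <;> simp [S.v'v, S.vv, S.v'v', S.vv']

theorem finrank_base : finrank F (Col (ι := ι) (F := F) v) = 3 := by rw [finrank_col S.v0, S.hι]

/-- A member is its own perpendicular. -/
theorem perp_base {X : MV} : X ∈ Col (ι := ι) v ↔ ∀ d, f X (vecMulVec d v) = 0 := by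
  rw [mem_base O S]
  refine ⟨fun h d => ?_, fun h => cv_eq_zero O h⟩
  rw [f_cv O, h, O.h1.zero_left]

end

/-- The transvection type map of the image of the base member. -/
def AM (O : TU σ f1 f2 f G) (g : Matrix ι κ F ≃ₗ[F] Matrix ι κ F) (v : κ → F) :
    Matrix ι κ F →ₗ[F] Matrix ι κ F :=
  g.toLinearMap ∘ₗ colMap v ∘ₗ cv O v ∘ₗ g.symm.toLinearMap

/-- The member. -/
abbrev MM (g : Matrix ι κ F ≃ₗ[F] Matrix ι κ F) (v : κ → F) : Submodule F (Matrix ι κ F) :=
  (Col (ι := ι) v).map g.toLinearMap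

omit [Fintype F] in
theorem mem_MM {g : Matrix ι κ F ≃ₗ[F] Matrix ι κ F} {v : κ → F} {X : Matrix ι κ F} :
    X ∈ MM g v ↔ g.symm X ∈ Col (ι := ι) v := Submodule.mem_map_equiv _

omit [Fintype F] in
theorem MM_mul (g h : Matrix ι κ F ≃ₗ[F] Matrix ι κ F) (v : κ → F) :
    MM (g * h) v = (MM h v).map g.toLinearMap := by
  rw [MM, MM, ← Submodule.map_comp]
  rfl

omit [Fintype F] in
theorem MM_one (v : κ → F) : MM (1 : Matrix ι κ F ≃ₗ[F] Matrix ι κ F) v = Col (ι := ι) v :=
  Submodule.map_id _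

section

variable (O : TU σ f1 f2 f G) {v v' : κ → F} {τ : F} (S : PS σ f1 f2 G v v' τ)
include O S

theorem AM_apply (g : MV ≃ₗ[F] MV) (X : MV) : AM O g v X = g (vecMulVec (cv O v (g.symm X)) v) := rfl

theorem AM_one (X : MV) : AM O (1 : MV ≃ₗ[F] MV) v X = vecMulVec (cv O v X) v := rfl

theorem AM_mem (g : MV ≃ₗ[F] MV) (X : MV) : AM O g v X ∈ MM g v :=
  ⟨_, mem_col.2 ⟨_, rfl⟩, rfl⟩

theorem AM_zero {g : MV ≃ₗ[F] MV} {X : MV} : AM O g v X = 0 ↔ X ∈ MM g v := by
  rw [AM_apply O S, g.map_eq_zero_iff, vmv_eq_zero, mem_MM, mem_base O S]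
  exact ⟨fun h => h.resolve_right S.v0, Or.inl⟩

theorem AM_sq (g : MV ≃ₗ[F] MV) (X : MV) : AM O g v (AM O g v X) = 0 :=
  (AM_zero O S).2 (AM_mem O S g X)

theorem AM_onto {g : MV ≃ₗ[F] MV} {m : MV} (hm : m ∈ MM g v) : ∃ X, AM O g v X = m := by
  refine ⟨g (vecMulVec (cv O v' (g.symm m)) v'), ?_⟩
  rw [AM_apply O S, g.symm_apply_apply, cv_pure, S.v'v, one_smul, ← base_eq O S (mem_MM.1 hm),
    g.apply_symm_apply]

theorem AM_skew {g : MV ≃ₗ[F] MV} (hg : g ∈ G) (X Y : MV) :
    f (AM O g v X) Y = f X (AM O g v Y) := by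
  rw [AM_apply O S, AM_apply O S]
  conv_lhs => rw [← g.apply_symm_apply Y, O.isom g hg, f_cv' O]
  conv_rhs => rw [← g.apply_symm_apply X, O.isom g hg, f_cv O]

theorem MM_perp {g : MV ≃ₗ[F] MV} (hg : g ∈ G) {X : MV} :
    X ∈ MM g v ↔ ∀ m ∈ MM g v, f X m = 0 := by
  refine ⟨fun h m hm => ?_, fun h => ?_⟩
  · obtain ⟨X, hX, rfl⟩ := h
    obtain ⟨Y, hY, rfl⟩ := hm
    exact (O.isom g hg X Y).trans (col_singular O S.vv hX hY)
  · refine mem_MM.2 ((perp_base O S).2 fun d => ?_)
    rw [isom_symm O hg]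
    exact h _ ⟨_, mem_col.2 ⟨d, rfl⟩, rfl⟩

theorem MM_finrank (g : MV ≃ₗ[F] MV) : finrank F (MM g v) = 3 := by
  rw [LinearEquiv.finrank_map_eq, finrank_base O S]

/-- The element of a multiple of the map. -/
theorem AM_elem {g : MV ≃ₗ[F] MV} (hg : g ∈ G) {m : F} (hm : m + σ m = 0) :
    ∃ y ∈ G, (∀ X, y X = X + m • AM O g v X) ∧ ∀ X, y.symm X = X - m • AM O g v X := by
  obtain ⟨t, ht, htX, -⟩ := tv O S.vv hm
  refine ⟨g * t * g⁻¹, mul_mem (mul_mem hg ht) (inv_mem hg), fun X => ?_, fun X => ?_⟩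
  · show g (t (g.symm X)) = _
    rw [htX, map_add, map_smul, g.apply_symm_apply]
    rfl
  · refine (g * t * g⁻¹).injective ?_
    rw [LinearEquiv.apply_symm_apply]
    show X = g (t (g.symm _))
    rw [htX, map_add, map_smul, g.apply_symm_apply]
    show X = X - m • AM O g v X + m • AM O g v (X - m • AM O g v X)
    rw [map_sub, map_smul, AM_sq O S, smul_zero, sub_zero, sub_add_cancel]

/-- The displaced member. -/
theorem map_elem {g h : MV ≃ₗ[F] MV} {m : F} {y : MV ≃ₗ[F] MV}
    (hy : ∀ X, y X = X + m • AM O g v X) {X : MV} (hX : X ∈ MM h v) :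
    X + m • AM O g v X ∈ MM (y * h) v := by
  rw [MM_mul, ← hy]
  exact ⟨X, hX, rfl⟩

/-- An element fixing the base member normalises its transvections, unless there is an exit. -/
theorem base_normal (hex : ¬ Ex O) {g : MV ≃ₗ[F] MV} (hg : g ∈ G)
    (hfix : ∀ X ∈ Col (ι := ι) v, g X ∈ Col (ι := ι) v) :
    ∃ ν : F, ν ≠ 0 ∧ ∀ X, AM O g v X = ν • vecMulVec (cv O v X) v := by
  obtain ⟨l, hl0, hl⟩ := O.sg.skew
  obtain ⟨D, hD, hDX, -⟩ := AM_elem O S hg hl
  have hmap : MM g v = Col (ι := ι) v := by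
    refine Submodule.eq_of_le_of_finrank_eq ?_ (by rw [MM_finrank O S, finrank_base O S])
    rintro _ ⟨X, hX, rfl⟩
    exact hfix X hX
  have hfixD : ∀ c, D (vecMulVec c v) = vecMulVec c v := fun c => by
    rw [hDX, (AM_zero O S).2 (hmap.symm ▸ mem_col.2 ⟨c, rfl⟩), smul_zero, add_zero]
  rcases qel O hD S.v0 S.vv hfixD (fun c x hx => by
    obtain ⟨s, rfl⟩ := Submodule.mem_span_singleton.1 (plane_prop O S.hk S.v0 S.vv hx)
    rw [vmv_smul, map_smul, hfixD, sub_self]
    exact zero_mem _) with h | ⟨L, hL⟩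
  · exact absurd h hex
  obtain ⟨i⟩ : Nonempty ι := Fintype.card_pos_iff.1 (by rw [S.hι]; omega)
  set p := l⁻¹ • (L v' - v') with hp
  have hA : ∀ c, AM O g v (vecMulVec c v') = vecMulVec c p := fun c => by
    have h1 := hL c v'
    rw [hDX] at h1
    rw [hp, vmv_smul, vmv_sub, ← h1, add_sub_cancel_left, smul_smul, inv_mul_cancel₀ hl0, one_smul]
  have hpv : p = f2 p v' • v := by
    have h1 : vecMulVec (Pi.single i (1 : F) : ι → F) p ∈ Col (ι := ι) v := by
      rw [← hA, ← hmap]
      exact AM_mem O S g _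
    have h2 := congrFun ((mem_base O S).1 h1) i
    rw [cv_pure, Pi.smul_apply, Pi.single_eq_same, smul_eq_mul, mul_one, Pi.zero_apply] at h2
    conv_lhs => rw [plane_dec O S p, h2, zero_smul, zero_add]
  refine ⟨f2 p v', fun h0 => ?_, fun X => ?_⟩
  · have h1 : vecMulVec (Pi.single i (1 : F) : ι → F) v' ∈ MM g v := (AM_zero O S).1 (by
      rw [hA, hpv, h0, zero_smul, vmv_zero])
    rw [hmap, mem_base O S, cv_pure, S.v'v, one_smul] at h1
    simp at h1
  · conv_lhs => rw [dec O S X, map_add, hA, (AM_zero O S).2 (hmap.symm ▸ mem_col.2 ⟨_, rfl⟩), add_zero, hpv,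
      vmv_smul]

/-- An element fixing the base member respects the decomposition, unless there is an exit. -/
theorem base_tens (hex : ¬ Ex O) {g : MV ≃ₗ[F] MV} (hg : g ∈ G)
    (hfix : ∀ X ∈ Col (ι := ι) v, g X ∈ Col (ι := ι) v) : Tens g := by
  obtain ⟨ν, hν0, hν⟩ := base_normal O S hex hg hfix
  let φ : (ι → F) →ₗ[F] (ι → F) := cv O v' ∘ₗ g.toLinearMap ∘ₗ colMap v
  let ψ : (ι → F) →ₗ[F] (ι → F) := cv O v' ∘ₗ g.toLinearMap ∘ₗ colMap v'
  have hφ : ∀ c, g (vecMulVec c v) = vecMulVec (φ c) v := fun c =>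
    base_eq O S (hfix _ (mem_col.2 ⟨c, rfl⟩))
  have hψ : ∀ c, g (vecMulVec c v') = vecMulVec (ν⁻¹ • φ c) v' + vecMulVec (ψ c) v := fun c => by
    have h1 := hν (g (vecMulVec c v'))
    rw [AM_apply O S, g.symm_apply_apply, cv_pure, S.v'v, one_smul, hφ, ← smul_vecMulVec] at h1
    have h2 := congrArg (cv O v') h1
    rw [cv_pure, cv_pure, S.vv', one_smul, one_smul] at h2
    conv_lhs => rw [dec O S (g (vecMulVec c v'))]
    rw [h2, smul_smul, inv_mul_cancel₀ hν0, one_smul]
    rfl
  have hφinj : Function.Injective φ := (injective_iff_map_eq_zero φ).2 fun c hc => by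
    have h1 := hφ c
    rw [hc, zero_vecMulVec, g.map_eq_zero_iff, vmv_eq_zero] at h1
    exact h1.resolve_right S.v0
  let φe := LinearEquiv.ofInjectiveEndo φ hφinj
  have hφe : ∀ c, φe c = φ c := fun c => rfl
  let H : (ι → F) →ₗ[F] (ι → F) := φe.symm.toLinearMap ∘ₗ ψ
  have hH : ∀ c, φ (H c) = ψ c := fun c => φe.apply_symm_apply (ψ c)
  have hsim : ∀ c d, f1 (φ c) (φ d) = σ ν * f1 c d := fun c d => by
    have h1 := O.isom g hg (vecMulVec c v) (vecMulVec d v')
    rw [hφ, hψ, O.f_pure, O.h.add_right, O.f_pure, O.f_pure, S.vv, S.vv', O.h1.smul_right, map_inv₀,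
      mul_zero, add_zero, mul_one, mul_one] at h1
    rw [← h1, mul_inv_cancel_left₀ (fun e => hν0 (O.sg.eq_zero e))]
  have hνfix : σ ν = ν := by
    obtain ⟨i⟩ : Nonempty ι := Fintype.card_pos_iff.1 (by rw [S.hι]; omega)
    obtain ⟨d, hd⟩ := O.h1.exists_left (x := (Pi.single i 1 : ι → F)) (by simp)
    have h1 := O.h1.herm (φ d) (φ (Pi.single i 1))
    rw [hsim, hsim, hd, O.h1.herm d _, hd, map_one, mul_one, O.sg.invol] at h1
    exact h1
  have hskew : ∀ c d, f1 (H c) d + f1 c (H d) = 0 := fun c d => by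
    have h1 := O.isom g hg (vecMulVec c v') (vecMulVec d v')
    rw [hψ, hψ, O.h.add_left, O.h.add_right, O.h.add_right, O.f_pure, O.f_pure, O.f_pure, O.f_pure,
      S.v'v', S.v'v, S.vv', S.vv, ← hH, ← hH] at h1
    simp only [O.h1.smul_left, O.h1.smul_right, hsim, hνfix, map_inv₀, mul_zero, zero_add, add_zero, mul_one, inv_mul_cancel_left₀ hν0] at h1
    rw [O.f_pure, S.v'v', mul_zero] at h1
    linear_combination h1
  by_contra hnt
  have hns : ∀ s : F, ∃ c, H c ≠ s • c := by
    by_contra hc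
    push Not at hc
    obtain ⟨s, hs⟩ := hc
    refine hnt ⟨φ, fun x => (f2 x v * ν⁻¹) • v' + (f2 x v * s + f2 x v') • v, fun c x => ?_⟩
    conv_lhs => rw [plane_dec O S x, vecMulVec_add, map_add, vmv_smul, vmv_smul, map_smul, map_smul,
      hψ, hφ, ← hH, hs, map_smul]
    simp only [vecMulVec_add, vmv_smul, smul_vecMulVec, smul_add, smul_smul]
    module
  obtain ⟨u, hu, huu, hκ⟩ := exists_kappa O hskew hns
  obtain ⟨l, hl0, hl⟩ := O.sg.skew
  obtain ⟨e, he, heX⟩ := left_tv O huu hl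
  obtain ⟨e', he', he'X⟩ := left_tv O (u := φ u) (by rw [hsim, huu, mul_zero]) (l := l / ν) (by
    rw [map_div₀, hνfix, ← add_div, hl, zero_div])
  set A : (ι → F) →ₗ[F] (ι → F) := LinearMap.id + kk O l u with hA
  set A' : (ι → F) →ₗ[F] (ι → F) := LinearMap.id + kk O (l / ν) (φ u) with hA'
  have hAA : ∀ c, A' (φ c) = φ (A c) := fun c => by
    simp only [hA, hA', LinearMap.add_apply, LinearMap.id_apply, kk_apply, map_add, map_smul, hsim, hνfix]
    congr 2
    field_simp
  set D : MV ≃ₗ[F] MV := g * e * (e' * g)⁻¹ with hD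
  have hDa : ∀ Y, D (e' (g Y)) = g (e Y) := fun Y => by
    show g (e ((e' * g).symm ((e' * g) Y))) = _
    rw [LinearEquiv.symm_apply_apply]
  have hDfix : ∀ c, D (vecMulVec c v) = vecMulVec c v := fun c => by
    obtain ⟨c₁, hc₁⟩ : ∃ c₁, A' (φ c₁) = c := by
      have hsurj : Function.Surjective (A' ∘ₗ φ : (ι → F) →ₗ[F] (ι → F)) :=
        LinearMap.injective_iff_surjective.1 ((injective_iff_map_eq_zero _).2 fun c hc => by
          have h1 : e' (g (vecMulVec c v)) = 0 := by
            rw [hφ, he'X]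
            show vecMulVec ((A' ∘ₗ φ : (ι → F) →ₗ[F] (ι → F)) c) v = 0
            rw [hc, zero_vecMulVec]
          rw [e'.map_eq_zero_iff, g.map_eq_zero_iff, vmv_eq_zero] at h1
          exact h1.resolve_right S.v0)
      exact hsurj c
    have h1 := hDa (vecMulVec c₁ v)
    rw [hφ, he'X, heX, hφ, hc₁, ← hAA, hc₁] at h1
    exact h1
  rcases qel O (mul_mem (mul_mem hg he) (inv_mem (mul_mem he' hg))) S.v0 S.vv hDfix (fun c x hx => by
    obtain ⟨s, rfl⟩ := Submodule.mem_span_singleton.1 (plane_prop O S.hk S.v0 S.vv hx)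
    rw [vmv_smul, map_smul, hDfix, sub_self]
    exact zero_mem _) with h | ⟨L, hL⟩
  · exact hex h
  set r := ν⁻¹ * f2 (L v' - v') v' with hr
  have key : ∀ c, H (A c) - A (H c) = r • A c := fun c => hφinj (by
    have h1 := hDa (vecMulVec c v')
    rw [heX, hψ, hψ, map_add e', he'X, he'X, map_smul, hAA, map_add D, hDfix, hL] at h1
    have h2 := congrArg (cv O v') h1
    rw [map_add, map_add, cv_pure, cv_pure, cv_pure, cv_pure, S.v'v', S.vv', zero_smul, zero_add,
      one_smul, one_smul, smul_smul] at h2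
    rw [map_sub, map_smul, hH, ← h2, ← hAA (H c), hH, hr, O.h2.sub_left, S.v'v', sub_zero,
      show f2 (L v') v' * ν⁻¹ = ν⁻¹ * f2 (L v') v' by ring]
    abel)
  obtain ⟨y, hyy, hyu, huy⟩ := O.h1.exists_partner O.sg hu huu
  obtain ⟨P, hP, hdim⟩ := O.h1.finrank_perp_le ![u, y]
  rw [Module.finrank_fintype_fun_eq_card, S.hι] at hdim
  obtain ⟨c, hc, hc0⟩ := (Submodule.ne_bot_iff P).1 fun e => by rw [e, finrank_bot] at hdim; omega
  have hcu : f1 c u = 0 := (hP c).1 hc 0
  have hcy : f1 c y = 0 := (hP c).1 hc 1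
  have hr0 : r = 0 := by
    have h1 := key c
    simp only [hA, LinearMap.add_apply, LinearMap.id_apply, kk_apply, hcu, mul_zero, zero_smul,
      add_zero, map_add] at h1
    have h2 := congrArg (O.h1.lin u) h1
    have h3 := congrArg (fun z => f1 z c) h1
    simp only [HForm.lin_apply, O.h1.sub_left, O.h1.add_left, O.h1.smul_left, huu, O.h1.symm0 hcu,
      hcu, mul_zero, add_zero, sub_self] at h3
    by_cases hcc : f1 c c = 0
    · exact absurd (O.h1.nondeg c fun z => by
        set z' := z - f1 z y • u - f1 z u • y with hz'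
        have hz'P : z' ∈ P := (hP _).2 fun i => by
          fin_cases i <;> simp [hz', O.h1.sub_left, O.h1.smul_left, huu, hyy, hyu, huy]
        have hspan : P = F ∙ c := (Submodule.eq_of_le_of_finrank_le
          ((Submodule.span_singleton_le_iff_mem _ _).2 hc) (by
            rw [finrank_span_singleton hc0]
            by_contra hlt
            have hP2 : finrank F P + 2 ≤ 3 := by
              have hind : LinearIndependent F ![u, y] := LinearIndependent.pair_iff.2 fun s t hst => by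
                have e1 := congrArg (O.h1.lin u) hst
                have e2 := congrArg (O.h1.lin y) hst
                simp [HForm.lin_apply, O.h1.add_left, O.h1.smul_left, O.h1.zero_left, huu, hyu, huy,
                  hyy] at e1 e2
                exact ⟨e2, e1⟩
              have hd : Disjoint P (Submodule.span F (Set.range ![u, y])) := by
                rw [Submodule.disjoint_def]
                intro w hw hw'
                rw [Matrix.range_cons, Matrix.range_cons, Matrix.range_empty, Set.union_empty,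
                  Set.singleton_union, Submodule.mem_span_pair] at hw'
                obtain ⟨a, b, rfl⟩ := hw'
                have e1 : f1 (a • u + b • y) u = 0 := (hP _).1 hw 0
                have e2 : f1 (a • u + b • y) y = 0 := (hP _).1 hw 1
                simp [O.h1.add_left, O.h1.smul_left, huu, hyu, huy, hyy] at e1 e2
                rw [e1, e2, zero_smul, zero_smul, add_zero]
              have e3 := Submodule.finrank_add_finrank_le_of_disjoint hd
              rw [finrank_span_eq_card hind, Fintype.card_fin, Module.finrank_fintype_fun_eq_card,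
                S.hι] at e3
              exact e3
            omega)).symm
        obtain ⟨s, hs⟩ := Submodule.mem_span_singleton.1 (hspan ▸ hz'P)
        have h0 : f1 c z' = 0 := by rw [← hs, O.h1.smul_right, hcc, mul_zero]
        rwa [hz', O.h1.sub_right, O.h1.sub_right, O.h1.smul_right, O.h1.smul_right, hcu, hcy, mul_zero,
          sub_zero, mul_zero, sub_zero] at h0) hc0
    · exact (mul_eq_zero.1 h3.symm).resolve_right hcc
  have h1 := key u
  simp only [hA, LinearMap.add_apply, LinearMap.id_apply, kk_apply, huu, mul_zero, zero_smul, add_zero,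
    map_add, hr0] at h1
  rw [sub_eq_zero] at h1
  have h2 : (l * f1 (H u) u) • u = 0 := by
    have h5 : H u + (l * f1 (H u) u) • u = H u + 0 := by rw [add_zero]; exact h1.symm
    exact add_left_cancel h5
  exact mul_ne_zero hl0 hκ ((smul_eq_zero.1 h2).resolve_right hu)

end

end CfsgLib.MaxSub.TensorHerm
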