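/-
Overgroups of the product of a three-dimensional and a two-dimensional unitary group: a commutator
supported on one line of the three-space gives a non-scalar endomorphism.
-/
import Cfsg.Agent.Lib.MaxSub.TensorHerm.Plane

set_option autoImplicit false
set_option maxHeartbeats 400000
set_option linter.unusedSectionVars false

namespace CfsgLib.MaxSub.TensorHerm

open Matrix Module
open CfsgLib.MaxSub.TensorLin (Col colMap colMap_apply mem_col vmv_eq_zero vmv_zero)

variable {F : Type*} [Field F] [Fintype F] {ι κ : Type*} [Fintype ι] [Fintype κ] [DecidableEq ι]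
  [DecidableEq κ]
variable {σ : F →+* F} {f1 : (ι → F) → (ι → F) → F} {f2 : (κ → F) → (κ → F) → F}
  {f : Matrix ι κ F → Matrix ι κ F → F} {G : Subgroup (Matrix ι κ F ≃ₗ[F] Matrix ι κ F)}

local notation "MV" => Matrix ι κ F

/-- An element attached to a vector of the three-space and an endomorphism of the plane. -/
def InC (f1 : (ι → F) → (ι → F) → F) (G : Subgroup (Matrix ι κ F ≃ₗ[F] Matrix ι κ F)) (q : ι → F)
    (H : (κ → F) →ₗ[F] (κ → F)) : Prop :=
  ∃ g ∈ G, ∀ d a, g (vecMulVec d a) = vecMulVec d a + f1 d q • vecMulVec q (H a)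

section

variable (O : TU σ f1 f2 f G) {v v' : κ → F} {τ : F} (S : PS σ f1 f2 G v v' τ)
include O S

theorem inC_add {q : ι → F} (hqq : f1 q q = 0) {H H' : (κ → F) →ₗ[F] (κ → F)} (h : InC f1 G q H)
    (h' : InC f1 G q H') : InC f1 G q (H + H') := by
  obtain ⟨g, hg, hgX⟩ := h
  obtain ⟨g', hg', hgX'⟩ := h'
  refine ⟨g * g', mul_mem hg hg', fun d a => ?_⟩
  rw [LinearEquiv.mul_apply, hgX', map_add, map_smul, hgX, hgX, hqq, zero_smul, add_zero,
    LinearMap.add_apply, vecMulVec_add, smul_add, add_assoc]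

theorem inC_neg {q : ι → F} (hqq : f1 q q = 0) {H : (κ → F) →ₗ[F] (κ → F)} (h : InC f1 G q H) :
    InC f1 G q (-H) := by
  obtain ⟨g, hg, hgX⟩ := h
  refine ⟨g⁻¹, inv_mem hg, fun d a => ?_⟩
  refine g.injective ?_
  show g (g.symm _) = _
  rw [g.apply_symm_apply, map_add, map_smul, hgX, hgX, hqq, zero_smul, add_zero, LinearMap.neg_apply,
    vmv_neg, smul_neg, add_assoc, add_neg_cancel, add_zero]

/-- A non-scalar endomorphism at an isotropic vector of the three-space gives an exit. -/
theorem ex_of_center {q : ι → F} (hq : q ≠ 0) (hqq : f1 q q = 0) {H : (κ → F) →ₗ[F] (κ → F)}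
    (h : InC f1 G q H) (hns : ∀ s : F, ∃ a, H a ≠ s • a) : Ex O := by
  obtain ⟨q', hq'q', hq'q, hqq'⟩ := O.h1.exists_partner O.sg hq hqq
  have hskew : ∀ a a', f2 (H a) a' + f2 a (H a') = 0 := fun a a' => by
    obtain ⟨g, hg, hgX⟩ := h
    have h1 := O.isom g hg (vecMulVec q' a) (vecMulVec q' a')
    rw [hgX, hgX, hq'q, one_smul, one_smul, O.h.add_left, O.h.add_right, O.h.add_right, O.f_pure,
      O.f_pure, O.f_pure, O.f_pure, hqq, hqq', hq'q, hq'q'] at h1
    simp only [zero_mul, one_mul, add_zero, zero_add] at h1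
    linear_combination h1
  -- an isotropic vector moved away from itself
  obtain ⟨l, hl0, hl⟩ := O.sg.skew
  obtain ⟨w, hw, hww, hκ⟩ : ∃ w, w ≠ 0 ∧ f2 w w = 0 ∧ f2 (H w) w ≠ 0 := by
    by_contra hc
    push Not at hc
    have heig : ∀ w, w ≠ 0 → f2 w w = 0 → ∃ s : F, H w = s • w := fun w hw hww => by
      obtain ⟨s, hs⟩ := Submodule.mem_span_singleton.1 (plane_prop O S.hk hw hww (hc w hw hww))
      exact ⟨s, hs.symm⟩
    obtain ⟨s, hs⟩ := heig v S.v0 S.vv
    obtain ⟨s', hs'⟩ := heig v' (v'0 O S) S.v'v'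
    have hiso : f2 (v + l • v') (v + l • v') = 0 := by
      simp [O.h2.add_left, O.h2.add_right, O.h2.smul_left, O.h2.smul_right, S.vv, S.v'v', S.v'v, S.vv']
      linear_combination hl
    obtain ⟨s'', hs''⟩ := heig (v + l • v') (fun e => by
      have := congrArg (O.h2.lin v') e
      simp [HForm.lin_apply, O.h2.add_left, O.h2.smul_left, S.vv', S.v'v', O.h2.zero_left] at this) hiso
    rw [map_add, map_smul, hs, hs'] at hs''
    have e1 := congrArg (O.h2.lin v') hs''
    have e2 := congrArg (O.h2.lin v) hs''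
    simp only [HForm.lin_apply, O.h2.add_left, O.h2.smul_left, S.vv, S.v'v', S.v'v, S.vv', mul_zero,
      mul_one, add_zero, zero_add] at e1 e2
    have hss : s = s' := by
      rw [← e1, mul_comm l s'] at e2
      exact (mul_right_cancel₀ hl0 e2).symm
    obtain ⟨a, ha⟩ := hns s
    apply ha
    conv_lhs => rw [plane_dec O S a, map_add, map_smul, map_smul, hs, hs', ← hss, smul_comm, smul_comm _ s,
      ← smul_add, ← plane_dec O S a]
  obtain ⟨w', hw'w', hw'w, hww'⟩ := O.h2.exists_partner O.sg hw hww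
  set k := f2 (H w) w with hk
  have hwHw : f2 w (H w) = -k := by linear_combination hskew w w
  have hks : k + σ k = 0 := by rw [hk, ← O.h2.herm, hwHw, add_neg_cancel]
  let K : (κ → F) →ₗ[F] (κ → F) := (O.h2.lin w).smulRight w
  let Dm : F → (κ → F) →ₗ[F] (κ → F) := fun s =>
    -(s • ((O.h2.lin (H w)).smulRight w + (O.h2.lin w).smulRight (H w))) - (s * s * k) • K
  have hD : ∀ s, s + σ s = 0 → InC f1 G q (Dm s) := fun s hs => by
    obtain ⟨t, ht, htX, -⟩ := tv O hww hs
    obtain ⟨g, hg, hgX⟩ := id h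
    have hconj : InC f1 G q (H + Dm s) := by
      refine ⟨t * g * t⁻¹, mul_mem (mul_mem ht hg) (inv_mem ht), fun d a => ?_⟩
      have hti : t.symm (vecMulVec d a) = vecMulVec d (a - (s * f2 a w) • w) := t.injective (by
        rw [t.apply_symm_apply, htX, cv_pure, O.h2.sub_left, O.h2.smul_left, hww, mul_zero, sub_zero,
          vmv_sub, vmv_smul, smul_vecMulVec, smul_smul, sub_add_cancel])
      have htv : ∀ c b, t (vecMulVec c b) = vecMulVec c (b + (s * f2 b w) • w) := fun c b => by
        rw [htX, cv_pure, vecMulVec_add, vmv_smul, smul_vecMulVec, smul_smul]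
      show t (g (t.symm _)) = _
      rw [hti, hgX, map_add, map_smul, htv, htv]
      have e1 : a - (s * f2 a w) • w + (s * f2 (a - (s * f2 a w) • w) w) • w = a := by
        rw [O.h2.sub_left, O.h2.smul_left, hww, mul_zero, sub_zero, sub_add_cancel]
      rw [e1]
      congr 2
      have e2 : f2 (H a) w = -f2 a (H w) := by linear_combination hskew a w
      simp only [Dm, K, LinearMap.add_apply, LinearMap.sub_apply, LinearMap.neg_apply, LinearMap.smul_apply,
        LinearMap.smulRight_apply, HForm.lin_apply, map_sub, map_smul, O.h2.sub_left, O.h2.smul_left, e2,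
        ← hk]
      refine congrArg _ ?_
      module
    have h2 := inC_add O S hqq hconj (inC_neg O S hqq h)
    rwa [show H + Dm s + -H = Dm s by abel] at h2
  obtain ⟨m, hm0, hmK⟩ : ∃ m : F, m ≠ 0 ∧ InC f1 G q (m • K) := by
    by_cases h2 : (2 : F) = 0
    · have hm1 : (-1 : F) = 1 := by linear_combination -h2
      have hskf : ∀ x : F, x + σ x = 0 → σ x = x := fun x hx => by linear_combination hx - x * h2
      have hfsk : ∀ x : F, σ x = x → x + σ x = 0 := fun x hx => by linear_combination hx + x * h2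
      set α := f2 (H w) w' with hα
      have hHw : H w = α • w + k • w' := by
        have e0 : f2 (H w - α • w - k • w') w = 0 := by
          rw [O.h2.sub_left, O.h2.sub_left, O.h2.smul_left, O.h2.smul_left, hww, hw'w, mul_zero, mul_one,
            sub_zero, ← hk, sub_self]
        obtain ⟨r, hr⟩ := Submodule.mem_span_singleton.1 (plane_prop O S.hk hw hww e0)
        have e1 := congrArg (O.h2.lin w') hr
        simp only [HForm.lin_apply, O.h2.sub_left, O.h2.smul_left, hww', hw'w', mul_one, mul_zero, sub_zero,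
          ← hα, sub_self] at e1
        rw [e1, zero_smul, eq_comm, sub_sub, sub_eq_zero] at hr
        exact hr
      have hkf : σ k = k := hskf k hks
      obtain ⟨s, hsf, hs0, hsC⟩ : ∃ s, σ s = s ∧ s ≠ 0 ∧ s * (α + σ α + s * k) ≠ 0 := by
        by_cases h1 : α + σ α + 1 * k = 0
        · refine ⟨τ, S.τfix, S.τ0, mul_ne_zero S.τ0 fun h => S.τ1 ?_⟩
          have h3 : (τ - 1) * k = 0 := by linear_combination h - h1
          exact sub_eq_zero.1 ((mul_eq_zero.1 h3).resolve_right hκ)
        · exact ⟨1, map_one σ, one_ne_zero, by rwa [one_mul]⟩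
      -- the scalar element
      obtain ⟨e, he, heX⟩ := left_tv O hqq (l := s * k) (hfsk _ (by rw [map_mul, hsf, hkf]))
      have hid : InC f1 G q ((s * k) • LinearMap.id) := ⟨e, he, fun d a => by
        rw [heX, LinearMap.add_apply, LinearMap.id_apply, kk_apply, add_vecMulVec, smul_vecMulVec,
          LinearMap.smul_apply, LinearMap.id_apply, vmv_smul, smul_smul, mul_comm (s * k)]⟩
      have h3 := inC_add O S hqq (hD s (hfsk s hsf)) hid
      refine ⟨-(s * (α + σ α + s * k)), neg_ne_zero.2 hsC, ?_⟩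
      convert h3 using 1
      refine LinearMap.ext fun a => ?_
      simp only [Dm, K, LinearMap.add_apply, LinearMap.sub_apply, LinearMap.neg_apply, LinearMap.smul_apply,
        LinearMap.id_apply, LinearMap.smulRight_apply, HForm.lin_apply, hHw, O.h2.add_right,
        O.h2.smul_right, hkf]
      conv_rhs => arg 2; rw [plane_dec O S a]
      have hdec : a = f2 a w • w' + f2 a w' • w := by
        have e0 : f2 (a - f2 a w • w' - f2 a w' • w) w = 0 := by
          rw [O.h2.sub_left, O.h2.sub_left, O.h2.smul_left, O.h2.smul_left, hw'w, hww, mul_one, mul_zero,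
            sub_self, sub_zero]
        obtain ⟨r, hr⟩ := Submodule.mem_span_singleton.1 (plane_prop O S.hk hw hww e0)
        have e1 := congrArg (O.h2.lin w') hr
        simp only [HForm.lin_apply, O.h2.sub_left, O.h2.smul_left, hww', hw'w', mul_one, mul_zero, sub_zero,
          sub_self] at e1
        rw [e1, zero_smul, eq_comm, sub_sub, sub_eq_zero] at hr
        exact hr
      rw [← plane_dec O S a]
      conv_rhs => arg 2; rw [hdec]
      module
    · obtain ⟨s, hs0, hs⟩ := O.sg.skew
      have h3 := inC_add O S hqq (hD s hs) (hD (-s) (by rw [map_neg]; linear_combination -hs))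
      refine ⟨-(2 * (s * s * k)), neg_ne_zero.2 (mul_ne_zero h2 (mul_ne_zero (mul_ne_zero hs0 hs0) hκ)), ?_⟩
      convert h3 using 1
      refine LinearMap.ext fun a => ?_
      simp only [Dm, K, LinearMap.add_apply, LinearMap.sub_apply, LinearMap.neg_apply, LinearMap.smul_apply,
        LinearMap.smulRight_apply, HForm.lin_apply]
      module
  obtain ⟨g, hg, hgX⟩ := hmK
  refine ⟨w, hw, hww, kk O m q, fun s => ?_, g, hg, fun X => ?_⟩
  · by_contra hc
    push Not at hc
    have e1 := hc q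
    rw [kk_apply, hqq, mul_zero, zero_smul, eq_comm, smul_eq_zero] at e1
    have e2 := hc q'
    rw [kk_apply, hq'q, mul_one, e1.resolve_right hq, zero_smul, smul_eq_zero] at e2
    exact e2.elim hm0 hq
  · refine ext_pure (A := g.toLinearMap) (B := LinearMap.id + colMap w ∘ₗ kk O m q ∘ₗ cv O w) (fun d a => ?_) X
    show g _ = vecMulVec d a + vecMulVec (kk O m q (cv O w (vecMulVec d a))) w
    rw [hgX, LinearMap.smul_apply, LinearMap.smulRight_apply, HForm.lin_apply, cv_pure, map_smul, kk_apply,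
      smul_vecMulVec, smul_vecMulVec, vmv_smul, vmv_smul, smul_smul, smul_smul, smul_smul]
    congr 2
    ring

/-- An element supported on one anisotropic line of the three-space gives an exit. -/
theorem ex_of_block {n : ι → F} (hb : f1 n n ≠ 0) {g : MV ≃ₗ[F] MV} (hg : g ∈ G)
    {T T' : (κ → F) →ₗ[F] (κ → F)} (hns : ∀ s : F, ∃ a, T a ≠ s • a)
    (hgX : ∀ d a, g (vecMulVec d a) = vecMulVec d a + f1 d n • vecMulVec n (T a))
    (hgi : ∀ d a, g.symm (vecMulVec d a) = vecMulVec d a + f1 d n • vecMulVec n (T' a)) : Ex O := by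
  have hn : n ≠ 0 := fun e => hb (by rw [e, O.h1.zero_left])
  set b := f1 n n with hbd
  have hbf : σ b = b := O.h1.self_fix n
  have hinv : ∀ a, vecMulVec n (b • T (T' a)) = -(vecMulVec n (T a) + vecMulVec n (T' a)) := fun a => by
    have h1 := g.apply_symm_apply (vecMulVec n a)
    rw [hgi, map_add, map_smul, hgX, hgX, ← hbd] at h1
    have h2 : b • (vecMulVec n (b • T (T' a)) + (vecMulVec n (T a) + vecMulVec n (T' a))) = 0 := by
      have h3 := sub_eq_zero.2 h1
      rw [← h3, vmv_smul]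
      module
    exact eq_neg_of_add_eq_zero_left ((smul_eq_zero.1 h2).resolve_left hb)
  obtain ⟨P, hP, hdim⟩ := O.h1.finrank_perp_le ![n]
  rw [Module.finrank_fintype_fun_eq_card, S.hι] at hdim
  obtain ⟨q, hqP, hq, hqq⟩ := O.h1.exists_iso_mem O.sg (W := P) (by omega)
  have hqn : f1 q n = 0 := (hP q).1 hqP 0
  have hnq : f1 n q = 0 := O.h1.symm0 hqn
  -- the conjugate element
  obtain ⟨μ₁, hμ₁⟩ := O.sg.trace (-b) (by rw [map_neg, hbf])
  obtain ⟨e₁, he₁, he₁X⟩ := O.eichL q n μ₁ hqq hnq hμ₁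
  let Z := e₁ * g * e₁⁻¹ * g⁻¹
  have hZ : Z ∈ G := mul_mem (mul_mem (mul_mem he₁ hg) (inv_mem he₁)) (inv_mem hg)
  set n' := n - b • q with hn'
  have he₁n : ∀ a, e₁ (vecMulVec n a) = vecMulVec n' a := fun a => by
    rw [he₁X, hnq, ← hbd, zero_smul, mul_zero, zero_smul, add_zero, add_zero, hn']
  have hn'n : f1 n' n = b := by rw [hn', O.h1.sub_left, O.h1.smul_left, hqn, mul_zero, sub_zero]
  have hnn' : f1 n n' = b := by rw [O.h1.herm, hn'n, hbf]
  have hE : ∀ d a, (e₁ * g * e₁⁻¹) (vecMulVec d a) = vecMulVec d a + f1 d n' • vecMulVec n' (T a) := by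
    intro d a
    let Φ : (ι → F) →ₗ[F] (ι → F) := LinearMap.id + (O.h1.lin q).smulRight n - (O.h1.lin n).smulRight q
      + kk O μ₁ q
    have hΦ : ∀ c x, e₁ (vecMulVec c x) = vecMulVec (Φ c) x := fun c x => by rw [he₁X]; rfl
    have hΦinj : Function.Injective Φ := (injective_iff_map_eq_zero Φ).2 fun c hc => by
      have := hΦ c v
      rw [hc, zero_vecMulVec, e₁.map_eq_zero_iff, vmv_eq_zero] at this
      exact this.resolve_right S.v0
    obtain ⟨c, rfl⟩ := (LinearMap.injective_iff_surjective.1 hΦinj) d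
    show e₁ (g (e₁.symm (vecMulVec (Φ c) a))) = _
    rw [← hΦ, e₁.symm_apply_apply, hgX, map_add, map_smul, he₁n]
    have hfn : f1 (Φ c) n' = f1 c n := by
      have h1 := O.isom e₁ he₁ (vecMulVec c v) (vecMulVec n v')
      rwa [hΦ, he₁n, O.f_pure, O.f_pure, S.vv', mul_one, mul_one] at h1
    rw [hfn]
  have hZX : ∀ d a, Z (vecMulVec d a) = vecMulVec d a - (b * f1 d q) • vecMulVec (n - b • q) (T a)
      + (b * f1 d n) • vecMulVec q (T' a) := fun d a => by
    show (e₁ * g * e₁⁻¹) (g.symm (vecMulVec d a)) = _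
    rw [hgi, map_add, map_smul, hE, hE, hnn']
    have h1 : f1 d n' = f1 d n - b * f1 d q := by
      rw [hn', O.h1.sub_right, O.h1.smul_right, hbf]
    have h2 : vecMulVec n' (T (T' a)) = vecMulVec n (T (T' a)) - b • vecMulVec q (T (T' a)) := by
      rw [hn', sub_vmv, smul_vecMulVec]
    have h3 := hinv a
    rw [vmv_smul] at h3
    have h4 : b • vecMulVec n' (T (T' a)) = -(vecMulVec n' (T a) + vecMulVec n' (T' a)) := by
      have h5 : b • vecMulVec q (T (T' a)) = -(vecMulVec q (T a) + vecMulVec q (T' a)) := by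
        obtain ⟨i, hi⟩ := Function.ne_iff.1 hn
        have key : b • T (T' a) = -(T a + T' a) := by
          funext j
          have h6 := congrFun (congrFun h3 i) j
          simp only [vecMulVec_apply, Matrix.neg_apply, Matrix.add_apply, Matrix.smul_apply, smul_eq_mul] at h6
          refine mul_left_cancel₀ hi ?_
          simp only [Pi.smul_apply, Pi.neg_apply, Pi.add_apply, smul_eq_mul]
          linear_combination h6
        rw [← vmv_smul, key, vmv_neg, vecMulVec_add]
      rw [h2, smul_sub, h3, h5, hn']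
      simp only [sub_vmv, smul_vecMulVec]
      module
    rw [h1, h4, hn', sub_vmv, smul_vecMulVec, sub_vmv, smul_vecMulVec]
    module
  -- commutators with Siegel elements
  have key : ∀ δ : F, InC f1 G q (-(b * b) • (σ δ • T - δ • T')) := fun δ => by
    obtain ⟨μ, hμ⟩ := O.sg.trace (-f1 (δ • n) (δ • n)) (by rw [map_neg, O.h1.self_fix])
    obtain ⟨e, he, heX⟩ := O.eichL q (δ • n) μ hqq (by rw [O.h1.smul_left, hnq, mul_zero]) hμ
    have heq : ∀ a, e (vecMulVec q a) = vecMulVec q a := fun a => by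
      rw [heX]
      simp [hqq, O.h1.smul_right, hqn]
    have hen : ∀ a, e (vecMulVec n a) = vecMulVec (n - (σ δ * b) • q) a := fun a => by
      rw [heX]
      simp [hnq, O.h1.smul_right, ← hbd]
    let Φd : (ι → F) → (ι → F) := fun d => d + f1 d q • (δ • n) - f1 d (δ • n) • q + (μ * f1 d q) • q
    have hΦ : ∀ d a, e (vecMulVec d a) = vecMulVec (Φd d) a := fun d a => heX d a
    have hΦq : ∀ d, f1 (Φd d) q = f1 d q := fun d => by
      simp [Φd, O.h1.add_left, O.h1.sub_left, O.h1.smul_left, hnq, hqq]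
    have hΦn : ∀ d, f1 (Φd d) n = f1 d n + δ * b * f1 d q := fun d => by
      simp [Φd, O.h1.add_left, O.h1.sub_left, O.h1.smul_left, hqn, ← hbd]
      ring
    let Hd : (κ → F) →ₗ[F] (κ → F) := -(b * b) • (σ δ • T - δ • T')
    let Δ : MV →ₗ[F] MV := (Z * e).toLinearMap - (e * Z).toLinearMap
    have hΔ : ∀ d a, Δ (vecMulVec d a) = f1 d q • vecMulVec q (Hd a) := fun d a => by
      show Z (e (vecMulVec d a)) - e (Z (vecMulVec d a)) = _
      rw [hΦ, hZX, hΦq, hΦn, hZX, map_add, map_sub, map_smul, map_smul, sub_vmv, smul_vecMulVec, map_sub,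
        map_smul, heq, heq, hen, hΦ]
      simp only [Hd, sub_vmv, smul_vecMulVec, LinearMap.smul_apply, LinearMap.sub_apply, vmv_sub, vmv_smul]
      module
    have hΔΔ : ∀ X, Δ (e (Z X)) = Δ X :=
      ext_pure (A := Δ ∘ₗ (e * Z).toLinearMap) (B := Δ) fun d a => by
        show Δ (e (Z (vecMulVec d a))) = Δ (vecMulVec d a)
        rw [hZX, map_add, map_sub, map_smul, map_smul, sub_vmv, smul_vecMulVec, map_sub, map_smul, heq,
          heq, hen, hΦ, map_add, map_sub, map_smul, map_smul, map_sub, map_smul, hΔ, hΔ, hΔ, hΔ, hΔ, hΦq,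
          O.h1.sub_left, O.h1.smul_left, hnq, hqq]
        simp
    refine ⟨Z * e * (e * Z)⁻¹, mul_mem (mul_mem hZ he) (inv_mem (mul_mem he hZ)), fun d a => ?_⟩
    obtain ⟨X, hX⟩ := (e * Z).surjective (vecMulVec d a)
    rw [← hΔ, ← hX]
    show Z (e ((e * Z).symm ((e * Z) X))) = (e * Z) X + Δ (e (Z X))
    rw [LinearEquiv.symm_apply_apply, hΔΔ]
    show Z (e X) = e (Z X) + (Z (e X) - e (Z X))
    abel
  -- one of them is not scalar
  by_contra hex
  have hsc : ∀ δ : F, ∃ s : F, ∀ a, σ δ • T a - δ • T' a = s • a := fun δ => by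
    by_contra hc
    push Not at hc
    refine hex (ex_of_center O S hq hqq (key δ) fun s => ?_)
    obtain ⟨a, ha⟩ := hc ((-(b * b))⁻¹ * s)
    refine ⟨a, fun e => ha ?_⟩
    rw [LinearMap.smul_apply, LinearMap.sub_apply, LinearMap.smul_apply, LinearMap.smul_apply] at e
    rw [mul_smul, ← e, smul_smul, inv_mul_cancel₀ (neg_ne_zero.2 (mul_ne_zero hb hb)), one_smul]
  obtain ⟨η, hη⟩ := O.sg.moved
  obtain ⟨s₁, hs₁⟩ := hsc 1
  obtain ⟨s₂, hs₂⟩ := hsc η
  obtain ⟨a, ha⟩ := hns ((σ η - η)⁻¹ * (s₂ - η * s₁))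
  refine ha ?_
  have e1 := hs₁ a
  rw [map_one, one_smul, one_smul] at e1
  have e2 : T' a = T a - s₁ • a := by rw [← e1]; abel
  have e3 := hs₂ a
  rw [e2] at e3
  rw [mul_smul, sub_smul, ← e3, eq_inv_smul_iff₀ (sub_ne_zero.2 hη)]
  module

end

end CfsgLib.MaxSub.TensorHerm
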