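/-
Overgroups of the product of a three-dimensional and a two-dimensional unitary group: an element
outside gives two members meeting in a plane.
-/
import Cfsg.Agent.Lib.MaxSub.TensorHerm.Plane

set_option autoImplicit false
set_option maxHeartbeats 400000
set_option linter.unusedSectionVars false

namespace CfsgLib.MaxSub.TensorHerm

open Matrix Module
open CfsgLib.MaxSub.TensorLin (Col colMap colMap_apply mem_col finrank_col colMap_injective vmv_eq_zero
  vmv_zero)

variable {F : Type*} [Field F] [Fintype F] {ι κ : Type*} [Fintype ι] [Fintype κ] [DecidableEq ι]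
  [DecidableEq κ]
variable {σ : F →+* F} {f1 : (ι → F) → (ι → F) → F} {f2 : (κ → F) → (κ → F) → F}
  {f : Matrix ι κ F → Matrix ι κ F → F} {G : Subgroup (Matrix ι κ F ≃ₗ[F] Matrix ι κ F)}

local notation "MV" => Matrix ι κ F

/-- Two distinct members meeting in a plane. -/
def Two (G : Subgroup (Matrix ι κ F ≃ₗ[F] Matrix ι κ F)) (v : κ → F) : Prop :=
  ∃ g₁ ∈ G, ∃ g₂ ∈ G, MM g₁ v ≠ MM g₂ v ∧ ∃ a b, a ∈ MM g₁ v ∧ a ∈ MM g₂ v ∧ b ∈ MM g₁ v ∧ b ∈ MM g₂ v ∧
    LinearIndependent F ![a, b]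

omit [Fintype F] in
theorem tens_mul {g h : MV ≃ₗ[F] MV} (hg : Tens g) (hh : Tens h) : Tens (g * h) := by
  obtain ⟨φ, L, hL⟩ := hg
  obtain ⟨φ', L', hL'⟩ := hh
  exact ⟨φ ∘ φ', L ∘ L', fun c x => by rw [LinearEquiv.mul_apply, hL', hL]; rfl⟩

omit [Fintype F] in
theorem Pure.tens {g : MV ≃ₗ[F] MV} (hg : Pure g) : Tens g := by
  obtain ⟨L, hL⟩ := hg
  exact ⟨id, L, hL⟩

section

variable (O : TU σ f1 f2 f G) {v v' : κ → F} {τ : F} (S : PS σ f1 f2 G v v' τ)
include O S

/-- Isotropic spaces of pure tensors are members, by pure elements. -/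
theorem exists_col {x : κ → F} (hx : x ≠ 0) (hxx : f2 x x = 0) :
    ∃ e ∈ G, Pure e ∧ MM e v = Col (ι := ι) x := by
  by_cases hd : f2 v x = 0
  · refine ⟨1, one_mem G, ⟨id, fun c y => rfl⟩, ?_⟩
    rw [MM_one, col_eq_of_span hx (plane_prop O S.hk S.v0 S.vv (O.h2.symm0 hd))]
  obtain ⟨l, hl0, hl⟩ := O.sg.skew
  set c := σ (l / f2 v x) with hc
  have hc0 : c ≠ 0 := fun e => div_ne_zero hl0 hd (O.sg.eq_zero e)
  have hcl : f2 v (c • x) = l := by rw [O.h2.smul_right, hc, O.sg.invol, div_mul_cancel₀ _ hd]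
  obtain ⟨e, he, heX, hp⟩ := exists_move O (v := v) (x := c • x) S.vv
    (by rw [O.h2.smul_left, O.h2.smul_right, hxx, mul_zero, mul_zero])
    (by rw [hcl]; exact hl0) (by rw [hcl]; exact hl)
  refine ⟨e, he, hp, ?_⟩
  rw [← col_eq_of_span (v := x) (w := c • x) (smul_ne_zero hc0 hx)
    (Submodule.smul_mem _ _ (Submodule.mem_span_singleton_self x))]
  refine Submodule.eq_of_le_of_finrank_eq ?_ (by
    rw [MM_finrank O S, finrank_col (smul_ne_zero hc0 hx), S.hι])
  rintro _ ⟨X, hX, rfl⟩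
  obtain ⟨d, rfl⟩ := mem_col.1 hX
  exact mem_col.2 ⟨d, (heX d).symm⟩

/-- A member whose transvections fix the base member gives an exit. -/
theorem fix_member (hex : ¬ Ex O) {g : MV ≃ₗ[F] MV} (hg : g ∈ G) (hne : MM g v ≠ Col (ι := ι) v)
    (hfix : ∀ X ∈ Col (ι := ι) v, AM O g v X ∈ Col (ι := ι) v) : False := by
  set A := AM O g v with hA
  let φ : (ι → F) →ₗ[F] (ι → F) := cv O v' ∘ₗ A ∘ₗ colMap v
  have hφ : ∀ c, A (vecMulVec c v) = vecMulVec (φ c) v := fun c =>
    base_eq O S (hfix _ (mem_col.2 ⟨c, rfl⟩))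
  have hφφ : ∀ c, φ (φ c) = 0 := fun c => by
    show cv O v' (A (vecMulVec (φ c) v)) = 0
    rw [← hφ, hA, AM_sq O S, map_zero]
  have hφ0 : φ ≠ 0 := fun h0 => hne (Submodule.eq_of_le_of_finrank_eq (fun X hX => (AM_zero O S).1 (by
      rw [base_eq O S hX, ← hA, hφ, h0, LinearMap.zero_apply, zero_vecMulVec]))
    (by rw [MM_finrank O S, finrank_base O S])).symm
  obtain ⟨c₁, hc₁⟩ : ∃ c, φ c ≠ 0 := by
    by_contra hc
    push Not at hc
    exact hφ0 (LinearMap.ext hc)
  set p := φ c₁ with hp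
  have hφp : φ p = 0 := hφφ c₁
  have key : ∀ m : F, m + σ m = 0 → m ≠ 0 → ∃ α β : F, ∀ c,
      m • cv O v (A (vecMulVec c v')) + c = α • (c + m • φ c) ∧
      m • cv O v' (A (vecMulVec c v')) = β • (c + m • φ c) := by
    intro m hm hm0
    obtain ⟨y, hy, hyX, -⟩ := AM_elem O S hg hm
    obtain ⟨ψ, L, hL⟩ := base_tens O S hex hy fun X hX => by
      rw [hyX]
      exact (Col v).add_mem hX (Submodule.smul_mem _ _ (hfix X hX))
    have h1 : ∀ c, vecMulVec (c + m • φ c) v = vecMulVec (ψ c) (L v) := fun c => by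
      rw [← hL, hyX, hφ, add_vecMulVec, smul_vecMulVec]
    obtain ⟨a, ha, hLa⟩ : ∃ a : F, a ≠ 0 ∧ L v = a • v := by
      have h2 := h1 p
      rw [hφp, smul_zero, add_zero] at h2
      obtain ⟨i, hi⟩ := Function.ne_iff.1 hc₁
      refine ⟨p i / ψ p i, ?_, funext fun j => ?_⟩
      · refine div_ne_zero hi fun h0 => ?_
        refine S.v0 (funext fun j => ?_)
        have h3 := congrFun (congrFun h2 i) j
        rw [vecMulVec_apply, vecMulVec_apply, h0, zero_mul] at h3
        exact (mul_eq_zero.1 h3).resolve_left hi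
      · have h3 := congrFun (congrFun h2 i) j
        rw [vecMulVec_apply, vecMulVec_apply] at h3
        have hψi : ψ p i ≠ 0 := fun h0 => by
          refine S.v0 (funext fun j => ?_)
          have h4 := congrFun (congrFun h2 i) j
          rw [vecMulVec_apply, vecMulVec_apply, h0, zero_mul] at h4
          exact (mul_eq_zero.1 h4).resolve_left hi
        rw [Pi.smul_apply, smul_eq_mul, div_mul_eq_mul_div, h3, mul_div_cancel_left₀ _ hψi]
    have h5 : ∀ c, ψ c = a⁻¹ • (c + m • φ c) := fun c => by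
      have h2 := congrArg (cv O v') (h1 c)
      rw [hLa, cv_pure, cv_pure, O.h2.smul_left, S.vv', one_smul, mul_one] at h2
      rw [h2, smul_smul, inv_mul_cancel₀ ha, one_smul]
    refine ⟨f2 (L v') v * a⁻¹, f2 (L v') v' * a⁻¹, fun c => ⟨?_, ?_⟩⟩
    · have h2 := congrArg (cv O v) (hL c v')
      rw [hyX, map_add, map_smul, cv_pure, cv_pure, S.v'v, one_smul, h5, smul_smul] at h2
      rw [← h2]
      exact add_comm _ _
    · have h2 := congrArg (cv O v') (hL c v')
      rw [hyX, map_add, map_smul, cv_pure, cv_pure, S.v'v', zero_smul, zero_add, h5, smul_smul] at h2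
      exact h2
  obtain ⟨l, hl0, hl⟩ := O.sg.skew
  obtain ⟨α, β, h1⟩ := key l hl hl0
  obtain ⟨α', β', h2⟩ := key (τ * l) (by rw [map_mul, S.τfix, eq_neg_of_add_eq_zero_right hl]; ring)
    (mul_ne_zero S.τ0 hl0)
  have hA2 : ∀ c, A (vecMulVec c v')
      = vecMulVec (cv O v (A (vecMulVec c v'))) v' + vecMulVec (cv O v' (A (vecMulVec c v'))) v :=
    fun c => dec O S _
  have hα : α = 1 := by
    have e1 : cv O v (A (vecMulVec p v')) = (l⁻¹ * (α - 1)) • p := by
      have := (h1 p).1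
      rw [hφp, smul_zero, add_zero] at this
      rw [mul_smul, sub_smul, one_smul, ← this, add_sub_cancel_right, smul_smul, inv_mul_cancel₀ hl0, one_smul]
    have h3 := congrArg (cv O v) (show A (A (vecMulVec p v')) = 0 from AM_sq O S g _)
    rw [hA2, map_add A, hφ, e1, map_zero, smul_vecMulVec, map_smul A, map_add, map_smul, e1, cv_pure,
      S.vv, zero_smul, add_zero, smul_smul, smul_eq_zero, mul_self_eq_zero, mul_eq_zero] at h3
    exact sub_eq_zero.1 ((h3.resolve_right hc₁).resolve_left (inv_ne_zero hl0))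
  have h4 : ∀ c, cv O v (A (vecMulVec c v')) = φ c := fun c => by
    have h3 := (h1 c).1
    rw [hα, one_smul, add_comm c] at h3
    exact smul_right_injective _ hl0 (add_right_cancel h3)
  have hβ : β = 0 := by
    have e1 := (h1 p).2
    have e2 := (h2 p).2
    rw [hφp, smul_zero, add_zero] at e1 e2
    rw [mul_smul, e1, smul_smul] at e2
    have eb : β' = τ * β := (smul_left_injective F hc₁ e2).symm
    have e3 := (h1 c₁).2
    have e4 := (h2 c₁).2
    rw [mul_smul τ l, e3, eb] at e4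
    have e5 : (τ * β * l * (1 - τ)) • p = 0 := by
      have e6 := sub_eq_zero.2 e4
      rw [← e6, hp]
      module
    rcases mul_eq_zero.1 ((smul_eq_zero.1 e5).resolve_right hc₁) with h | h
    · exact (mul_eq_zero.1 ((mul_eq_zero.1 h).resolve_right hl0)).resolve_left S.τ0
    · exact absurd (sub_eq_zero.1 h).symm S.τ1
  have h5 : ∀ c, cv O v' (A (vecMulVec c v')) = 0 := fun c => by
    have h3 := (h1 c).2
    rw [hβ, zero_smul] at h3
    exact (smul_eq_zero.1 h3).resolve_left hl0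
  -- the image is too small
  have hsub : MM g v ≤ (LinearMap.range φ).map (colMap v) ⊔ (LinearMap.range φ).map (colMap v') := by
    intro m hm
    obtain ⟨X, rfl⟩ := AM_onto O S hm
    rw [dec O S X, map_add, ← hA, hφ, hA2, h4, h5, zero_vecMulVec, add_zero, add_comm]
    exact Submodule.add_mem_sup ⟨_, LinearMap.mem_range_self φ _, rfl⟩ ⟨_, LinearMap.mem_range_self φ _, rfl⟩
  have hr : finrank F (LinearMap.range φ) ≤ 1 := by
    have e1 := LinearMap.finrank_range_add_finrank_ker φ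
    have e2 : LinearMap.range φ ≤ LinearMap.ker φ := by
      rintro _ ⟨c, rfl⟩
      exact LinearMap.mem_ker.2 (hφφ c)
    have e3 := Submodule.finrank_mono e2
    rw [Module.finrank_fintype_fun_eq_card, S.hι] at e1
    omega
  have e1 := Submodule.finrank_mono hsub
  have e2 := Submodule.finrank_add_le_finrank_add_finrank ((LinearMap.range φ).map (colMap v))
    ((LinearMap.range φ).map (colMap v'))
  have e3 := Submodule.finrank_map_le (colMap (ι := ι) v) (LinearMap.range φ)
  have e4 := Submodule.finrank_map_le (colMap (ι := ι) v') (LinearMap.range φ)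
  rw [MM_finrank O S] at e1
  omega

/-- A singular common vector of two members gives two members meeting in a plane. -/
theorem two_of_singular {g₁ g₂ : MV ≃ₗ[F] MV} (h₁ : g₁ ∈ G) (h₂ : g₂ ∈ G)
    (hne : MM g₁ v ≠ MM g₂ v) {m Z : MV} (hm0 : m ≠ 0) (hm₁ : m ∈ MM g₁ v) (hm₂ : m ∈ MM g₂ v)
    (hZ : AM O g₁ v Z = m) (hmZ : f m Z = 0) : Two G v := by
  by_contra hcon
  have hline : ∀ a ∈ MM g₁ v, a ∈ MM g₂ v → a ∈ F ∙ m := fun a ha₁ ha₂ => by
    by_contra hc
    refine hcon ⟨g₁, h₁, g₂, h₂, hne, m, a, hm₁, hm₂, ha₁, ha₂, ?_⟩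
    exact (LinearIndependent.pair_iff' hm0).2 fun s hs => hc (Submodule.mem_span_singleton.2 ⟨s, hs⟩)
  -- the image of the second member
  set W : Submodule F MV := MM g₁ v ⊓ LinearMap.ker (O.h.lin Z) with hWd
  have hW : finrank F W ≤ 2 := by
    by_contra hc
    have hle : MM g₁ v ≤ LinearMap.ker (O.h.lin Z) := by
      have hc' : 3 ≤ finrank F (MM g₁ v ⊓ LinearMap.ker (O.h.lin Z) : Submodule F MV) := Nat.lt_of_not_le hc
      have e := Submodule.eq_of_le_of_finrank_le (inf_le_left : W ≤ MM g₁ v)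
        (le_trans (MM_finrank O S g₁).le hc')
      exact e.ge.trans inf_le_right
    refine hm0 ?_
    rw [← hZ]
    exact (AM_zero O S).2 ((MM_perp O S h₁).2 fun a ha => O.h.symm0 (LinearMap.mem_ker.1 (hle ha)))
  let ψ : MM g₂ v →ₗ[F] MV := (AM O g₁ v).domRestrict (MM g₂ v)
  have hψ : LinearMap.range ψ ≤ W := by
    rintro _ ⟨X, rfl⟩
    refine ⟨AM_mem O S g₁ _, LinearMap.mem_ker.2 ?_⟩
    show f (AM O g₁ v X) Z = 0
    rw [AM_skew O S h₁, hZ]
    exact (MM_perp O S h₂).1 X.2 m hm₂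
  have hk : finrank F (LinearMap.ker ψ) ≤ 1 := by
    have e : (LinearMap.ker ψ).map (MM g₂ v).subtype ≤ F ∙ m := by
      rintro _ ⟨X, hX, rfl⟩
      exact hline _ ((AM_zero O S).1 (LinearMap.mem_ker.1 hX)) X.2
    have e1 := Submodule.finrank_mono e
    rw [Submodule.finrank_map_subtype_eq, finrank_span_singleton hm0] at e1
    exact e1
  have hrn := LinearMap.finrank_range_add_finrank_ker ψ
  rw [MM_finrank O S] at hrn
  have hWeq : LinearMap.range ψ = W :=
    Submodule.eq_of_le_of_finrank_le hψ (by omega)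
  have hmW : m ∈ LinearMap.range ψ := hWeq.ge ⟨hm₁, LinearMap.mem_ker.2 hmZ⟩
  obtain ⟨⟨X, hX⟩, hXm⟩ := hmW
  change AM O g₁ v X = m at hXm
  obtain ⟨l, hl0, hl⟩ := O.sg.skew
  obtain ⟨y, hy, hyX, -⟩ := AM_elem O S h₁ hl
  refine hcon ⟨g₂, h₂, y * g₂, mul_mem hy h₂, fun e => ?_, m, X + l • m, hm₂, ?_, ?_, ?_, ?_⟩
  · have hsmall : LinearMap.range ψ ≤ F ∙ m := by
      rintro _ ⟨⟨Y, hY⟩, rfl⟩
      refine hline _ (AM_mem O S g₁ Y) ?_
      show AM O g₁ v Y ∈ MM g₂ v
      have h := map_elem O S hyX hY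
      rw [← e] at h
      have h' := (MM g₂ v).sub_mem h hY
      rw [add_sub_cancel_left] at h'
      have h'' := (MM g₂ v).smul_mem l⁻¹ h'
      rwa [smul_smul, inv_mul_cancel₀ hl0, one_smul] at h''
    have e1 := Submodule.finrank_mono hsmall
    rw [finrank_span_singleton hm0] at e1
    omega
  · have h := map_elem O S hyX hm₂
    rwa [(AM_zero O S).2 hm₁, smul_zero, add_zero] at h
  · exact (MM g₂ v).add_mem hX ((MM g₂ v).smul_mem l hm₂)
  · have h := map_elem O S hyX hX
    rwa [hXm] at h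
  · refine LinearIndependent.pair_iff.2 fun s t hst => ?_
    have h := congrArg (AM O g₁ v) hst
    rw [map_add, map_smul, map_smul, map_add, map_smul, hXm, (AM_zero O S).2 hm₁, smul_zero, smul_zero,
      add_zero, zero_add, map_zero] at h
    have ht := (smul_eq_zero.1 h).resolve_right hm0
    rw [ht, zero_smul, add_zero] at hst
    exact ⟨(smul_eq_zero.1 hst).resolve_right hm0, ht⟩

/-- Elements of the group fixing a member normalise its transvections. -/
theorem member_normal (hex : ¬ Ex O) {g e : MV ≃ₗ[F] MV} (hg : g ∈ G) (he : e ∈ G)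
    (hfix : ∀ X ∈ MM g v, e X ∈ MM g v) :
    ∃ ν : F, ν ≠ 0 ∧ ∀ X, e (AM O g v X) = ν • AM O g v (e X) := by
  obtain ⟨ν, hν0, hν⟩ := base_normal O S hex (mul_mem (mul_mem (inv_mem hg) he) hg) (fun X hX => by
    show g.symm (e (g X)) ∈ _
    exact mem_MM.1 (hfix _ ⟨X, hX, rfl⟩))
  refine ⟨ν, hν0, fun X => g.symm.injective ?_⟩
  have h1 := hν (g.symm (e X))
  have hs : (g⁻¹ * e * g).symm (g.symm (e X)) = g.symm X := (g⁻¹ * e * g).injective (by
    rw [LinearEquiv.apply_symm_apply]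
    show _ = g.symm (e (g (g.symm X)))
    rw [g.apply_symm_apply])
  rw [AM_apply O S, hs] at h1
  rw [map_smul, AM_apply O S, AM_apply O S, g.symm_apply_apply]
  exact h1

/-- An element outside gives two members meeting. -/
theorem exists_meet (hex : ¬ Ex O) {g : MV ≃ₗ[F] MV} (hg : g ∈ G) (hnt : ¬ Tens g) :
    ∃ g' ∈ G, MM g' v ≠ Col (ι := ι) v ∧ ∃ X ∈ MM g' v, X ∈ Col (ι := ι) v ∧ X ≠ 0 := by
  set M := MM g v with hM
  have hpure : ∀ x, f2 x x = 0 → M ≠ Col (ι := ι) x := fun x hxx hMx => by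
    have hx : x ≠ 0 := fun h => by
      have h1 := MM_finrank O S g
      rw [← hM, hMx, h, show (Col (ι := ι) (0 : κ → F)) = ⊥ from (Submodule.eq_bot_iff _).2 fun X hX => by
        obtain ⟨c, rfl⟩ := mem_col.1 hX; exact vmv_zero c, finrank_bot] at h1
      omega
    obtain ⟨e, he, hep, hex'⟩ := exists_col O S hx hxx
    have h1 : Tens (e⁻¹ * g) := base_tens O S hex (mul_mem (inv_mem he) hg) fun X hX => by
      show e.symm (g X) ∈ _
      refine mem_MM.1 ?_
      rw [hex', ← hMx]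
      exact ⟨X, hX, rfl⟩
    have h2 := tens_mul hep.tens h1
    rw [mul_inv_cancel_left] at h2
    exact hnt h2
  obtain ⟨l, hl0, hl⟩ := O.sg.skew
  obtain ⟨u, e, hu, huu, heG, heX, hne⟩ : ∃ (u : ι → F) (e : MV ≃ₗ[F] MV), u ≠ 0 ∧ f1 u u = 0 ∧ e ∈ G ∧
      (∀ c x, e (vecMulVec c x) = vecMulVec ((LinearMap.id + kk O l u : (ι → F) →ₗ[F] _) c) x) ∧
      M.map e.toLinearMap ≠ M := by
    by_contra hc
    push Not at hc
    have hfix : ∀ u, u ≠ 0 → f1 u u = 0 → ∀ X ∈ M,
        vecMulVec (f1 (cv O v X) u • u) v' + vecMulVec (f1 (cv O v' X) u • u) v ∈ M := by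
      intro u hu huu X hX
      obtain ⟨e, he, heX⟩ := left_tv O huu hl
      have h1 : e X ∈ M := by
        rw [← hc u e hu huu he heX]
        exact ⟨X, hX, rfl⟩
      have h2 : e X = X + l • (vecMulVec (f1 (cv O v X) u • u) v' + vecMulVec (f1 (cv O v' X) u • u) v) := by
        conv_lhs => rw [dec O S X, map_add, heX, heX]
        conv_rhs => arg 1; rw [dec O S X]
        rw [LinearMap.add_apply, LinearMap.add_apply,
          LinearMap.id_apply, LinearMap.id_apply, kk_apply, kk_apply, mul_smul, mul_smul, add_vecMulVec,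
          add_vecMulVec]
        simp only [smul_vecMulVec]
        module
      rw [h2] at h1
      have h3 := M.smul_mem l⁻¹ (M.sub_mem h1 hX)
      rwa [add_sub_cancel_left, smul_smul, inv_mul_cancel₀ hl0, one_smul] at h3
    have hpair : ∀ u, f1 u u = 0 → ∀ a : κ → F, vecMulVec u a ∈ M → ∀ u', u' ≠ 0 → f1 u' u' = 0 →
        f1 u u' ≠ 0 → vecMulVec u' a ∈ M := by
      intro u huu a hua u' hu' hu'u' huu'
      have h1 := hfix u' hu' hu'u' _ hua
      rw [cv_pure, cv_pure, O.h1.smul_left, O.h1.smul_left] at h1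
      have h3 : vecMulVec ((f2 a v * f1 u u') • u') v' + vecMulVec ((f2 a v' * f1 u u') • u') v
          = f1 u u' • vecMulVec u' a := by
        conv_rhs => rw [plane_dec O S a, vecMulVec_add, vmv_smul, vmv_smul]
        rw [smul_vecMulVec, smul_vecMulVec, smul_add, smul_smul, smul_smul, mul_comm, mul_comm (f2 a v')]
      rw [h3] at h1
      have h2 := M.smul_mem (f1 u u')⁻¹ h1
      rwa [smul_smul, inv_mul_cancel₀ huu', one_smul] at h2
    obtain ⟨X, hX, u, hu, huu, hXu⟩ : ∃ X ∈ M, ∃ u, u ≠ 0 ∧ f1 u u = 0 ∧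
        ¬ (f1 (cv O v X) u = 0 ∧ f1 (cv O v' X) u = 0) := by
      by_contra hz
      push Not at hz
      have h0 : ∀ X ∈ M, X = 0 := fun X hX => by
        have h1 : ∀ c, (∀ u, u ≠ 0 → f1 u u = 0 → f1 c u = 0) → c = 0 := fun c hc => O.h1.nondeg c fun z => by
          have h2 := O.h1.eq_zero_of_iso O.sg (by rw [Module.finrank_fintype_fun_eq_card, S.hι]; omega)
            (O.h1.lin c) fun u huu => by
              rcases eq_or_ne u 0 with rfl | hu
              · exact map_zero _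
              · exact O.h1.symm0 (hc u hu huu)
          exact O.h1.symm0 (LinearMap.congr_fun h2 z)
        rw [dec O S X, h1 _ fun u hu huu => (hz X hX u hu huu).1, h1 _ fun u hu huu => (hz X hX u hu huu).2,
          zero_vecMulVec, zero_vecMulVec, add_zero]
      have h1 := MM_finrank O S g
      rw [← hM, show M = ⊥ from (Submodule.eq_bot_iff _).2 h0, finrank_bot] at h1
      omega
    set a := f1 (cv O v X) u • v' + f1 (cv O v' X) u • v with ha
    have hua : vecMulVec u a ∈ M := by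
      have h1 := hfix u hu huu X hX
      rwa [smul_vecMulVec, smul_vecMulVec, ← vmv_smul, ← vmv_smul, ← vecMulVec_add] at h1
    have ha0 : a ≠ 0 := fun h => hXu ⟨by
        have := congrArg (O.h2.lin v) h
        simpa [ha, HForm.lin_apply, O.h2.add_left, O.h2.smul_left, O.h2.zero_left, S.vv, S.v'v] using this, by
        have := congrArg (O.h2.lin v') h
        simpa [ha, HForm.lin_apply, O.h2.add_left, O.h2.smul_left, O.h2.zero_left, S.vv', S.v'v'] using this⟩
    obtain ⟨u', hu'u', hu'u, huu'⟩ := O.h1.exists_partner O.sg hu huu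
    have hu' : u' ≠ 0 := O.h1.ne_zero_left (y := u) (by rw [hu'u]; exact one_ne_zero)
    have hu'a := hpair u huu a hua u' hu' hu'u' (by rw [huu']; exact one_ne_zero)
    have haa : f2 a a = 0 := by
      have h1 := (MM_perp O S hg).1 hua _ hu'a
      rwa [O.f_pure, huu', one_mul] at h1
    refine hpure a haa (Submodule.eq_of_le_of_finrank_eq ?_ (by rw [finrank_col ha0, S.hι, hM, MM_finrank O S])).symm
    intro Y hY
    obtain ⟨c, rfl⟩ := mem_col.1 hY
    have h2 := O.h1.eq_zero_of_iso O.sg (by rw [Module.finrank_fintype_fun_eq_card, S.hι]; omega)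
      (M.mkQ ∘ₗ colMap a) fun w hww => by
        rcases eq_or_ne w 0 with rfl | hw
        · exact map_zero _
        show M.mkQ (vecMulVec w a) = 0
        rw [Submodule.mkQ_apply, Submodule.Quotient.mk_eq_zero]
        by_cases huw : f1 u w = 0
        · obtain ⟨y, hyy, hyu, hyw⟩ := O.h1.avoid O.sg hu huu hw
          exact hpair y hyy a (hpair u huu a hua y (O.h1.ne_zero_left hyu) hyy
            fun h => hyu (O.h1.symm0 h)) w hw hww hyw
        · exact hpair u huu a hua w hw hww huw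
    have h3 := LinearMap.congr_fun h2 c
    rwa [LinearMap.comp_apply, colMap_apply, Submodule.mkQ_apply, LinearMap.zero_apply,
      Submodule.Quotient.mk_eq_zero] at h3
  -- a vector of the member fixed by the element
  let π : M →ₗ[F] (F × F) :=
    (((O.h1.lin u).comp (cv O v)).prod ((O.h1.lin u).comp (cv O v'))).comp M.subtype
  obtain ⟨⟨X, hX⟩, hX0, hXn⟩ : ∃ X ∈ LinearMap.ker π, X ≠ 0 := (Submodule.ne_bot_iff _).1 fun e => by
    have h1 := LinearMap.finrank_range_add_finrank_ker π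
    have h2 := Submodule.finrank_le (LinearMap.range π)
    rw [e, finrank_bot, show finrank F M = 3 from MM_finrank O S g] at h1
    rw [Module.finrank_prod, Module.finrank_self] at h2
    omega
  have hXu : f1 (cv O v X) u = 0 ∧ f1 (cv O v' X) u = 0 := Prod.ext_iff.1 (LinearMap.mem_ker.1 hX0)
  have heXX : e X = X := by
    conv_lhs => rw [dec O S X, map_add, heX, heX]
    conv_rhs => rw [dec O S X]
    rw [LinearMap.add_apply, LinearMap.add_apply,
      LinearMap.id_apply, LinearMap.id_apply, kk_apply, kk_apply, hXu.1, hXu.2]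
    simp
  refine ⟨g⁻¹ * (e * g), mul_mem (inv_mem hg) (mul_mem heG hg), fun h => hne ?_, g.symm X, ?_,
    mem_MM.1 hX, fun h => hXn (Subtype.ext (g.symm.map_eq_zero_iff.1 h))⟩
  · rw [MM_mul, MM_mul, ← hM] at h
    refine Submodule.ext fun Y => ⟨fun hY => ?_, fun hY => ?_⟩
    · have h1 : g.symm Y ∈ Col (ι := ι) v := h ▸ ⟨Y, hY, rfl⟩
      exact mem_MM.2 h1
    · obtain ⟨W, hW, hWe⟩ := h.ge (mem_MM.1 hY)
      rwa [g.symm.injective hWe] at hW
  · rw [MM_mul, MM_mul, ← hM]
    exact ⟨X, ⟨X, hX, heXX⟩, rfl⟩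

end

end CfsgLib.MaxSub.TensorHerm
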