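/-
Homologies of the three-space and their effect on members.
-/
import Cfsg.Agent.Lib.MaxSub.TensorHerm.PlaneMeet

set_option autoImplicit false
set_option maxHeartbeats 400000
set_option linter.unusedSectionVars false

namespace CfsgLib.MaxSub.TensorHerm

open Matrix Module
open CfsgLib.MaxSub.TensorLin (Col colMap colMap_apply mem_col vmv_eq_zero vmv_zero)

variable {F : Type*} [Field F] [Fintype F] {ι κ : Type*} [Fintype ι] [Fintype κ] [DecidableEq ι]
  [DecidableEq κ]
variable {σ : F →+* F} {f1 : (ι → F) → (ι → F) → F} {f2 : (κ → F) → (κ → F) → F}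
  {f : Matrix ι κ F → Matrix ι κ F → F} {G : Subgroup (Matrix ι κ F ≃ₗ[F] Matrix ι κ F)}

local notation "MV" => Matrix ι κ F

/-- A map scaling a vector by `β` and its perpendicular by `α`. -/
def Hm (O : TU σ f1 f2 f G) (p : ι → F) (α β : F) : (ι → F) →ₗ[F] (ι → F) :=
  α • LinearMap.id + ((β - α) / f1 p p) • (O.h1.lin p).smulRight p

omit [Fintype F] in
theorem det_rank_one (φ : (ι → F) →ₗ[F] F) (u : ι → F) :
    LinearMap.det (LinearMap.id + φ.smulRight u) = 1 + φ u := by
  rw [← LinearMap.det_toMatrix']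
  have e : LinearMap.toMatrix' (LinearMap.id + φ.smulRight u)
      = 1 + Matrix.replicateCol Unit u * Matrix.replicateRow Unit (fun j => φ (Pi.single j 1)) := by
    rw [map_add, LinearMap.toMatrix'_id]
    congr 1
    ext i j
    simp [LinearMap.toMatrix'_apply, Matrix.mul_apply, mul_comm, Pi.single_apply]
  rw [e, Matrix.det_one_add_replicateCol_mul_replicateRow]
  congr 1
  conv_rhs => rw [pi_eq_sum_univ' u, map_sum]
  rw [dotProduct]
  exact Finset.sum_congr rfl fun i _ => by rw [map_smul, smul_eq_mul, mul_comm]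

section

variable (O : TU σ f1 f2 f G) {v v' : κ → F} {τ : F} (S : PS σ f1 f2 G v v' τ)
include O S

theorem Hm_perp {p : ι → F} (α β : F) {c : ι → F} (hc : f1 c p = 0) : Hm O p α β c = α • c := by
  simp [Hm, HForm.lin_apply, hc]

theorem Hm_self {p : ι → F} (hp : f1 p p ≠ 0) (α β : F) : Hm O p α β p = β • p := by
  simp only [Hm, LinearMap.add_apply, LinearMap.smul_apply, LinearMap.id_apply, LinearMap.smulRight_apply,
    HForm.lin_apply, smul_smul, div_mul_cancel₀ _ hp, ← add_smul, add_sub_cancel]

theorem Hm_apply (p : ι → F) (α β : F) (c : ι → F) :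
    Hm O p α β c = α • c + ((β - α) / f1 p p * f1 c p) • p := by
  simp only [Hm, LinearMap.add_apply, LinearMap.smul_apply, LinearMap.id_apply, LinearMap.smulRight_apply,
    HForm.lin_apply, smul_smul]

theorem Hm_iso {p : ι → F} (hp : f1 p p ≠ 0) {α β : F} (hα : α * σ α = 1) (hβ : β * σ β = 1) (c d : ι → F) :
    f1 (Hm O p α β c) (Hm O p α β d) = f1 c d := by
  rw [Hm_apply O S, Hm_apply O S]
  simp only [O.h1.add_left, O.h1.add_right, O.h1.smul_left, O.h1.smul_right, map_mul, map_div₀, map_sub,
    O.h1.self_fix]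
  rw [← O.h1.herm d p]
  field_simp
  linear_combination (f1 p p * f1 c d - f1 c p * f1 p d) * hα + (f1 c p * f1 p d) * hβ

theorem Hm_det {p : ι → F} (hp : f1 p p ≠ 0) {α β : F} (hα : α ≠ 0) :
    LinearMap.det (Hm O p α β) = α * α * β := by
  have e : Hm O p α β
      = α • (LinearMap.id + ((((β - α) / f1 p p) / α) • O.h1.lin p).smulRight p) := by
    refine LinearMap.ext fun c => ?_
    rw [Hm_apply O S]
    simp only [LinearMap.smul_apply, LinearMap.add_apply, LinearMap.id_apply, LinearMap.smulRight_apply,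
      HForm.lin_apply, smul_add, smul_smul, smul_eq_mul]
    congr 2
    field_simp
  rw [e, LinearMap.det_smul, Module.finrank_fintype_fun_eq_card, S.hι, det_rank_one,
    LinearMap.smul_apply, HForm.lin_apply, smul_eq_mul]
  field_simp
  ring

/-- A scalar of norm one whose cube is not one. -/
theorem exists_alpha : ∃ α : F, α ≠ 0 ∧ α * σ α = 1 ∧ α * α * α ≠ 1 := by
  by_cases h2 : (2 : F) = 0
  · obtain ⟨η, hη⟩ := O.sg.moved
    by_contra hcon
    push Not at hcon
    have key : ∀ t : F, σ t = t → (η + t) * (η + t) * (η + t) = (σ η + t) * (σ η + t) * (σ η + t) := by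
      intro t ht
      have hne : η + t ≠ 0 := fun e => hη (by
        rw [eq_neg_of_add_eq_zero_left e, map_neg, ht])
      have hne' : σ η + t ≠ 0 := fun e => hne (O.sg.eq_zero (by rw [map_add, ht]; exact e))
      have h := hcon ((η + t) / (σ η + t)) (div_ne_zero hne hne') (by
        rw [map_div₀, map_add, map_add, ht, O.sg.invol]
        field_simp)
      rw [div_mul_div_comm, div_mul_div_comm, div_eq_one_iff_eq (mul_ne_zero (mul_ne_zero hne' hne') hne')] at h
      exact h
    have k0 := key 0 (map_zero σ)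
    have k1 := key 1 (map_one σ)
    have kτ := key τ S.τfix
    have hd : η - σ η ≠ 0 := sub_ne_zero.2 (Ne.symm hη)
    have e1 : (η + σ η) + 1 = 0 := by
      refine (mul_eq_zero.1 (?_ : (η - σ η) * ((η + σ η) + 1) = 0)).resolve_left hd
      linear_combination k1 - k0 - ((η - σ η) * (η + σ η) + (η - σ η)) * h2
    refine S.τ1 ?_
    have e2 : τ * (τ - 1) = 0 := by
      refine (mul_eq_zero.1 (?_ : (η - σ η) * (τ * (τ - 1)) = 0)).resolve_left hd
      linear_combination kτ - k0 - (3 * τ * (η - σ η)) * e1 - ((η - σ η) * (τ * τ - τ)) * h2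
    exact sub_eq_zero.1 ((mul_eq_zero.1 e2).resolve_left S.τ0)
  · refine ⟨-1, neg_ne_zero.2 one_ne_zero, by rw [map_neg, map_one]; ring, fun h => h2 ?_⟩
    linear_combination -h

/-- An element acting as a linear map of the three-space, in coordinates. -/
theorem left_apply {e : MV ≃ₗ[F] MV} {A : (ι → F) →ₗ[F] (ι → F)}
    (he : ∀ c x, e (vecMulVec c x) = vecMulVec (A c) x) (X : MV) :
    e X = vecMulVec (A (cv O v X)) v' + vecMulVec (A (cv O v' X)) v := by
  conv_lhs => rw [dec O S X, map_add, he, he]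

end

end CfsgLib.MaxSub.TensorHerm
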