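/-
Overgroups of the product of a three-dimensional and a two-dimensional unitary group: two members
meeting in a plane give a non-scalar endomorphism.
-/
import Cfsg.Agent.Lib.MaxSub.TensorHerm.PlaneHom
import Cfsg.Agent.Lib.MaxSub.TensorHerm.PlaneCenter

set_option autoImplicit false
set_option maxHeartbeats 800000
set_option linter.unusedSectionVars false

namespace CfsgLib.MaxSub.TensorHerm

open Matrix Module
open CfsgLib.MaxSub.TensorLin (Col colMap colMap_apply mem_col vmv_eq_zero vmv_zero)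

variable {F : Type*} [Field F] [Fintype F] {ι κ : Type*} [Fintype ι] [Fintype κ] [DecidableEq ι]
  [DecidableEq κ]
variable {σ : F →+* F} {f1 : (ι → F) → (ι → F) → F} {f2 : (κ → F) → (κ → F) → F}
  {f : Matrix ι κ F → Matrix ι κ F → F} {G : Subgroup (Matrix ι κ F ≃ₗ[F] Matrix ι κ F)}

local notation "MV" => Matrix ι κ F

section

variable (O : TU σ f1 f2 f G) {v v' : κ → F} {τ : F} (S : PS σ f1 f2 G v v' τ)
include O S

/-- Two members meeting in a plane give an exit. -/
theorem two_false (hex : ¬ Ex O) (h : Two G v) : False := by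
  obtain ⟨g₁, hg₁, g₂, hg₂, hne, a₀, b₀, ha₁, ha₂, hb₁, hb₂, hind₀⟩ := h
  set g := g₂⁻¹ * g₁ with hgd
  have hg : g ∈ G := mul_mem (inv_mem hg₂) hg₁
  have hgM : ∀ X, X ∈ MM g v ↔ g₂ X ∈ MM g₁ v := fun X => by
    rw [mem_MM, mem_MM]
    have e : g.symm X = g₁.symm (g₂ X) := g.injective (by
      rw [g.apply_symm_apply]
      show X = g₂.symm (g₁ (g₁.symm (g₂ X)))
      rw [g₁.apply_symm_apply, g₂.symm_apply_apply])
    rw [e]
  have hbase : ∀ X, X ∈ Col (ι := ι) v ↔ g₂ X ∈ MM g₂ v := fun X => by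
    rw [mem_MM, g₂.symm_apply_apply]
  have hMne : MM g v ≠ Col (ι := ι) v := fun e => hne (Submodule.ext fun X => by
    rw [← g₂.apply_symm_apply X, ← hgM, ← hbase, e])
  -- the common plane
  set pa := cv O v' (g₂.symm a₀) with hpad
  set pb := cv O v' (g₂.symm b₀) with hpbd
  have hpaE : vecMulVec pa v = g₂.symm a₀ := (base_eq O S ((hbase _).2 (by rwa [g₂.apply_symm_apply]))).symm
  have hpbE : vecMulVec pb v = g₂.symm b₀ := (base_eq O S ((hbase _).2 (by rwa [g₂.apply_symm_apply]))).symm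
  have hpaM : vecMulVec pa v ∈ MM g v := by rw [hpaE, hgM, g₂.apply_symm_apply]; exact ha₁
  have hpbM : vecMulVec pb v ∈ MM g v := by rw [hpbE, hgM, g₂.apply_symm_apply]; exact hb₁
  have hind : LinearIndependent F ![pa, pb] := LinearIndependent.pair_iff.2 fun s t hst => by
    refine LinearIndependent.pair_iff.1 hind₀ s t ?_
    have h1 : vecMulVec (s • pa + t • pb) v = 0 := by rw [hst, zero_vecMulVec]
    rw [add_vecMulVec, smul_vecMulVec, smul_vecMulVec, hpaE, hpbE, ← map_smul, ← map_smul, ← map_add,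
      g₂.symm.map_eq_zero_iff] at h1
    exact h1
  obtain ⟨X₀, hX₀, hX₀n⟩ : ∃ X₀ ∈ MM g v, X₀ ∉ Col (ι := ι) v := by
    by_contra hc
    push Not at hc
    exact hMne (Submodule.eq_of_le_of_finrank_eq hc (by rw [MM_finrank O S, finrank_base O S]))
  set n := cv O v X₀ with hn
  have hn0 : n ≠ 0 := fun e => hX₀n ((mem_base O S).2 e)
  -- the cover of the member
  let P₀ : Submodule F (ι → F) := Submodule.span F (Set.range ![pa, pb])
  have hP₀ : finrank F P₀ = 2 := by rw [finrank_span_eq_card hind, Fintype.card_fin]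
  have hP₀M : ∀ d ∈ P₀, vecMulVec d v ∈ MM g v := by
    intro d hd
    have e : P₀ ≤ (MM g v).comap (colMap v) := by
      rw [Submodule.span_le]
      rintro _ ⟨i, rfl⟩
      fin_cases i
      · exact hpaM
      · exact hpbM
    exact e hd
  have hperp : ∀ d, vecMulVec d v ∈ MM g v → f1 n d = 0 := fun d hd => by
    have h1 := (MM_perp O S hg).1 hX₀ _ hd
    rwa [f_cv O] at h1
  let nP : Submodule F (ι → F) := LinearMap.ker (O.h1.lin n)
  have hnP : finrank F nP = 2 := by
    have h1 := LinearMap.finrank_range_add_finrank_ker (O.h1.lin n)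
    obtain ⟨d, hd⟩ := O.h1.exists_left hn0
    have h2 : LinearMap.range (O.h1.lin n) = ⊤ := LinearMap.range_eq_top.2 fun s =>
      ⟨s • d, by rw [map_smul, HForm.lin_apply, hd, smul_eq_mul, mul_one]⟩
    rw [h2, finrank_top, Module.finrank_self, Module.finrank_fintype_fun_eq_card, S.hι] at h1
    change 1 + finrank F nP = 3 at h1
    omega
  have hP₀n : P₀ = nP := Submodule.eq_of_le_of_finrank_eq (fun d hd => LinearMap.mem_ker.2
    (O.h1.symm0 (hperp d (hP₀M d hd)))) (by rw [hP₀, hnP])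
  have hd_iff : ∀ d, f1 d n = 0 → vecMulVec d v ∈ MM g v := fun d hd =>
    hP₀M d (hP₀n.ge (LinearMap.mem_ker.2 hd))
  have hspan : ∀ X ∈ MM g v, ∃ s : F, cv O v X = s • n := fun X hX => by
    have h1 : ∀ d, f1 d n = 0 → f1 (cv O v X) d = 0 := fun d hd => by
      have h2 := (MM_perp O S hg).1 hX _ (hd_iff d hd)
      rwa [f_cv O] at h2
    obtain ⟨s, hs⟩ := Submodule.mem_span_singleton.1 (O.h1.perp_perp hn0 h1)
    exact ⟨s, hs.symm⟩
  by_cases hb : f1 n n = 0
  · -- degenerate
    refine fix_member O S hex (inv_mem hg) (fun e => hMne ?_) fun X hX => ?_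
    · refine Submodule.eq_of_le_of_finrank_eq ?_ (by rw [MM_finrank O S, finrank_base O S])
      rintro _ ⟨X, hX, rfl⟩
      rw [← e] at hX
      obtain ⟨Y, hY, rfl⟩ := hX
      show g (g.symm Y) ∈ _
      rwa [g.apply_symm_apply]
    · rw [AM_apply O S]
      show g.symm (vecMulVec (cv O v (g X)) v) ∈ _
      refine mem_MM.1 ?_
      obtain ⟨s, hs⟩ := hspan (g X) ⟨X, hX, rfl⟩
      rw [hs]
      exact hd_iff _ (by rw [O.h1.smul_left, hb, mul_zero])
  -- the decomposition
  have hdec : ∀ c : ι → F, ∃ d, f1 d n = 0 ∧ c = d + (f1 c n / f1 n n) • n := fun c =>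
    ⟨c - (f1 c n / f1 n n) • n, by
      rw [O.h1.sub_left, O.h1.smul_left, div_mul_cancel₀ _ hb, sub_self], by abel⟩
  set γ := f1 (cv O v' X₀) n / f1 n n with hγ
  set x := v' + γ • v with hx
  have hnx : vecMulVec n x ∈ MM g v := by
    obtain ⟨d, hd, hde⟩ := hdec (cv O v' X₀)
    have e : vecMulVec n x = X₀ - vecMulVec d v := by
      conv_rhs => rw [dec O S X₀, ← hn, hde]
      rw [hx, vecMulVec_add, vmv_smul, add_vecMulVec, smul_vecMulVec]
      abel
    rw [e]
    exact (MM g v).sub_mem hX₀ (hd_iff d hd)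
  have hxx : f2 x x = 0 := by
    have h1 := (MM_perp O S hg).1 hnx _ hnx
    rw [O.f_pure] at h1
    exact (mul_eq_zero.1 h1).resolve_left hb
  have hvx : f2 v x = 1 := by rw [hx, O.h2.add_right, O.h2.smul_right, S.vv', S.vv, mul_zero, add_zero]
  have hxv : f2 x v = 1 := by rw [hx, O.h2.add_left, O.h2.smul_left, S.v'v, S.vv, mul_zero, add_zero]
  have hγs : σ γ = -γ := by
    have h1 := hxx
    rw [hx] at h1
    simp only [O.h2.add_left, O.h2.add_right, O.h2.smul_left, O.h2.smul_right, S.vv, S.v'v', S.v'v,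
      S.vv', mul_zero, mul_one, add_zero, zero_add] at h1
    linear_combination h1
  -- the homology
  obtain ⟨α, hα0, hαN, hα3⟩ := exists_alpha O S
  set β := σ α * σ α with hβd
  have hαi : σ α = α⁻¹ := eq_inv_of_mul_eq_one_right hαN
  have hβN : β * σ β = 1 := by
    rw [hβd, map_mul, O.sg.invol]; linear_combination (α * σ α + 1) * hαN
  have hβ0 : β ≠ 0 := left_ne_zero_of_mul_eq_one hβN
  have hβα : β ≠ α := fun e => hα3 (by
    rw [hβd, hαi] at e
    field_simp at e
    linear_combination -e)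
  obtain ⟨e, he, heX⟩ := S.left (Hm O n α β)
    (by rw [Hm_det O S hb hα0, hβd, hαi]; field_simp)
    (Hm_iso O S hb hαN hβN)
  have heP : ∀ d, f1 d n = 0 → ∀ a, e (vecMulVec d a) = α • vecMulVec d a := fun d hd a => by
    rw [heX, Hm_perp O S α β hd, smul_vecMulVec]
  have hen : ∀ a, e (vecMulVec n a) = β • vecMulVec n a := fun a => by
    rw [heX, Hm_self O S hb, smul_vecMulVec]
  have hcoord : ∀ X ∈ MM g v, ∃ (k : F) (d : ι → F), f1 d n = 0 ∧
      X = k • vecMulVec n x + vecMulVec d v := fun X hX => by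
    obtain ⟨s, hs⟩ := hspan X hX
    obtain ⟨d, hd, hde⟩ := hdec (cv O v' X - (s * γ) • n)
    refine ⟨s, d, hd, ?_⟩
    set r := f1 (cv O v' X - (s * γ) • n) n / f1 n n
    have e1 : X = s • vecMulVec n x + (vecMulVec d v + r • vecMulVec n v) := by
      rw [← smul_vecMulVec r, ← add_vecMulVec, ← hde]
      conv_lhs => rw [dec O S X, hs]
      rw [hx, vecMulVec_add, vmv_smul, sub_vmv, smul_vecMulVec, smul_vecMulVec]
      module
    have hr : r = 0 := by
      by_contra hr
      have h1 : r • vecMulVec n v ∈ MM g v := by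
        have h2 := (MM g v).sub_mem ((MM g v).sub_mem hX ((MM g v).smul_mem s hnx)) (hd_iff d hd)
        rwa [e1, add_sub_cancel_left, add_sub_cancel_left] at h2
      have h3 := (MM g v).smul_mem r⁻¹ h1
      rw [smul_smul, inv_mul_cancel₀ hr, one_smul] at h3
      exact hb (hperp n h3)
    rwa [hr, zero_smul, add_zero] at e1
  have hfix : ∀ X ∈ MM g v, e X ∈ MM g v := fun X hX => by
    obtain ⟨k, d, hd, rfl⟩ := hcoord X hX
    rw [map_add, map_smul, hen, heP d hd]
    exact (MM g v).add_mem ((MM g v).smul_mem _ ((MM g v).smul_mem _ hnx))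
      ((MM g v).smul_mem _ (hd_iff d hd))
  obtain ⟨ν, hν0, hν⟩ := member_normal O S hex hg he hfix
  -- the image in coordinates
  have himg : ∀ Z, ∃ (k : F) (d : ι → F), f1 d n = 0 ∧
      AM O g v Z = k • vecMulVec n x + vecMulVec d v := fun Z => hcoord _ (AM_mem O S g Z)
  have hsplit : ∀ (k : F) (d : ι → F), f1 d n = 0 → k • vecMulVec n x + vecMulVec d v = 0 →
      k = 0 ∧ d = 0 := by
    intro k d hd h
    have h1 := congrArg (cv O v) h
    rw [map_add, map_smul, cv_pure, cv_pure, hxv, S.vv, one_smul, zero_smul, add_zero, map_zero] at h1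
    have hk := (smul_eq_zero.1 h1).resolve_right hn0
    rw [hk, zero_smul, zero_add, vmv_eq_zero] at h
    exact ⟨hk, h.resolve_right S.v0⟩
  -- the line perpendicular to the plane
  obtain ⟨k, d₁, hd₁, hAn⟩ := himg (vecMulVec n v)
  have hk : k ≠ 0 := fun hk0 => by
    refine fix_member O S hex hg hMne fun X hX => ?_
    obtain ⟨c, rfl⟩ := mem_col.1 hX
    obtain ⟨d, hd, hde⟩ := hdec c
    rw [hde, add_vecMulVec, smul_vecMulVec, map_add, map_smul, (AM_zero O S).2 (hd_iff d hd), zero_add,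
      hAn, hk0, zero_smul, zero_add]
    exact Submodule.smul_mem _ _ (mem_col.2 ⟨d₁, rfl⟩)
  have hν1 : ν = 1 ∧ d₁ = 0 := by
    have h1 := hν (vecMulVec n v)
    rw [hen, map_smul (AM O g v), hAn, map_add, map_smul, hen, heP d₁ hd₁] at h1
    have h2 : (k * β - ν * (β * k)) • vecMulVec n x + vecMulVec ((α - ν * β) • d₁) v = 0 := by
      rw [smul_vecMulVec, ← sub_eq_zero.2 h1]
      module
    obtain ⟨h3, h4⟩ := hsplit _ _ (by rw [O.h1.smul_left, hd₁, mul_zero]) h2
    have hν' : ν = 1 := by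
      have : (1 - ν) * (k * β) = 0 := by linear_combination h3
      exact (sub_eq_zero.1 ((mul_eq_zero.1 this).resolve_right (mul_ne_zero hk hβ0))).symm
    rw [hν', one_mul] at h4
    exact ⟨hν', (smul_eq_zero.1 h4).resolve_left (sub_ne_zero.2 hβα.symm)⟩
  obtain ⟨hν1, hd₁0⟩ := hν1
  rw [hd₁0, zero_vecMulVec, add_zero] at hAn
  have hAd : ∀ d, f1 d n = 0 → ∀ a, ∃ d', f1 d' n = 0 ∧
      AM O g v (vecMulVec d a) = f2 a v • vecMulVec d' v := by
    intro d hd
    obtain ⟨k', d', hd', hAd'⟩ := himg (vecMulVec d v')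
    have h1 := hν (vecMulVec d v')
    rw [hν1, one_smul, heP d hd, map_smul (AM O g v), hAd', map_add, map_smul, hen, heP d' hd'] at h1
    have h2 : (k' * β - α * k') • vecMulVec n x + vecMulVec (0 : ι → F) v = 0 := by
      rw [zero_vecMulVec, add_zero, ← sub_eq_zero.2 h1]
      module
    obtain ⟨h3, -⟩ := hsplit _ _ (O.h1.zero_left n) h2
    have hk' : k' = 0 := by
      have : k' * (β - α) = 0 := by linear_combination h3
      exact (mul_eq_zero.1 this).resolve_right (sub_ne_zero.2 hβα)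
    rw [hk', zero_smul, zero_add] at hAd'
    intro a
    refine ⟨d', hd', ?_⟩
    conv_lhs => rw [plane_dec O S a, vecMulVec_add, vmv_smul, vmv_smul, map_add, map_smul, map_smul, hAd',
      (AM_zero O S).2 (hd_iff d hd), smul_zero, add_zero]
  have hAna : ∀ a, AM O g v (vecMulVec n a) = (k * f2 a x) • vecMulVec n x := by
    intro a
    have hA' : AM O g v (vecMulVec n v') = (-(γ * k)) • vecMulVec n x := by
      have h1 := (AM_zero O S).2 hnx
      rw [hx, vecMulVec_add, vmv_smul, map_add, map_smul, hAn] at h1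
      rw [eq_neg_of_add_eq_zero_left h1]
      module
    have ha : f2 a x = f2 a v' - γ * f2 a v := by
      rw [hx, O.h2.add_right, O.h2.smul_right, hγs]; ring
    conv_lhs => rw [plane_dec O S a, vecMulVec_add, vmv_smul, vmv_smul, map_add, map_smul, map_smul, hA', hAn]
    rw [ha]
    module
  -- the commutator
  obtain ⟨m, hm0, hm⟩ := O.sg.skew
  obtain ⟨y, hy, hyX, hyi⟩ := AM_elem O S hg hm
  obtain ⟨t, ht, htX, -⟩ := tv O S.vv hm
  have hti : ∀ X, t.symm X = X - m • vecMulVec (cv O v X) v := fun X => t.injective (by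
    rw [t.apply_symm_apply, htX, map_sub, map_smul, cv_pure, S.vv, zero_smul, smul_zero, sub_zero,
      sub_add_cancel])
  have hd2 : ∀ d, f1 d n = 0 → ∀ a,
      y (t (y.symm (t.symm (vecMulVec d a)))) = vecMulVec d a ∧
      t (y (t.symm (y.symm (vecMulVec d a)))) = vecMulVec d a := by
    intro d hd a
    obtain ⟨d', hd', hA⟩ := hAd d hd a
    have hA0 : ∀ d, f1 d n = 0 → AM O g v (vecMulVec d v) = 0 := fun d hd => (AM_zero O S).2 (hd_iff d hd)
    have hc0 : ∀ d : ι → F, cv O v (vecMulVec d v) = 0 := fun d => by rw [cv_pure, S.vv, zero_smul]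
    constructor
    · rw [hti, cv_pure, hyi, map_sub (AM O g v), map_smul (AM O g v), hA, hA0 _ (by
        rw [O.h1.smul_left, hd, mul_zero]), smul_zero, sub_zero, htX]
      simp only [map_sub, map_smul, hc0, cv_pure, smul_zero, sub_zero, smul_vecMulVec]
      rw [hyX]
      simp only [map_sub, map_add, map_smul, hA, hA0 d hd, hA0 d' hd', smul_zero, sub_zero, add_zero]
      module
    · have hyv : ∀ d, f1 d n = 0 → y (vecMulVec d v) = vecMulVec d v := fun d hd => by
        rw [hyX, hA0 d hd, smul_zero, add_zero]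
      have htv : ∀ d : ι → F, t (vecMulVec d v) = vecMulVec d v := fun d => by
        rw [htX, hc0, zero_vecMulVec, smul_zero, add_zero]
      have htiv : ∀ d : ι → F, t.symm (vecMulVec d v) = vecMulVec d v := fun d => by
        rw [hti, hc0, zero_vecMulVec, smul_zero, sub_zero]
      rw [hyi, hA, map_sub t.symm, map_smul t.symm, map_smul t.symm, htiv, hti (vecMulVec d a), cv_pure,
        smul_vecMulVec, map_sub y, map_sub y, map_smul y, map_smul y, map_smul y, map_smul y, hyv d hd,
        hyv d' hd', hyX, hA, map_sub t, map_sub t, map_smul t, map_smul t, map_smul t, map_smul t, htv,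
        htv, map_add t, map_smul t, map_smul t, htv, htX, cv_pure, smul_vecMulVec]
      module
  let w : (κ → F) →ₗ[F] (κ → F) := LinearMap.id + (m * k) • (O.h2.lin x).smulRight x
  let w' : (κ → F) →ₗ[F] (κ → F) := LinearMap.id - (m * k) • (O.h2.lin x).smulRight x
  let tt : (κ → F) →ₗ[F] (κ → F) := LinearMap.id + m • (O.h2.lin v).smulRight v
  let tt' : (κ → F) →ₗ[F] (κ → F) := LinearMap.id - m • (O.h2.lin v).smulRight v
  have hyn : ∀ a, y (vecMulVec n a) = vecMulVec n (w a) := fun a => by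
    rw [hyX, hAna]
    simp [w, HForm.lin_apply, vecMulVec_add, vmv_smul, smul_smul, mul_assoc]
  have hyn' : ∀ a, y.symm (vecMulVec n a) = vecMulVec n (w' a) := fun a => by
    rw [hyi, hAna]
    simp [w', HForm.lin_apply, vmv_sub, vmv_smul, smul_smul, mul_assoc]
  have htn : ∀ a, t (vecMulVec n a) = vecMulVec n (tt a) := fun a => by
    rw [htX, cv_pure]
    simp [tt, HForm.lin_apply, vecMulVec_add, vmv_smul, smul_vecMulVec, smul_smul]
  have htn' : ∀ a, t.symm (vecMulVec n a) = vecMulVec n (tt' a) := fun a => by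
    rw [hti, cv_pure]
    simp [tt', HForm.lin_apply, vmv_sub, vmv_smul, smul_vecMulVec, smul_smul]
  let T : (κ → F) →ₗ[F] (κ → F) := (f1 n n)⁻¹ • (w ∘ₗ tt ∘ₗ w' ∘ₗ tt' - LinearMap.id)
  let T' : (κ → F) →ₗ[F] (κ → F) := (f1 n n)⁻¹ • (tt ∘ₗ w ∘ₗ tt' ∘ₗ w' - LinearMap.id)
  refine hex (ex_of_block O S hb (g := y * t * y⁻¹ * t⁻¹) (T := T) (T' := T')
    (mul_mem (mul_mem (mul_mem hy ht) (inv_mem hy)) (inv_mem ht)) (fun s => ?_) (fun d a => ?_) fun d a => ?_)
  · by_contra hc
    push Not at hc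
    have h1 := congrArg (fun z => f2 z v) (hc v)
    simp only [T, w, tt, w', tt', LinearMap.smul_apply, LinearMap.sub_apply, LinearMap.comp_apply,
      LinearMap.add_apply, LinearMap.id_apply, LinearMap.smulRight_apply, HForm.lin_apply, O.h2.smul_left,
      O.h2.sub_left, O.h2.add_left, S.vv, hxv, hvx, hxx, zero_smul, smul_zero, mul_zero, mul_one,
      sub_zero, add_zero, zero_add, zero_sub, zero_mul] at h1
    have h2 : (m * k) * (m * k) * m * (f1 n n)⁻¹ = 0 := by linear_combination -h1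
    exact mul_ne_zero (mul_ne_zero (mul_ne_zero (mul_ne_zero hm0 hk) (mul_ne_zero hm0 hk)) hm0)
      (inv_ne_zero hb) h2
  · obtain ⟨d', hd', hde⟩ := hdec d
    show y (t (y.symm (t.symm (vecMulVec d a)))) = _
    have e1 : ∀ X Y : MV, y (t (y.symm (t.symm (X + Y))))
        = y (t (y.symm (t.symm X))) + y (t (y.symm (t.symm Y))) := fun X Y => by simp only [map_add]
    have e2 : vecMulVec d a = vecMulVec d' a + (f1 d n / f1 n n) • vecMulVec n a := by
      rw [← smul_vecMulVec, ← add_vecMulVec, ← hde]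
    rw [e2, e1, (hd2 d' hd' a).1, map_smul t.symm, map_smul y.symm, map_smul t, map_smul y, htn', hyn', htn,
      hyn]
    simp only [T, LinearMap.smul_apply, LinearMap.sub_apply, LinearMap.comp_apply, LinearMap.id_apply,
      vmv_smul, vmv_sub]
    module
  · obtain ⟨d', hd', hde⟩ := hdec d
    show t (y (t.symm (y.symm (vecMulVec d a)))) = _
    have e1 : ∀ X Y : MV, t (y (t.symm (y.symm (X + Y))))
        = t (y (t.symm (y.symm X))) + t (y (t.symm (y.symm Y))) := fun X Y => by simp only [map_add]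
    have e2 : vecMulVec d a = vecMulVec d' a + (f1 d n / f1 n n) • vecMulVec n a := by
      rw [← smul_vecMulVec, ← add_vecMulVec, ← hde]
    rw [e2, e1, (hd2 d' hd' a).2, map_smul y.symm, map_smul t.symm, map_smul y, map_smul t, hyn', htn', hyn,
      htn]
    simp only [T', LinearMap.smul_apply, LinearMap.sub_apply, LinearMap.comp_apply, LinearMap.id_apply,
      vmv_smul, vmv_sub]
    module

end

end CfsgLib.MaxSub.TensorHerm
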