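/-
Overgroups of the product of a three-dimensional and a two-dimensional unitary group: two members
meeting in a line give two members meeting in a plane, and hence a non-scalar endomorphism.
-/
import Cfsg.Agent.Lib.MaxSub.TensorHerm.PlaneTwo

set_option autoImplicit false
set_option maxHeartbeats 800000
set_option linter.unusedSectionVars false

namespace CfsgLib.MaxSub.TensorHerm

open Matrix Module
open CfsgLib.MaxSub.TensorLin (Col colMap colMap_apply mem_col finrank_col colMap_injective vmv_eq_zero vmv_zero)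

variable {F : Type*} [Field F] [Fintype F] {ι κ : Type*} [Fintype ι] [Fintype κ] [DecidableEq ι]
  [DecidableEq κ]
variable {σ : F →+* F} {f1 : (ι → F) → (ι → F) → F} {f2 : (κ → F) → (κ → F) → F}
  {f : Matrix ι κ F → Matrix ι κ F → F} {G : Subgroup (Matrix ι κ F ≃ₗ[F] Matrix ι κ F)}

local notation "MV" => Matrix ι κ F

section

variable (O : TU σ f1 f2 f G) {v v' : κ → F} {τ : F} (S : PS σ f1 f2 G v v' τ)
include O S

/-- An anisotropic vector and two independent vectors perpendicular to it are independent. -/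
theorem lin_three {p c d : ι → F} (hb : f1 p p ≠ 0) (hc : f1 c p = 0) (hd : f1 d p = 0)
    (hcd : LinearIndependent F ![c, d]) : LinearIndependent F ![p, c, d] := by
  refine Fintype.linearIndependent_iff.2 fun w hw => ?_
  simp only [Fin.sum_univ_three, Matrix.cons_val_zero, Matrix.cons_val_one, Matrix.cons_val] at hw
  have h0 : w 0 = 0 := by
    have h1 := congrArg (O.h1.lin p) hw
    simp only [HForm.lin_apply, map_add, map_smul, map_zero, hc, hd, smul_eq_mul, mul_zero, add_zero] at h1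
    exact (mul_eq_zero.1 h1).resolve_right hb
  rw [h0, zero_smul, zero_add] at hw
  obtain ⟨h1, h2⟩ := LinearIndependent.pair_iff.1 hcd _ _ hw
  intro i
  fin_cases i
  · exact h0
  · exact h1
  · exact h2

/-- A member meeting the base member in a line gives two members meeting in a plane. -/
theorem two_of_line (hex : ¬ Ex O) {g : MV ≃ₗ[F] MV} (hg : g ∈ G) (hMne : MM g v ≠ Col (ι := ι) v)
    {X₀ : MV} (hX₀ : X₀ ∈ MM g v) (hX₀b : X₀ ∈ Col (ι := ι) v) (hX₀0 : X₀ ≠ 0) : Two G v := by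
  by_contra hcon
  obtain ⟨p, rfl⟩ := mem_col.1 hX₀b
  have hp0 : p ≠ 0 := fun e => hX₀0 (by rw [e, zero_vecMulVec])
  have hbase : vecMulVec p v ∈ MM (1 : MV ≃ₗ[F] MV) v := by rw [MM_one]; exact hX₀b
  have hMne' : MM g v ≠ MM (1 : MV ≃ₗ[F] MV) v := by rwa [MM_one]
  by_cases hb : f1 p p = 0
  · refine hcon (two_of_singular O S (one_mem G) hg hMne'.symm hX₀0 hbase hX₀
      (Z := vecMulVec p v') ?_ ?_)
    · rw [AM_one O S, cv_pure, S.v'v, one_smul]
    · rw [O.f_pure, hb, zero_mul]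
  -- the line
  have hline : ∀ c, vecMulVec c v ∈ MM g v → ∃ s : F, c = s • p := fun c hc => by
    by_contra hs
    push Not at hs
    refine hcon ⟨g, hg, 1, one_mem G, hMne', vecMulVec p v, vecMulVec c v, hX₀, hbase, hc,
      by rw [MM_one]; exact mem_col.2 ⟨c, rfl⟩, ?_⟩
    refine (LinearIndependent.pair_iff' hX₀0).2 fun s h => hs s ?_
    rw [← smul_vecMulVec] at h
    have h2 := congrArg (cv O v') h
    rwa [cv_pure, cv_pure, S.vv', one_smul, one_smul, eq_comm] at h2
  have hperp : ∀ X ∈ MM g v, f1 (cv O v X) p = 0 := fun X hX => by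
    rw [← f_cv O]
    exact (MM_perp O S hg).1 hX _ hX₀
  -- the homology
  obtain ⟨α, hα0, hαN, hα3⟩ := exists_alpha O S
  set β := σ α * σ α with hβd
  have hαi : σ α = α⁻¹ := eq_inv_of_mul_eq_one_right hαN
  have hβN : β * σ β = 1 := by
    rw [hβd, map_mul, O.sg.invol]; linear_combination (α * σ α + 1) * hαN
  have hβ0 : β ≠ 0 := left_ne_zero_of_mul_eq_one hβN
  obtain ⟨e, he, heX⟩ := S.left (Hm O p α β)
    (by rw [Hm_det O S hb hα0, hβd, hαi]; field_simp)
    (Hm_iso O S hb hαN hβN)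
  let ℓ : MV →ₗ[F] F := (O.h1.lin p).comp (cv O v')
  have hℓ : ∀ X, ℓ X = f1 (cv O v' X) p := fun X => rfl
  have hep : e (vecMulVec p v) = β • vecMulVec p v := by rw [heX, Hm_self O S hb, smul_vecMulVec]
  have heM : ∀ X ∈ MM g v, e X = α • X + ((β - α) / f1 p p * ℓ X) • vecMulVec p v := fun X hX => by
    conv_rhs => arg 1; rw [dec O S X]
    rw [left_apply O S heX, Hm_perp O S α β (hperp X hX), Hm_apply O S, hℓ, add_vecMulVec, smul_vecMulVec,
      smul_vecMulVec, smul_vecMulVec]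
    module
  have hfix : ∀ X ∈ MM g v, e X ∈ MM g v := fun X hX => by
    rw [heM X hX]
    exact (MM g v).add_mem ((MM g v).smul_mem _ hX) ((MM g v).smul_mem _ hX₀)
  obtain ⟨ν, hν0, hν⟩ := member_normal O S hex hg he hfix
  obtain ⟨Z₀, hZ₀⟩ := AM_onto O S hX₀
  set Q₀ := f (vecMulVec p v) Z₀ with hQ₀d
  have hQ₀ : Q₀ ≠ 0 := fun h0 =>
    hcon (two_of_singular O S hg (one_mem G) hMne' hX₀0 hX₀ hbase hZ₀ h0)
  have hQ₀f : σ Q₀ = Q₀ := by
    rw [hQ₀d, ← O.h.herm]
    conv_lhs => rw [← hZ₀]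
    rw [← AM_skew O S hg, hZ₀]
  -- the multiplier
  have hshift : ∃ m ∈ MM g v, e Z₀ = (β / ν) • Z₀ + m := by
    refine ⟨e Z₀ - (β / ν) • Z₀, (AM_zero O S).1 ?_, by rw [add_sub_cancel]⟩
    have h1 := hν Z₀
    rw [hZ₀, hep] at h1
    rw [map_sub, map_smul, hZ₀, div_eq_inv_mul, mul_smul, h1, smul_smul, inv_mul_cancel₀ hν0, one_smul,
      sub_self]
  obtain ⟨m₀, hm₀, hem₀⟩ := hshift
  have hν1 : ν = 1 := by
    have h1 := O.isom e he (vecMulVec p v) Z₀
    rw [hep, hem₀, O.h.smul_left, O.h.add_right, O.h.smul_right, (MM_perp O S hg).1 hX₀ _ hm₀, add_zero,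
      ← hQ₀d, ← mul_assoc, map_div₀] at h1
    have h2 : β * (σ β / σ ν) = 1 := mul_right_cancel₀ hQ₀ (by rw [one_mul]; exact h1)
    rw [← mul_div_assoc, hβN, div_eq_one_iff_eq (fun e => hν0 (O.sg.eq_zero e))] at h2
    exact O.sg.invol ν ▸ by rw [← h2, map_one]
  -- the complement of the line
  let N : Submodule F MV := MM g v ⊓ LinearMap.ker ℓ
  have hNM : ∀ X ∈ N, X ∈ MM g v := fun X hX => hX.1
  have hNℓ : ∀ X ∈ N, f1 (cv O v' X) p = 0 := fun X hX => LinearMap.mem_ker.1 hX.2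
  have hN2 : finrank F N = 2 := by
    have h1 := LinearMap.finrank_range_add_finrank_ker (ℓ.domRestrict (MM g v))
    have h2 : LinearMap.range (ℓ.domRestrict (MM g v)) = ⊤ := LinearMap.range_eq_top.2 fun s =>
      ⟨⟨(s / f1 p p) • vecMulVec p v, (MM g v).smul_mem _ hX₀⟩, by
        show ℓ ((s / f1 p p) • vecMulVec p v) = s
        rw [map_smul, hℓ, cv_pure, S.vv', one_smul, smul_eq_mul, div_mul_cancel₀ _ hb]⟩
    have h3 : (LinearMap.ker (ℓ.domRestrict (MM g v))).map (MM g v).subtype = N := by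
      ext x
      simp [N, Submodule.mem_map, and_comm]
    rw [h2, finrank_top, Module.finrank_self, MM_finrank O S,
      ← Submodule.finrank_map_subtype_eq (MM g v) (LinearMap.ker (ℓ.domRestrict (MM g v))), h3] at h1
    omega
  have hsplit : ∀ X ∈ MM g v, X - (ℓ X / f1 p p) • vecMulVec p v ∈ N := fun X hX => by
    refine ⟨(MM g v).sub_mem hX ((MM g v).smul_mem _ hX₀), LinearMap.mem_ker.2 ?_⟩
    rw [map_sub, map_smul, hℓ (vecMulVec p v), cv_pure, S.vv', one_smul, smul_eq_mul,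
      div_mul_cancel₀ _ hb, sub_self]
  have hNinj : ∀ X ∈ N, cv O v X = 0 → X = 0 := fun X hX h0 => by
    have h1 := base_eq O S ((mem_base O S).2 h0)
    obtain ⟨s, hs⟩ := hline (cv O v' X) (h1 ▸ hNM X hX)
    have h2 := hNℓ X hX
    rw [hs, O.h1.smul_left] at h2
    rw [h1, hs, (mul_eq_zero.1 h2).resolve_right hb, zero_smul, zero_vecMulVec]
  have hcross : ∀ X ∈ N, f X Z₀ = 0 := fun X hX => by
    have h1 := O.isom e he X Z₀
    rw [heM X (hNM X hX), hℓ, hNℓ X hX, mul_zero, zero_smul, add_zero, hem₀, O.h.smul_left, O.h.add_right,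
      O.h.smul_right, (MM_perp O S hg).1 (hNM X hX) _ hm₀, add_zero, hν1, div_one, ← mul_assoc] at h1
    have h2 : α * σ β ≠ 1 := by rwa [hβd, map_mul, O.sg.invol, ← mul_assoc]
    have h3 : (α * σ β - 1) * f X Z₀ = 0 := by linear_combination h1
    exact (mul_eq_zero.1 h3).resolve_left (sub_ne_zero.2 h2)
  choose Zf hZf using fun (X : N) => AM_onto O S (hNM X.1 X.2)
  have hB : ∀ (X Y : MV) (hX : X ∈ MM g v) (Z : MV), AM O g v Z = Y → ∀ Z', AM O g v Z' = Y → f X Z = f X Z' := by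
    intro X Y hX Z hZ Z' hZ'
    refine sub_eq_zero.1 ?_
    rw [← O.h.sub_right]
    exact (MM_perp O S hg).1 hX _ ((AM_zero O S).1 (by rw [map_sub, hZ, hZ', sub_self]))
  have hherm : ∀ {X Y Z W : MV}, AM O g v Z = X → AM O g v W = Y → f Y Z = σ (f X W) := by
    intro X Y Z W hZ hW
    rw [← hZ, ← hW, AM_skew O S hg, O.h.herm]
  -- nondegeneracy
  have hnd : ∀ X ∈ N, (∀ Y ∈ N, ∀ W, AM O g v W = Y → f X W = 0) → X = 0 := fun X hX h => by
    refine O.h.nondeg X fun W => ?_
    have hA := AM_mem O S g W (v := v)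
    set s := ℓ (AM O g v W) / f1 p p
    obtain ⟨W', hW'⟩ : ∃ W', AM O g v W' = AM O g v W - s • vecMulVec p v := ⟨W - s • Z₀, by
      rw [map_sub, map_smul, hZ₀]⟩
    have h1 := h _ (hsplit _ hA) W' hW'
    have h2 : f X W = f X (W' + s • Z₀) := hB X _ (hNM X hX) W rfl _ (by
      rw [map_add, map_smul, hW', hZ₀, sub_add_cancel])
    rw [h2, O.h.add_right, O.h.smul_right, h1, hcross X hX, mul_zero, add_zero]
  have hQf : ∀ {X Z : MV}, AM O g v Z = X → σ (f X Z) = f X Z := fun {X Z} hZ => (hherm hZ hZ).symm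
  -- an orthogonal basis
  obtain ⟨n, hn, Zn, hZn, hQn⟩ : ∃ n ∈ N, ∃ Z, AM O g v Z = n ∧ f n Z ≠ 0 := by
    by_contra hc
    push Not at hc
    obtain ⟨n, hn, hn0⟩ := (Submodule.ne_bot_iff N).1 fun e => by rw [e, finrank_bot] at hN2; omega
    refine hn0 (hnd n hn fun Y hY W hW => ?_)
    obtain ⟨Z, hZ⟩ := AM_onto O S (hNM n hn)
    refine O.sg.eq_zero_of_trace fun s => ?_
    have h1 := hc _ (N.add_mem (N.smul_mem s hn) hY) (s • Z + W) (by rw [map_add, map_smul, hZ, hW])
    rw [O.h.add_left, O.h.add_right, O.h.add_right, O.h.smul_left, O.h.smul_left, O.h.smul_right,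
      O.h.smul_right, hc n hn Z hZ, hc Y hY W hW, hherm hZ hW] at h1
    rw [map_mul]
    linear_combination h1
  obtain ⟨m, hm, hmn, hm0⟩ : ∃ m ∈ N, f m Zn = 0 ∧ m ≠ 0 := by
    have h1 := LinearMap.finrank_range_add_finrank_ker ((O.h.lin Zn).domRestrict N)
    have h2 := Submodule.finrank_le (LinearMap.range ((O.h.lin Zn).domRestrict N))
    rw [Module.finrank_self] at h2
    obtain ⟨⟨m, hm⟩, hm', hm0⟩ := (Submodule.ne_bot_iff (LinearMap.ker ((O.h.lin Zn).domRestrict N))).1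
      fun e => by rw [e, finrank_bot, hN2] at h1; omega
    exact ⟨m, hm, LinearMap.mem_ker.1 hm', fun e => hm0 (Subtype.ext e)⟩
  obtain ⟨Zm, hZm⟩ := AM_onto O S (hNM m hm)
  have hnm : f n Zm = 0 := by rw [hherm hZm hZn, hmn, map_zero]
  have hmnot : m ∉ F ∙ n := fun h => by
    obtain ⟨s, rfl⟩ := Submodule.mem_span_singleton.1 h
    rw [O.h.smul_left] at hmn
    exact hm0 (by rw [(mul_eq_zero.1 hmn).resolve_right hQn, zero_smul])
  have hn0 : n ≠ 0 := fun e => hQn (by rw [e, O.h.zero_left])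
  have hQm : f m Zm ≠ 0 := fun h0 => by
    refine hm0 (hnd m hm fun Y hY W hW => ?_)
    have hspan : Submodule.span F (Set.range ![n, m]) = N := by
      refine Submodule.eq_of_le_of_finrank_eq ?_ ?_
      · rw [Submodule.span_le]
        rintro _ ⟨i, rfl⟩
        fin_cases i
        · exact hn
        · exact hm
      · rw [finrank_span_eq_card ((LinearIndependent.pair_iff' hn0).2 fun s hs =>
          hmnot (Submodule.mem_span_singleton.2 ⟨s, hs⟩)), Fintype.card_fin, hN2]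
    rw [← hspan, Matrix.range_cons, Matrix.range_cons, Matrix.range_empty, Set.union_empty,
      Set.singleton_union, Submodule.mem_span_pair] at hY
    obtain ⟨a, b, hab⟩ := hY
    rw [hB m Y (hNM m hm) W hW (a • Zn + b • Zm) (by rw [map_add, map_smul, map_smul, hZn, hZm, hab]),
      O.h.add_right, O.h.smul_right, O.h.smul_right, hmn, h0, mul_zero, mul_zero, add_zero]
  obtain ⟨r, hrf, hr0, hrn⟩ : ∃ r, σ r = r ∧ r ≠ 0 ∧ f n Zn + r * f m Zm ≠ 0 := by
    by_cases h1 : f n Zn + 1 * f m Zm = 0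
    · refine ⟨τ, S.τfix, S.τ0, fun h => S.τ1 ?_⟩
      have h3 : (τ - 1) * f m Zm = 0 := by linear_combination h - h1
      exact sub_eq_zero.1 ((mul_eq_zero.1 h3).resolve_right hQm)
    · exact ⟨1, map_one σ, one_ne_zero, h1⟩
  obtain ⟨t, ht⟩ := O.sg.norm r hrf
  have ht0 : t ≠ 0 := fun e => hr0 (by rw [← ht, e, zero_mul])
  have hQt : f (n + t • m) (Zn + t • Zm) ≠ 0 := by
    rw [O.h.add_left, O.h.add_right, O.h.add_right, O.h.smul_left, O.h.smul_left, O.h.smul_right,
      O.h.smul_right, hnm, hmn]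
    simp only [mul_zero, add_zero, zero_add, ← mul_assoc, ht]
    exact hrn
  -- a vector that is not an eigenvector
  obtain ⟨n₁, hn₁, Z₁, hZ₁, hQ₁, hne₁⟩ : ∃ n₁ ∈ N, ∃ Z, AM O g v Z = n₁ ∧ f n₁ Z ≠ 0 ∧
      ∀ μ : F, cv O v' n₁ ≠ μ • cv O v n₁ := by
    by_contra hc
    push Not at hc
    obtain ⟨μ, hμ⟩ := hc n hn Zn hZn hQn
    obtain ⟨μ', hμ'⟩ := hc m hm Zm hZm hQm
    obtain ⟨μ'', hμ''⟩ := hc _ (N.add_mem hn (N.smul_mem t hm)) (Zn + t • Zm)
      (by rw [map_add, map_smul, hZn, hZm]) hQt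
    rw [map_add, map_add, map_smul, map_smul, hμ, hμ'] at hμ''
    have hcn : cv O v n ≠ 0 := fun h => hn0 (hNinj n hn h)
    have hind : LinearIndependent F ![cv O v n, cv O v m] :=
      (LinearIndependent.pair_iff' hcn).2 fun s hs => hmnot (Submodule.mem_span_singleton.2 ⟨s, by
        rw [← sub_eq_zero]
        refine hNinj _ (N.sub_mem (N.smul_mem s hn) hm) ?_
        rw [map_sub, map_smul, hs, sub_self]⟩)
    obtain ⟨e1, e2⟩ := LinearIndependent.pair_iff.1 hind (μ - μ'') (t * μ' - t * μ'') (by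
      rw [← sub_eq_zero.2 hμ'']
      module)
    have hμeq : μ' = μ := by
      have e3 : t * (μ' - μ'') = 0 := by linear_combination e2
      rw [sub_eq_zero.1 ((mul_eq_zero.1 e3).resolve_left ht0), sub_eq_zero.1 e1]
    set x := v' + μ • v with hx
    have hnx : n = vecMulVec (cv O v n) x := by
      conv_lhs => rw [dec O S n, hμ]
      rw [hx, vecMulVec_add, vmv_smul, smul_vecMulVec]
    have hmx : m = vecMulVec (cv O v m) x := by
      conv_lhs => rw [dec O S m, hμ', hμeq]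
      rw [hx, vecMulVec_add, vmv_smul, smul_vecMulVec]
    have hxx : f2 x x = 0 := by
      by_contra hxx
      have hzero : ∀ {c d : ι → F}, vecMulVec c x ∈ MM g v → vecMulVec d x ∈ MM g v → f1 c d = 0 :=
        fun {c d} hc hd => by
          have h1 := (MM_perp O S hg).1 hc _ hd
          rw [O.f_pure] at h1
          exact (mul_eq_zero.1 h1).resolve_right hxx
      have hn' : vecMulVec (cv O v n) x ∈ MM g v := hnx ▸ hNM n hn
      have hm' : vecMulVec (cv O v m) x ∈ MM g v := hmx ▸ hNM m hm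
      have hli : LinearIndependent F ![p, cv O v n, cv O v m] :=
        lin_three O S hb (hperp n (hNM n hn)) (hperp m (hNM m hm)) hind
      have hspan := hli.span_eq_top_of_card_eq_finrank (by
        rw [Fintype.card_fin, Module.finrank_fintype_fun_eq_card, S.hι])
      refine hcn (O.h1.nondeg _ fun z => ?_)
      have hz : z ∈ Submodule.span F (Set.range ![p, cv O v n, cv O v m]) := hspan ▸ Submodule.mem_top
      have hle : Submodule.span F (Set.range ![p, cv O v n, cv O v m])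
          ≤ LinearMap.ker (O.h1.lin (cv O v n)) := by
        rw [Submodule.span_le]
        rintro _ ⟨i, rfl⟩
        fin_cases i
        · exact LinearMap.mem_ker.2 (O.h1.symm0 (hperp n (hNM n hn)))
        · exact LinearMap.mem_ker.2 (hzero hn' hn')
        · exact LinearMap.mem_ker.2 (hzero hm' hn')
      exact O.h1.symm0 (LinearMap.mem_ker.1 (hle hz))
    have hx0 : x ≠ 0 := fun e => hn0 (by rw [hnx, e, vmv_zero])
    obtain ⟨e', he', -, hMe'⟩ := exists_col O S hx0 hxx
    refine hcon ⟨g, hg, e', he', fun e => ?_, n, m, hNM n hn, ?_, hNM m hm, ?_,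
      (LinearIndependent.pair_iff' hn0).2 fun s hs => hmnot (Submodule.mem_span_singleton.2 ⟨s, hs⟩)⟩
    · rw [e, hMe'] at hX₀
      obtain ⟨c, hc⟩ := mem_col.1 hX₀
      have h1 := congrArg (cv O v) hc
      rw [cv_pure, cv_pure, S.vv, zero_smul, hx, O.h2.add_left, O.h2.smul_left, S.v'v, S.vv, mul_zero,
        add_zero, one_smul] at h1
      rw [h1, zero_vecMulVec] at hc
      exact hX₀0 hc.symm
    · rw [hMe', hnx]
      exact mem_col.2 ⟨_, rfl⟩
    · rw [hMe', hmx]
      exact mem_col.2 ⟨_, rfl⟩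
  -- a singular vector of the member
  have hcr : f n₁ Z₀ = 0 := hcross n₁ hn₁
  have hcr' : f (vecMulVec p v) Z₁ = 0 := by rw [hherm hZ₁ hZ₀, hcr, map_zero]
  obtain ⟨s, hs⟩ := O.sg.norm (-f n₁ Z₁ / Q₀) (by rw [map_div₀, map_neg, hQf hZ₁, hQ₀f])
  have hs0 : s ≠ 0 := fun e => by
    rw [e, zero_mul, eq_comm, div_eq_zero_iff, neg_eq_zero] at hs
    exact hs.elim hQ₁ hQ₀
  have hsQ : s * σ s * Q₀ + f n₁ Z₁ = 0 := by rw [hs, div_mul_cancel₀ _ hQ₀, neg_add_cancel]
  set c := cv O v n₁ with hc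
  set c' := cv O v' n₁ with hc'
  have hcp : f1 c p = 0 := hperp n₁ (hNM n₁ hn₁)
  have hc'p : f1 c' p = 0 := hNℓ n₁ hn₁
  obtain ⟨P, hP, hdim⟩ := O.h1.finrank_perp_le ![c, s • p + c']
  rw [Module.finrank_fintype_fun_eq_card, S.hι] at hdim
  obtain ⟨z, hz, hz0⟩ := (Submodule.ne_bot_iff P).1 fun e => by rw [e, finrank_bot] at hdim; omega
  have hzc : f1 z c = 0 := (hP z).1 hz 0
  have hzc2 : f1 z (s • p + c') = 0 := (hP z).1 hz 1
  rw [O.h1.add_right, O.h1.smul_right] at hzc2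
  have hcn0 : c ≠ 0 := fun h => hQ₁ (by
    rw [hNinj n₁ hn₁ h, O.h.zero_left])
  have hzp : f1 z p ≠ 0 := fun h0 => by
    rw [h0, mul_zero, zero_add] at hzc2
    have hli : LinearIndependent F ![p, c, c'] :=
      lin_three O S hb hcp hc'p ((LinearIndependent.pair_iff' hcn0).2 fun μ hμ => hne₁ μ hμ.symm)
    have hspan := hli.span_eq_top_of_card_eq_finrank (by
      rw [Fintype.card_fin, Module.finrank_fintype_fun_eq_card, S.hι])
    refine hz0 (O.h1.nondeg z fun y => ?_)
    have hle : Submodule.span F (Set.range ![p, c, c']) ≤ LinearMap.ker (O.h1.lin z) := by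
      rw [Submodule.span_le]
      rintro _ ⟨i, rfl⟩
      fin_cases i
      · exact LinearMap.mem_ker.2 (O.h1.symm0 h0)
      · exact LinearMap.mem_ker.2 (O.h1.symm0 hzc)
      · exact LinearMap.mem_ker.2 (O.h1.symm0 hzc2)
    exact O.h1.symm0 (LinearMap.mem_ker.1 (hle (hspan ▸ Submodule.mem_top)))
  have hznp : ∀ k : F, z ≠ k • p := fun k hk => by
    rw [hk, O.h1.smul_left, O.h1.smul_left, show f1 p c' = 0 from O.h1.symm0 hc'p, mul_zero, add_zero] at hzc2
    rcases mul_eq_zero.1 hzc2 with h | h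
    · exact hs0 (O.sg.eq_zero h)
    · rcases mul_eq_zero.1 h with h' | h'
      · exact hz0 (by rw [hk, h', zero_smul])
      · exact hb h'
  -- the moving element
  obtain ⟨μ, ζ, hμ0, hζN, hμiso, hdet⟩ : ∃ μ ζ : F, μ ≠ 0 ∧ ζ * σ ζ = 1 ∧
      μ + σ μ + μ * σ μ * f1 z z = 0 ∧ ζ * (1 + μ * f1 z z) = 1 := by
    by_cases hzz : f1 z z = 0
    · obtain ⟨l, hl0, hl⟩ := O.sg.skew
      exact ⟨l, 1, hl0, by rw [map_one, one_mul], by rw [hzz, mul_zero, add_zero, hl],
        by rw [hzz, mul_zero, add_zero, one_mul]⟩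
    · set ζ := α * α * α with hζ
      have hζN : ζ * σ ζ = 1 := by
        rw [hζ, map_mul, map_mul]
        linear_combination ((α * σ α) * (α * σ α) + α * σ α + 1) * hαN
      have hζ0 : ζ ≠ 0 := left_ne_zero_of_mul_eq_one hζN
      refine ⟨(ζ⁻¹ - 1) / f1 z z, ζ, div_ne_zero (sub_ne_zero.2 fun h => hα3 ?_) hzz, hζN, ?_, ?_⟩
      · exact inv_eq_one.1 h
      · rw [map_div₀, map_sub, map_one, map_inv₀, O.h1.self_fix, eq_inv_of_mul_eq_one_right hζN, inv_inv]
        field_simp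
        ring
      · rw [div_mul_cancel₀ _ hzz, add_sub_cancel, mul_inv_cancel₀ hζ0]
  let R : (ι → F) →ₗ[F] (ι → F) := LinearMap.id + (μ • O.h1.lin z).smulRight z
  have hR : ∀ d, R d = d + (μ * f1 d z) • z := fun d => by
    simp [R, HForm.lin_apply]
  obtain ⟨e', he', he'X⟩ := S.left (Hm O p 1 ζ ∘ₗ R) (by
      rw [LinearMap.det_comp, Hm_det O S hb one_ne_zero, one_mul, one_mul, det_rank_one,
        LinearMap.smul_apply, HForm.lin_apply, smul_eq_mul, hdet]) (fun d d' => by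
      rw [LinearMap.comp_apply, LinearMap.comp_apply,
        Hm_iso O S hb (by rw [map_one, one_mul]) hζN, hR, hR]
      simp only [O.h1.add_left, O.h1.add_right, O.h1.smul_left, O.h1.smul_right, map_mul]
      rw [← O.h1.herm d' z]
      linear_combination (f1 d z * f1 z d') * hμiso)
  set M₀ := s • vecMulVec p v + n₁ with hM₀
  have hM₀mem : M₀ ∈ MM g v := (MM g v).add_mem ((MM g v).smul_mem s hX₀) (hNM n₁ hn₁)
  have hM₀c : cv O v M₀ = c ∧ cv O v' M₀ = s • p + c' := by
    rw [hM₀, map_add, map_add, map_smul, map_smul, cv_pure, cv_pure, S.vv, S.vv', zero_smul, one_smul,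
      smul_zero, zero_add]
    exact ⟨rfl, rfl⟩
  have heM₀ : e' M₀ = M₀ + ((ζ - 1) * s) • vecMulVec p v := by
    have e1 : f1 c z = 0 := O.h1.symm0 hzc
    have e2 : f1 (s • p + c') z = 0 := O.h1.symm0 (by rw [O.h1.add_right, O.h1.smul_right]; exact hzc2)
    rw [left_apply O S he'X, hM₀c.1, hM₀c.2, LinearMap.comp_apply, LinearMap.comp_apply, hR, hR, e1, e2,
      mul_zero, zero_smul, add_zero, add_zero, Hm_perp O S 1 ζ hcp, one_smul, map_add, map_smul,
      Hm_self O S hb, Hm_perp O S 1 ζ hc'p, one_smul]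
    conv_rhs => arg 1; rw [dec O S M₀, hM₀c.1, hM₀c.2]
    rw [add_vecMulVec, add_vecMulVec, smul_vecMulVec, smul_vecMulVec, smul_vecMulVec]
    module
  have hM₁ : e' M₀ ∈ MM g v := by rw [heM₀]; exact (MM g v).add_mem hM₀mem ((MM g v).smul_mem _ hX₀)
  refine hcon (two_of_singular O S hg (mul_mem he' hg) (fun hE => ?_) (m := e' M₀)
    (Z := (ζ * s) • Z₀ + Z₁) (fun h => ?_) hM₁ (by rw [MM_mul]; exact ⟨M₀, hM₀mem, rfl⟩) ?_ ?_)
  · have hinv : ∀ X ∈ MM g v, e' X ∈ MM g v := fun X hX => by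
      rw [hE, MM_mul]; exact ⟨X, hX, rfl⟩
    have hkill : ∀ X ∈ MM g v, f1 (cv O v' X) z = 0 := fun X hX => by
      have h1 := hperp _ (hinv X hX)
      rw [left_apply O S he'X, (cv_pair O S _ _).1] at h1
      set a := cv O v X with ha
      have hap : f1 a p = 0 := hperp X hX
      have e1 : f1 (Hm O p 1 ζ (R a)) p = ζ * f1 (R a) p := by
        rw [Hm_apply O S, one_smul, O.h1.add_left, O.h1.smul_left]
        field_simp
        ring
      rw [LinearMap.comp_apply, e1, hR, O.h1.add_left, O.h1.smul_left, hap, zero_add] at h1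
      have haz : f1 a z = 0 := by
        have h2 := (mul_eq_zero.1 h1).resolve_left (left_ne_zero_of_mul_eq_one hζN)
        exact (mul_eq_zero.1 ((mul_eq_zero.1 h2).resolve_right hzp)).resolve_left hμ0
      set a' := cv O v' X with ha'
      have hd : vecMulVec (Hm O p 1 ζ (R a') - a') v ∈ MM g v := by
        have h2 := (MM g v).sub_mem (hinv X hX) hX
        convert h2 using 1
        rw [left_apply O S he'X, ← ha, ← ha', LinearMap.comp_apply, LinearMap.comp_apply, hR a, haz, mul_zero,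
          zero_smul, add_zero, Hm_perp O S 1 ζ hap, one_smul]
        conv_rhs => arg 2; rw [dec O S X, ← ha, ← ha']
        rw [sub_vmv]
        abel
      obtain ⟨k, hk⟩ := hline _ hd
      rw [Hm_apply O S, one_smul, hR a'] at hk
      by_contra hz'
      have hcoef : μ * f1 a' z ≠ 0 := mul_ne_zero hμ0 hz'
      set w := (ζ - 1) / f1 p p * f1 (a' + (μ * f1 a' z) • z) p
      refine hznp ((μ * f1 a' z)⁻¹ * (k - w)) ?_
      rw [mul_smul, sub_smul, ← hk, eq_inv_smul_iff₀ hcoef]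
      module
    have h3 := hkill _ hX₀
    rw [cv_pure, S.vv', one_smul] at h3
    exact hzp (O.h1.symm0 h3)
  · have h0 : M₀ = 0 := e'.map_eq_zero_iff.1 h
    have h1 := congrArg (cv O v) h0
    rw [hM₀c.1, map_zero] at h1
    exact hcn0 h1
  · rw [map_add, map_smul, hZ₀, hZ₁, heM₀, hM₀]
    module
  · rw [heM₀, hM₀]
    simp only [O.h.add_left, O.h.add_right, O.h.smul_left, O.h.smul_right, hcr, hcr', ← hQ₀d, map_mul,
      mul_zero, add_zero, zero_add]
    linear_combination hsQ + (s * σ s * Q₀) * hζN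

/-- An element outside the stabiliser gives an exit. -/
theorem plane_ex {g : MV ≃ₗ[F] MV} (hg : g ∈ G) (hnt : ¬ Tens g) : Ex O := by
  by_contra hex
  obtain ⟨g', hg', hne, X, hX, hXb, hX0⟩ := exists_meet O S hex hg hnt
  exact two_false O S hex (two_of_line O S hex hg' hne hX hXb hX0)

end

end CfsgLib.MaxSub.TensorHerm
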