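/-
Stabilisers of tensor decompositions of unitary spaces with two factors are maximal in the special
unitary group.
-/
import Cfsg.Agent.Lib.MaxSub.TensorHerm.Climb
import Cfsg.Agent.Lib.MaxSub.TensorHerm.Gen
import Cfsg.Agent.Lib.MaxSub.TensorHerm.PlaneLine
import Cfsg.Agent.Lib.MaxSub.TensorLin.Main
import Cfsg.Agent.Lib.MaxSub.SubspaceMaximalUnitary
import Cfsg.Agent.Lib.MaxSub.WreathUnitary.Circles
import Cfsg.Agent.Lib.Aschbacher.UnitaryProperGeneral

set_option autoImplicit false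
set_option maxHeartbeats 400000
set_option linter.unusedSectionVars false

namespace CfsgLib.MaxSub.TensorHerm

open Matrix Module
open CfsgLib.MaxSub.TensorLin (Col colMap colMap_apply mem_col vmv_eq_zero vmv_zero NP exists_dot_one
  exists_dot_pair flat mmap mmap_apply mmap_kron vm mvMap)
open scoped Kronecker

section

variable {F : Type*} [Field F] {ι κ : Type*} [Fintype ι] [Fintype κ] [DecidableEq ι] [DecidableEq κ]
variable {σ : F →+* F} {f1 : (ι → F) → (ι → F) → F} {f2 : (κ → F) → (κ → F) → F}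
  {f : Matrix ι κ F → Matrix ι κ F → F} {G : Subgroup (Matrix ι κ F ≃ₗ[F] Matrix ι κ F)}

local notation "MV" => Matrix ι κ F

/-- An element moving an isotropic pure member to a member that is not pure, or of pure type. -/
theorem exists_np (O : TU σ f1 f2 f G) (hk : Fintype.card κ ≠ 2) {g : MV ≃ₗ[F] MV} (hg : g ∈ G)
    (hnot : ¬ ∃ (A : Matrix ι ι F) (B : Matrix κ κ F), ∀ X, g X = A * X * B) :
    ∃ W, Mem f2 G W ∧ NP W := by
  by_contra hcon
  simp only [NP, not_exists, not_and, not_forall, not_not] at hcon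
  have hpure : ∀ x : κ → F, x ≠ 0 → f2 x x = 0 → ∃ v, (Col x).map g.toLinearMap = Col (ι := ι) v :=
    fun x hx hxx => hcon _ ⟨g, hg, x, hx, hxx, rfl⟩
  have := O.two
  obtain ⟨i₀⟩ : Nonempty ι := Fintype.card_pos_iff.1 (by omega)
  choose! v hv using hpure
  have hmem : ∀ x, x ≠ 0 → f2 x x = 0 → ∀ c, g (vecMulVec c x) ∈ Col (ι := ι) (v x) := fun x hx hxx c =>
    hv x hx hxx ▸ ⟨_, mem_col.2 ⟨c, rfl⟩, rfl⟩
  have hv0 : ∀ x, x ≠ 0 → f2 x x = 0 → v x ≠ 0 := fun x hx hxx h => by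
    obtain ⟨c, hc⟩ := mem_col.1 (hmem x hx hxx (Pi.single i₀ 1))
    rw [h, vmv_zero] at hc
    exact vmv_ne_zero (by simp) hx (g.map_eq_zero_iff.1 hc.symm)
  choose! ρ hρ using fun x (hx : v x ≠ 0) => exists_dot_one hx
  let ψ : (κ → F) → (ι → F) →ₗ[F] (ι → F) := fun x => mvMap (ρ x) ∘ₗ g.toLinearMap ∘ₗ colMap x
  have hψ : ∀ x, x ≠ 0 → f2 x x = 0 → ∀ c, g (vecMulVec c x) = vecMulVec (ψ x c) (v x) := fun x hx hxx c => by
    obtain ⟨c', hc'⟩ := mem_col.1 (hmem x hx hxx c)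
    show _ = vecMulVec (g (vecMulVec c x) *ᵥ ρ x) (v x)
    rw [← hc', vm, hρ x (hv0 x hx hxx), one_smul]
  have hinj : ∀ x, x ≠ 0 → f2 x x = 0 → ∀ c, ψ x c = 0 → c = 0 := fun x hx hxx c hc => by
    have := hψ x hx hxx c
    rw [hc, zero_vecMulVec, g.map_eq_zero_iff, vmv_eq_zero] at this
    exact this.resolve_right hx
  have hprop : ∀ x z, x ≠ 0 → f2 x x = 0 → f2 z z = 0 → f2 z x = 0 → z ∉ F ∙ x →
      ∃ t : F, ∀ c, ψ z c = t • ψ x c := by
    intro x z hx hxx hzz hzx hzn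
    have hz : z ≠ 0 := fun e => hzn (by rw [e]; exact zero_mem _)
    have hs0 : x + z ≠ 0 := fun e => hzn (by
      rw [eq_neg_of_add_eq_zero_right e]
      exact Submodule.neg_mem _ (Submodule.mem_span_singleton_self x))
    have hss : f2 (x + z) (x + z) = 0 := by
      simp [O.h2.add_left, O.h2.add_right, hxx, hzz, hzx, O.h2.symm0 hzx]
    have hsep : v z ∉ F ∙ v x := fun hm => by
      obtain ⟨s, hs⟩ := Submodule.mem_span_singleton.1 hm
      have h1 : g (vecMulVec (Pi.single i₀ 1) z) ∈ (Col x).map g.toLinearMap := by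
        rw [hv x hx hxx]
        exact mem_col.2 ⟨s • ψ z (Pi.single i₀ 1), by
          rw [hψ z hz hzz, ← hs, vmv_smul, smul_vecMulVec]⟩
      obtain ⟨Y, hY, hYe⟩ := h1
      obtain ⟨d, rfl⟩ := mem_col.1 hY
      have he : vecMulVec d x = vecMulVec (Pi.single i₀ 1 : ι → F) z := g.injective hYe
      refine hzn (Submodule.mem_span_singleton.2 ⟨d i₀, funext fun j => ?_⟩)
      have := congrFun (congrFun he i₀) j
      simpa [vecMulVec_apply] using this
    have hsep' : v x ∉ F ∙ v z := fun hm => hsep (by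
      obtain ⟨s, hs⟩ := Submodule.mem_span_singleton.1 hm
      exact Submodule.mem_span_singleton.2 ⟨s⁻¹, by
        rw [← hs, smul_smul, inv_mul_cancel₀ fun e : s = 0 => hv0 x hx hxx (by rw [← hs, e, zero_smul]),
          one_smul]⟩)
    obtain ⟨μ, hμ1, hμ2⟩ := exists_dot_pair hsep'
    obtain ⟨μ', hμ'1, hμ'2⟩ := exists_dot_pair hsep
    set v'' := v (x + z) with hv''
    have hd : ∀ c, vecMulVec (ψ (x + z) c) v''
        = vecMulVec (ψ x c) (v x) + vecMulVec (ψ z c) (v z) := fun c => by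
      rw [hv'', ← hψ _ hs0 hss, ← hψ x hx hxx, ← hψ z hz hzz, vecMulVec_add, map_add]
    have e1 : ∀ c, ψ x c = (v'' ⬝ᵥ μ) • ψ (x + z) c := fun c => by
      have := congrArg (fun X : MV => X *ᵥ μ) (hd c)
      simpa [add_mulVec, vm, hμ1, hμ2] using this.symm
    have e2 : ∀ c, ψ z c = (v'' ⬝ᵥ μ') • ψ (x + z) c := fun c => by
      have := congrArg (fun X : MV => X *ᵥ μ') (hd c)
      simpa [add_mulVec, vm, hμ'1, hμ'2] using this.symm
    have hne : v'' ⬝ᵥ μ ≠ 0 := fun h => by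
      have := hinj x hx hxx (Pi.single i₀ 1) (by rw [e1, h, zero_smul])
      simp at this
    exact ⟨(v'' ⬝ᵥ μ') * (v'' ⬝ᵥ μ)⁻¹, fun c => by
      rw [e1, e2, smul_smul, mul_assoc, inv_mul_cancel₀ hne, mul_one]⟩
  obtain ⟨x₀, hx₀, hx₀x₀⟩ := exists_iso_vec O
  have hall : ∀ y, y ≠ 0 → f2 y y = 0 → ∃ t : F, ∀ c, ψ y c = t • ψ x₀ c := by
    intro y hy hyy
    by_cases hd : f2 y x₀ ≠ 0 ∨ y ∈ F ∙ x₀
    · obtain ⟨z, hz, hzz, hzx, hzn, hyz, hyn⟩ := exists_between O hk hx₀ hx₀x₀ hy hd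
      obtain ⟨t, ht⟩ := hprop x₀ z hx₀ hx₀x₀ hzz hzx hzn
      obtain ⟨t', ht'⟩ := hprop z y hz hzz hyy hyz hyn
      exact ⟨t' * t, fun c => by rw [ht', ht, smul_smul]⟩
    · push Not at hd
      exact hprop x₀ y hx₀ hx₀x₀ hyy hd.1 hd.2
  obtain ⟨η, hη⟩ := exists_dot_one
    (show ψ x₀ (Pi.single i₀ 1) ≠ 0 from fun h => by simpa using hinj x₀ hx₀ hx₀x₀ _ h)
  let L : (κ → F) →ₗ[F] (κ → F) :=
    { toFun := fun z => η ᵥ* g (vecMulVec (Pi.single i₀ 1) z)
      map_add' := fun a b => by rw [vecMulVec_add, map_add, vecMul_add]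
      map_smul' := fun t a => by rw [vmv_smul, map_smul, vecMul_smul, RingHom.id_apply] }
  refine hnot ⟨LinearMap.toMatrix' (ψ x₀), (LinearMap.toMatrix' L)ᵀ, fun X => ?_⟩
  refine ext_pure (A := g.toLinearMap) (B :=
    { toFun := fun X => LinearMap.toMatrix' (ψ x₀) * X * (LinearMap.toMatrix' L)ᵀ
      map_add' := fun a b => by rw [Matrix.mul_add, Matrix.add_mul]
      map_smul' := fun t a => by rw [Matrix.mul_smul, Matrix.smul_mul, RingHom.id_apply] }) (fun c z => ?_) X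
  show g (vecMulVec c z) = LinearMap.toMatrix' (ψ x₀) * vecMulVec c z * (LinearMap.toMatrix' L)ᵀ
  rw [mul_vecMulVec, vecMulVec_mul, LinearMap.toMatrix'_mulVec, Matrix.vecMul_transpose,
    LinearMap.toMatrix'_mulVec]
  let φ : (κ → F) →ₗ[F] MV :=
    g.toLinearMap.comp
      ({ toFun := fun z => vecMulVec c z
         map_add' := fun a b => vecMulVec_add c a b
         map_smul' := fun t a => by rw [vmv_smul, RingHom.id_apply] } : (κ → F) →ₗ[F] MV) -
    { toFun := fun z => vecMulVec (ψ x₀ c) (L z)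
      map_add' := fun a b => by rw [map_add, vecMulVec_add]
      map_smul' := fun t a => by rw [map_smul, vmv_smul, RingHom.id_apply] }
  have hφ := O.h2.eq_zero_of_iso O.sg
    (by rw [Module.finrank_fintype_fun_eq_card]; exact O.two') φ fun y hyy => by
      rcases eq_or_ne y 0 with rfl | hy
      · exact map_zero φ
      obtain ⟨t, ht⟩ := hall y hy hyy
      show g (vecMulVec c y) - vecMulVec (ψ x₀ c) (η ᵥ* g (vecMulVec (Pi.single i₀ 1) y)) = 0
      rw [hψ y hy hyy, hψ y hy hyy, ht, ht, vecMul_vecMulVec, dotProduct_smul, dotProduct_comm, hη,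
        smul_vecMulVec, vmv_smul, smul_eq_mul, mul_one, sub_self]
  exact sub_eq_zero.1 (LinearMap.congr_fun hφ z)

end

/-- The displacement of a Siegel element. -/
def sieg {F : Type*} [Field F] {σ : F →+* F} {U : Type*} [AddCommGroup U] [Module F U] {h : U → U → F}
    (H : HForm σ h) (v w : U) (μ : F) : U →ₗ[F] U :=
  (H.lin v).smulRight w - (H.lin w).smulRight v + μ • (H.lin v).smulRight v

theorem sieg_apply {F : Type*} [Field F] {σ : F →+* F} {U : Type*} [AddCommGroup U] [Module F U]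
    {h : U → U → F} (H : HForm σ h) (v w : U) (μ : F) (x : U) :
    sieg H v w μ x = h x v • w - h x w • v + (μ * h x v) • v := by
  simp [sieg, HForm.lin_apply, smul_smul]

variable {F : Type*} [Field F] [Fintype F] {m : ℕ} {σ : F →+* F}

/-- The matrix of a Siegel element. -/
theorem sieg_matrix {h : (Fin m → F) → (Fin m → F) → F} (H : HForm σ h) {v w : Fin m → F} {μ : F}
    (hv : h v v = 0) (hw : h w v = 0) (hμ : μ + σ μ = -h w w) :
    ∃ A : Matrix (Fin m) (Fin m) F, A.det = 1 ∧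
      (∀ x, A *ᵥ x = x + h x v • w - h x w • v + (μ * h x v) • v) ∧
      ∀ x y, h (A *ᵥ x) (A *ᵥ y) = h x y := by
  set N := LinearMap.toMatrix' (sieg H v w μ) with hN
  have hNx : ∀ x, N *ᵥ x = sieg H v w μ x := fun x => by rw [hN, LinearMap.toMatrix'_mulVec]
  have happ : ∀ x, (1 + N) *ᵥ x = x + h x v • w - h x w • v + (μ * h x v) • v := fun x => by
    rw [add_mulVec, one_mulVec, hNx, sieg_apply]
    abel
  have hvw := H.symm0 hw
  refine ⟨1 + N, ?_, happ, fun x y => ?_⟩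
  · have h3 : N ^ 3 = 0 := Matrix.toLin'.injective (LinearMap.ext fun x => by
      rw [Matrix.toLin'_apply, pow_succ, pow_two, ← mulVec_mulVec, ← mulVec_mulVec, map_zero,
        LinearMap.zero_apply, hNx, hNx, hNx]
      have h1 : sieg H v w μ v = 0 := by simp [sieg_apply, hv, hvw]
      have h2 : sieg H v w μ w = -h w w • v := by simp [sieg_apply, hw]
      rw [sieg_apply H v w μ x, map_add, map_sub, map_smul, map_smul, map_smul, h1, h2, smul_zero,
        smul_zero, sub_zero, add_zero, map_smul, map_smul, h1, smul_zero, smul_zero])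
    obtain ⟨p, hp⟩ := CharP.exists F
    haveI := Fact.mk (CharP.char_is_prime F p)
    have hp2 := (Fact.out : p.Prime).two_le
    rcases Nat.eq_zero_or_pos m with rfl | hm
    · exact Matrix.det_fin_zero
    haveI : Nonempty (Fin m) := ⟨⟨0, hm⟩⟩
    haveI : CharP (Matrix (Fin m) (Fin m) F) p :=
      charP_of_injective_algebraMap (algebraMap F (Matrix (Fin m) (Fin m) F)).injective p
    have h4 : (1 + N) ^ p ^ 2 = 1 := by
      rw [add_pow_char_pow_of_commute (p := p) (h := Commute.one_left N), one_pow,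
        pow_eq_zero_of_le (show 3 ≤ p ^ 2 by nlinarith) h3, add_zero]
    have h5 := congrArg Matrix.det h4
    rw [Matrix.det_pow, Matrix.det_one] at h5
    exact iterateFrobenius_inj F p 2 (by simp [iterateFrobenius_def, h5])
  · rw [happ, happ]
    simp only [H.add_left, H.add_right, H.sub_left, H.sub_right, H.smul_left, H.smul_right, hv, hw, hvw,
      map_mul, mul_zero, add_zero, sub_zero, zero_add]
    rw [← H.herm y v, ← H.herm y w]
    linear_combination (h x v * h v y) * hμ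

variable {a b n q : ℕ}

open CfsgLib.UnitaryTransvection in
/-- The stabiliser of a tensor decomposition is maximal: a larger second factor, or three by two. -/
theorem tensor_maximal_aux (hF : Fintype.card F = q ^ 2) (h2 : 2 ≤ a) (h2b : 2 ≤ b)
    (hcase : (a < b ∧ 4 ≤ b ∧ ¬ (a = 2 ∧ q = 2)) ∨ (a = 3 ∧ b = 2 ∧ 3 ≤ q)) (e : Fin n ≃ Fin a × Fin b) (P : GL (Fin n) F)
    (f₁ : (Fin a → F) → (Fin a → F) → F) (f₂ : (Fin b → F) → (Fin b → F) → F)
    (hf₁ : Cfsg.Geo.IsUnitaryFormPow q f₁) (hf₂ : Cfsg.Geo.IsUnitaryFormPow q f₂)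
    (hT : Cfsg.Geo.IsTensorFormStructure (fun x : F => x ^ q) (Cfsg.hermForm n F q) f₁ f₂ e P) :
    Cfsg.Geo.IsMaximalIn (Cfsg.GU n F q ⊓ Cfsg.Geo.specialLinear (Fin n) F)
      (Cfsg.Geo.tensorProductSubgroup a b e P ⊓ (Cfsg.GU n F q ⊓ Cfsg.Geo.specialLinear (Fin n) F)) := by
  have hn : a * b = n := by
    simpa [Fintype.card_prod] using (Fintype.card_congr e).symm
  have hn4 : 4 ≤ n := by nlinarith
  refine ⟨lt_of_le_of_ne inf_le_right fun h => ?_, fun K hK hKG => ?_⟩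
  · exact CfsgLib.Aschbacher.not_SU_le_tensor hF (by omega) h2 (by omega) e P
      (le_trans (le_of_eq h.symm) inf_le_left)
  by_cases hin : K ≤ Cfsg.Geo.tensorProductSubgroup a b e P
  · exact Or.inl (le_antisymm (le_inf hin hKG) hK)
  refine Or.inr (le_antisymm hKG ?_)
  rw [Cfsg.Geo.tensorProductSubgroup, CfsgLib.Aschbacher.map_glReindex_conj] at hK hin
  set s : F →+* F := frob hF with hs
  have hss : ∀ x : F, x ^ q = s x := fun x => (frob_apply hF x).symm
  have S : Sig s :=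
    { invol := frob_frob hF
      moved := by
        by_contra hc
        push Not at hc
        exact frob_ne_id hF (RingHom.ext hc)
      norm := fun c hc => exists_norm_eq hF hc
      trace := fun c hc => by
        obtain ⟨k, hk⟩ := WittExtension.exists_trace (frob_ne_id hF) (frob_frob hF) hc
        exact ⟨k, by rw [add_comm]; exact hk⟩
      skew := exists_skew hF }
  have mkH : ∀ {m : ℕ} {h : (Fin m → F) → (Fin m → F) → F}, Cfsg.Geo.IsUnitaryFormPow q h →
      HForm s h := fun {m h} hh =>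
    { add_left := hh.add_left
      smul_left := hh.smul_left
      herm := fun x y => by rw [hh.herm y x, hss]
      nondeg := fun x hx => by
        by_contra hc
        obtain ⟨y, hy⟩ := (hh.nondegenerate x hc).2
        exact hy (hx y) }
  have H1 := mkH hf₁
  have H2 := mkH hf₂
  obtain ⟨c, hc0, hcT⟩ := hT
  let Φ : Matrix (Fin a) (Fin b) F → (Fin n → F) := fun X => (P : Matrix (Fin n) (Fin n) F) *ᵥ (flat X ∘ e)
  let f : Matrix (Fin a) (Fin b) F → Matrix (Fin a) (Fin b) F → F :=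
    fun X Y => c⁻¹ * Cfsg.hermForm n F q (Φ X) (Φ Y)
  have hcf : ∀ X Y, Cfsg.hermForm n F q (Φ X) (Φ Y) = c * f X Y := fun X Y => by
    show _ = c * (c⁻¹ * _)
    rw [mul_inv_cancel_left₀ hc0]
  have hgram : ∀ {m : ℕ} {h : (Fin m → F) → (Fin m → F) → F}, HForm s h → ∀ u v,
      h u v = ∑ i, ∑ j, u i * Cfsg.Geo.gramMatrix h i j * s (v j) := fun {m h} H u v => by
    conv_lhs => rw [pi_eq_sum_univ' u, pi_eq_sum_univ' v, H.sum_left]
    refine Finset.sum_congr rfl fun i _ => ?_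
    rw [H.smul_left, H.sum_right, Finset.mul_sum]
    refine Finset.sum_congr rfl fun j _ => ?_
    rw [H.smul_right, mul_comm (s (v j)), ← mul_assoc]
    rfl
  have hfp : ∀ c' d v w, f (vecMulVec c' v) (vecMulVec d w) = f₁ c' d * f₂ v w := fun c' d v w => by
    have h := hcT (flat (vecMulVec c' v)) (flat (vecMulVec d w))
    show c⁻¹ * _ = _
    rw [h, inv_mul_cancel_left₀ hc0, hgram H1, hgram H2, Cfsg.Geo.formOfGram, Fintype.sum_prod_type,
      Finset.sum_mul_sum]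
    refine Finset.sum_congr rfl fun i _ => Finset.sum_congr rfl fun k _ => ?_
    rw [Fintype.sum_prod_type, Finset.sum_mul_sum]
    refine Finset.sum_congr rfl fun j _ => Finset.sum_congr rfl fun l _ => ?_
    show c' i * v k * (Cfsg.Geo.gramMatrix f₁ i j * Cfsg.Geo.gramMatrix f₂ k l) * (d j * w l) ^ q = _
    rw [hss, map_mul]
    ring
  have hΦsurj : Function.Surjective Φ := fun u =>
    ⟨flat.symm ((((P⁻¹ : GL (Fin n) F) : Matrix (Fin n) (Fin n) F) *ᵥ u) ∘ e.symm), by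
      show _ *ᵥ (flat (flat.symm _) ∘ e) = u
      rw [LinearEquiv.apply_symm_apply, Function.comp_assoc, Equiv.symm_comp_self, Function.comp_id,
        mulVec_mulVec, Units.mul_inv, one_mulVec]⟩
  have hΦadd : ∀ X Y, Φ (X + Y) = Φ X + Φ Y := fun X Y => by
    show _ *ᵥ (flat (X + Y) ∘ e) = _
    rw [map_add, Pi.add_comp, mulVec_add]
  have hΦsmul : ∀ (t : F) X, Φ (t • X) = t • Φ X := fun t X => by
    show _ *ᵥ (flat (t • X) ∘ e) = _
    rw [map_smul, Pi.smul_comp, mulVec_smul]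
  have hΦinj : ∀ X, Φ X = 0 → X = 0 := fun X hX => by
    have h1 := congrArg (((P⁻¹ : GL (Fin n) F) : Matrix (Fin n) (Fin n) F) *ᵥ ·) hX
    simp only [Φ, mulVec_mulVec, Units.inv_mul, one_mulVec, mulVec_zero] at h1
    refine flat.map_eq_zero_iff.1 (funext fun p => ?_)
    simpa using congrFun h1 (e.symm p)
  have hfix : s c = c := by
    obtain ⟨u, hu⟩ : ∃ u : Fin a → F, u ≠ 0 := ⟨Pi.single ⟨0, by omega⟩ 1, by simp⟩
    obtain ⟨w, hw⟩ : ∃ w : Fin b → F, w ≠ 0 := ⟨Pi.single ⟨0, by omega⟩ 1, by simp⟩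
    obtain ⟨u', hu'⟩ := H1.exists_left hu
    obtain ⟨w', hw'⟩ := H2.exists_left hw
    have hA := hcf (vecMulVec u' w') (vecMulVec u w)
    have hB := hcf (vecMulVec u w) (vecMulVec u' w')
    rw [hfp, hu', hw', mul_one, mul_one] at hA
    rw [hfp, H1.herm u' u, H2.herm w' w, hu', hw', map_one, mul_one, mul_one] at hB
    rw [hs, ← hA, h_swap hF, hB, hA]
  have Hf : HForm s f :=
    { add_left := fun X Y Z => by
        show c⁻¹ * _ = c⁻¹ * _ + c⁻¹ * _
        rw [hΦadd, h_add_left, mul_add]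
      smul_left := fun t X Z => by
        show c⁻¹ * _ = t * (c⁻¹ * _)
        rw [hΦsmul, h_smul_left]
        ring
      herm := fun X Y => by
        show c⁻¹ * _ = s (c⁻¹ * _)
        rw [map_mul, map_inv₀, hfix, hs, h_swap hF]
      nondeg := fun X hX => hΦinj X (h_nondeg hF fun u => by
        obtain ⟨Y, rfl⟩ := hΦsurj u
        rw [hcf, hX, mul_zero]) }
  -- the group
  let KK := K.comap (CfsgLib.Aschbacher.frU e P).toMonoidHom
  have hact : ∀ (M : GL (Fin a × Fin b) F) X,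
      ((CfsgLib.Aschbacher.frU e P M : GL (Fin n) F) : Matrix (Fin n) (Fin n) F) *ᵥ Φ X
        = Φ (mmap M X) := fun M X => by
    rw [CfsgLib.Aschbacher.frU_val, CfsgLib.Aschbacher.frAlg_apply]
    show _ *ᵥ (_ *ᵥ _) = _ *ᵥ _
    rw [mulVec_mulVec, mul_assoc, Units.inv_mul, mul_one, ← mulVec_mulVec, submatrix_mulVec_equiv,
      Function.comp_assoc, Equiv.self_comp_symm, Function.comp_id, mmap_apply, LinearEquiv.apply_symm_apply]
  have hmemK : ∀ (A : Matrix (Fin a) (Fin a) F) (B : Matrix (Fin b) (Fin b) F), A.det = 1 → B.det = 1 →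
      (∀ x y, f₁ (A *ᵥ x) (A *ᵥ y) = f₁ x y) → (∀ x y, f₂ (B *ᵥ x) (B *ᵥ y) = f₂ x y) →
      ∃ g ∈ KK.map mmap, ∀ X, g X = A * X * Bᵀ := by
    intro A B hA hB hAi hBi
    obtain ⟨M, hM⟩ : ∃ M : GL (Fin a × Fin b) F,
        (M : Matrix (Fin a × Fin b) (Fin a × Fin b) F) = A ⊗ₖ B :=
      ⟨((Matrix.isUnit_iff_isUnit_det (A ⊗ₖ B)).2 (by rw [Matrix.det_kronecker, hA, hB]; simp)).unit, rfl⟩
    have hp : ∀ c' x, mmap M (vecMulVec c' x) = vecMulVec (A *ᵥ c') (B *ᵥ x) := fun c' x => by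
      rw [mmap_kron hM, mul_vecMulVec, vecMulVec_mul, vecMul_transpose]
    have hiso : ∀ X Y, f (mmap M X) (mmap M Y) = f X Y := fun X Y => by
      refine ext_pure (A := (Hf.lin (mmap M Y)).comp (mmap M).toLinearMap) (B := Hf.lin Y)
        (fun c' x => ?_) X
      show f (mmap M (vecMulVec c' x)) (mmap M Y) = f (vecMulVec c' x) Y
      rw [Hf.herm, Hf.herm Y]
      refine congrArg s (ext_pure (A := (Hf.lin (mmap M (vecMulVec c' x))).comp (mmap M).toLinearMap)
        (B := Hf.lin (vecMulVec c' x)) (fun d y => ?_) Y)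
      show f (mmap M (vecMulVec d y)) (mmap M (vecMulVec c' x)) = f (vecMulVec d y) (vecMulVec c' x)
      rw [hp, hp, hfp, hfp, hAi, hBi]
    refine ⟨_, ⟨M, hK ⟨⟨M, ⟨((Matrix.isUnit_iff_isUnit_det A).2 (by rw [hA]; exact isUnit_one)).unit,
      ((Matrix.isUnit_iff_isUnit_det B).2 (by rw [hB]; exact isUnit_one)).unit, hM⟩, rfl⟩,
      fun u v => ?_, MonoidHom.mem_ker.2 (Units.ext ?_)⟩, rfl⟩, mmap_kron hM⟩
    · obtain ⟨X, rfl⟩ := hΦsurj u
      obtain ⟨Y, rfl⟩ := hΦsurj v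
      show Cfsg.hermForm n F q (_ *ᵥ Φ X) (_ *ᵥ Φ Y) = _
      erw [hact, hact]
      rw [hcf, hcf, hiso]
    · show ((CfsgLib.Aschbacher.frU e P M : GL (Fin n) F) : Matrix (Fin n) (Fin n) F).det = 1
      rw [CfsgLib.Aschbacher.frU_val, CfsgLib.Aschbacher.frAlg_apply, Matrix.det_units_conj,
        Matrix.det_submatrix_equiv_self, hM, Matrix.det_kronecker, hA, hB, one_pow, one_pow, one_mul]
  have hsmall : a ≠ 2 ∨ ∃ t : F, s t = t ∧ t ≠ 0 ∧ t ≠ 1 := by
    by_cases ha : a = 2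
    · have hq : q ≠ 2 := fun h => by rcases hcase with ⟨-, -, hex⟩ | ⟨h3, -, -⟩ <;> [exact hex ⟨ha, h⟩; omega]
      exact Or.inr (CfsgLib.MaxSub.WreathUnitary.exists_fix_ne hF
        (by have := (UnitaryBasic.frob_exists hF).1; omega))
    · exact Or.inl ha
  have O : TU s f₁ f₂ f (KK.map mmap) :=
    { sg := S
      h1 := H1
      h2 := H2
      h := Hf
      f_pure := hfp
      isom := by
        rintro _ ⟨M, hM, rfl⟩ X Y
        have h : Cfsg.hermForm n F q
            (((CfsgLib.Aschbacher.frU e P M : GL (Fin n) F) : Matrix (Fin n) (Fin n) F) *ᵥ Φ X)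
            (((CfsgLib.Aschbacher.frU e P M : GL (Fin n) F) : Matrix (Fin n) (Fin n) F) *ᵥ Φ Y)
              = Cfsg.hermForm n F q (Φ X) (Φ Y) := (hKG hM).1 (Φ X) (Φ Y)
        rw [hact, hact, hcf, hcf] at h
        exact mul_left_cancel₀ hc0 h
      eichR := fun v w μ hv hw hμ => by
        obtain ⟨B, hB, hBx, hBi⟩ := sieg_matrix H2 hv hw hμ
        obtain ⟨g, hg, hgX⟩ := hmemK 1 B det_one hB (fun x y => by rw [one_mulVec, one_mulVec]) hBi
        exact ⟨g, hg, fun c' x => by rw [hgX, Matrix.one_mul, vecMulVec_mul, vecMul_transpose, hBx]⟩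
      eichL := fun v w μ hv hw hμ => by
        obtain ⟨A, hA, hAx, hAi⟩ := sieg_matrix H1 hv hw hμ
        obtain ⟨g, hg, hgX⟩ := hmemK A 1 hA det_one hAi (fun x y => by rw [one_mulVec, one_mulVec])
        exact ⟨g, hg, fun c' x => by rw [hgX, transpose_one, Matrix.mul_one, mul_vecMulVec, hAx]⟩
      two := by rwa [Fintype.card_fin]
      two' := by rw [Fintype.card_fin]; omega
      lt := fun h => by rw [Fintype.card_fin] at h; rw [Fintype.card_fin, Fintype.card_fin]; omega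
      five := fun h => by rw [Fintype.card_fin] at h; rw [Fintype.card_fin]; omega
      three := fun h => by rw [Fintype.card_fin] at h; rw [Fintype.card_fin]; omega
      small := by rwa [Fintype.card_fin] }
  obtain ⟨g₀, hg₀, hg₀n⟩ := SetLike.not_le_iff_exists.1 hin
  obtain ⟨M₀, rfl⟩ := (CfsgLib.Aschbacher.frU e P).surjective g₀
  have hnform : ¬ ∃ (Ψ : Matrix (Fin a) (Fin a) F) (Q : Matrix (Fin b) (Fin b) F),
      ∀ X, mmap M₀ X = Ψ * X * Q := by
    rintro ⟨Ψ, Q, hform⟩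
    have hMk : (M₀ : Matrix (Fin a × Fin b) (Fin a × Fin b) F) = Ψ ⊗ₖ Qᵀ := by
      refine Matrix.toLin'.injective (LinearMap.ext fun x => ?_)
      have h := hform (flat.symm x)
      rw [mmap_apply, LinearEquiv.apply_symm_apply] at h
      rw [Matrix.toLin'_apply, Matrix.toLin'_apply, ← LinearEquiv.apply_symm_apply flat (_ *ᵥ x), h]
      funext ⟨i, j⟩
      show (Ψ * flat.symm x * Q) i j = ((Ψ ⊗ₖ Qᵀ) *ᵥ x) (i, j)
      simp only [Matrix.mulVec, dotProduct, Fintype.sum_prod_type, Matrix.mul_apply,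
        Matrix.kroneckerMap_apply, Matrix.transpose_apply, Finset.sum_mul]
      rw [Finset.sum_comm]
      refine Finset.sum_congr rfl fun k _ => Finset.sum_congr rfl fun l _ => ?_
      show Ψ i k * x (k, l) * Q l j = Ψ i k * Q l j * x (k, l)
      ring
    have hdet : IsUnit (Ψ ⊗ₖ Qᵀ).det := hMk ▸ (Matrix.isUnit_iff_isUnit_det _).1 M₀.isUnit
    rw [Matrix.det_kronecker, IsUnit.mul_iff, Fintype.card_fin, Fintype.card_fin,
      isUnit_pow_iff (by omega), isUnit_pow_iff (by omega)] at hdet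
    exact hg₀n ⟨M₀, ⟨((Matrix.isUnit_iff_isUnit_det Ψ).2 hdet.1).unit,
      ((Matrix.isUnit_iff_isUnit_det Qᵀ).2 hdet.2).unit, hMk⟩, rfl⟩
  have hg : mmap M₀ ∈ KK.map mmap := Subgroup.mem_map_of_mem _ (show M₀ ∈ KK from hg₀)
  have hEx : Ex O := by
    rcases hcase with ⟨hab, h5, -⟩ | ⟨ha3, hb2, hq3⟩
    · obtain ⟨W, hW, hnp⟩ := exists_np O (by rw [Fintype.card_fin]; omega) hg hnform
      exact ex_of_np O (by rw [Fintype.card_fin]; omega) hW hnp
    obtain ⟨v, hv, hvv⟩ := exists_iso_vec O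
    obtain ⟨v', hv'v', hv'v, hvv'⟩ := H2.exists_partner S hv hvv
    obtain ⟨τ, hτ, hτ0, hτ1⟩ := CfsgLib.MaxSub.WreathUnitary.exists_fix_ne hF hq3
    have PP : PS s f₁ f₂ (KK.map mmap) v v' τ :=
      { hk := by rw [Fintype.card_fin, hb2]
        hι := by rw [Fintype.card_fin, ha3]
        v0 := hv
        vv := hvv
        v'v' := hv'v'
        v'v := hv'v
        vv' := hvv'
        τfix := hτ
        τ0 := hτ0
        τ1 := hτ1
        left := fun A hA hAi => by
          obtain ⟨g, hg, hgX⟩ := hmemK (LinearMap.toMatrix' A) 1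
            (by rw [LinearMap.det_toMatrix', hA]) det_one
            (fun x y => by rw [LinearMap.toMatrix'_mulVec, LinearMap.toMatrix'_mulVec, hAi])
            (fun x y => by rw [one_mulVec, one_mulVec])
          exact ⟨g, hg, fun c x => by
            rw [hgX, transpose_one, Matrix.mul_one, mul_vecMulVec, LinearMap.toMatrix'_mulVec]⟩ }
    refine plane_ex O PP hg ?_
    rintro ⟨φ, L, hφL⟩
    obtain ⟨c₀, hc₀⟩ : ∃ c₀ : Fin a → F, c₀ ≠ 0 := ⟨Pi.single ⟨0, by omega⟩ 1, by simp⟩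
    have hφ0 : φ c₀ ≠ 0 := fun h => vmv_ne_zero hc₀ hv ((mmap M₀).map_eq_zero_iff.1 (by
      rw [hφL, h, zero_vecMulVec]))
    have hL0 : L v ≠ 0 := fun h => vmv_ne_zero hc₀ hv ((mmap M₀).map_eq_zero_iff.1 (by
      rw [hφL, h, vmv_zero]))
    obtain ⟨η, hη⟩ := exists_dot_one hφ0
    obtain ⟨ρ, hρ⟩ := exists_dot_one hL0
    have hvmη : ∀ x : Fin b → F, η ᵥ* vecMulVec (φ c₀) x = x := fun x => by
      rw [vecMul_vecMulVec, dotProduct_comm, hη, one_smul]
    let Lm : (Fin b → F) →ₗ[F] (Fin b → F) :=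
      { toFun := fun x => η ᵥ* mmap M₀ (vecMulVec c₀ x)
        map_add' := fun x y => by rw [vecMulVec_add, map_add, vecMul_add]
        map_smul' := fun t x => by rw [vmv_smul, map_smul, vecMul_smul, RingHom.id_apply] }
    let φm : (Fin a → F) →ₗ[F] (Fin a → F) := mvMap ρ ∘ₗ (mmap M₀).toLinearMap ∘ₗ colMap v
    refine hnform ⟨LinearMap.toMatrix' φm, (LinearMap.toMatrix' Lm)ᵀ, fun X => ?_⟩
    refine ext_pure (A := (mmap M₀).toLinearMap) (B :=
      { toFun := fun X => LinearMap.toMatrix' φm * X * (LinearMap.toMatrix' Lm)ᵀ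
        map_add' := fun a b => by rw [Matrix.mul_add, Matrix.add_mul]
        map_smul' := fun t a => by rw [Matrix.mul_smul, Matrix.smul_mul, RingHom.id_apply] }) (fun c z => ?_) X
    show mmap M₀ (vecMulVec c z) = LinearMap.toMatrix' φm * vecMulVec c z * (LinearMap.toMatrix' Lm)ᵀ
    rw [mul_vecMulVec, vecMulVec_mul, LinearMap.toMatrix'_mulVec, Matrix.vecMul_transpose,
      LinearMap.toMatrix'_mulVec]
    show mmap M₀ (vecMulVec c z) = vecMulVec (mmap M₀ (vecMulVec c v) *ᵥ ρ) (η ᵥ* mmap M₀ (vecMulVec c₀ z))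
    rw [hφL, hφL c v, hφL c₀ z, hvmη, vm, hρ, one_smul]
  refine CfsgLib.MaxSub.SU_le_of_ctr (hF := hF) hn4 fun v hv g l hl hg => ?_
  obtain ⟨Y, rfl⟩ := hΦsurj v
  rw [hcf] at hv
  obtain ⟨g', ⟨M, hM, rfl⟩, hgX⟩ := ctr_all O hEx ((mul_eq_zero.1 hv).resolve_left hc0) (l * c)
    (by rw [map_mul, hfix]; linear_combination c * hl)
  suffices g = CfsgLib.Aschbacher.frU e P M by rw [this]; exact hM
  refine Units.ext (Matrix.toLin'.injective (LinearMap.ext fun u => ?_))
  obtain ⟨X, rfl⟩ := hΦsurj u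
  rw [Matrix.toLin'_apply, Matrix.toLin'_apply, hact, hgX, hg, tmat_mulVec, hΦadd, hΦsmul, hcf,
    mul_assoc]

/-- The stabiliser of a tensor decomposition is maximal. -/
theorem tensor_maximal (hF : Fintype.card F = q ^ 2) (h2 : 2 ≤ a) (hab : a < b) (h5 : 4 ≤ b)
    (hex : ¬ (a = 2 ∧ q = 2)) (e : Fin n ≃ Fin a × Fin b) (P : GL (Fin n) F)
    (f₁ : (Fin a → F) → (Fin a → F) → F) (f₂ : (Fin b → F) → (Fin b → F) → F)
    (hf₁ : Cfsg.Geo.IsUnitaryFormPow q f₁) (hf₂ : Cfsg.Geo.IsUnitaryFormPow q f₂)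
    (hT : Cfsg.Geo.IsTensorFormStructure (fun x : F => x ^ q) (Cfsg.hermForm n F q) f₁ f₂ e P) :
    Cfsg.Geo.IsMaximalIn (Cfsg.GU n F q ⊓ Cfsg.Geo.specialLinear (Fin n) F)
      (Cfsg.Geo.tensorProductSubgroup a b e P ⊓ (Cfsg.GU n F q ⊓ Cfsg.Geo.specialLinear (Fin n) F)) :=
  tensor_maximal_aux hF h2 (le_trans h2 hab.le) (Or.inl ⟨hab, h5, hex⟩) e P f₁ f₂ hf₁ hf₂ hT

theorem tensorProductSubgroup_swap_le (e : Fin n ≃ Fin a × Fin b) (P : GL (Fin n) F) :
    Cfsg.Geo.tensorProductSubgroup a b e P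
      ≤ Cfsg.Geo.tensorProductSubgroup b a (e.trans (Equiv.prodComm _ _)) P := by
  rw [Cfsg.Geo.tensorProductSubgroup, Cfsg.Geo.tensorProductSubgroup, CfsgLib.Aschbacher.map_glReindex_conj,
    CfsgLib.Aschbacher.map_glReindex_conj]
  rintro _ ⟨g, ⟨A, B, hg⟩, rfl⟩
  refine ⟨Cfsg.Geo.glReindex (Equiv.prodComm (Fin a) (Fin b)) g, ⟨B, A, ?_⟩, ?_⟩
  · ext ⟨i, k⟩ ⟨j, l⟩
    show (g : Matrix (Fin a × Fin b) (Fin a × Fin b) F) (k, i) (l, j) = _
    rw [hg, Matrix.kroneckerMap_apply, Matrix.kroneckerMap_apply, mul_comm]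
  · refine Units.ext ?_
    show ((CfsgLib.Aschbacher.frU _ P _ : GL (Fin n) F) : Matrix (Fin n) (Fin n) F) =
      ((CfsgLib.Aschbacher.frU e P g : GL (Fin n) F) : Matrix (Fin n) (Fin n) F)
    rw [CfsgLib.Aschbacher.frU_val, CfsgLib.Aschbacher.frU_val, CfsgLib.Aschbacher.frAlg_apply,
      CfsgLib.Aschbacher.frAlg_apply]
    rfl

theorem tensorProductSubgroup_swap (e : Fin n ≃ Fin a × Fin b) (P : GL (Fin n) F) :
    Cfsg.Geo.tensorProductSubgroup a b e P
      = Cfsg.Geo.tensorProductSubgroup b a (e.trans (Equiv.prodComm _ _)) P := by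
  refine le_antisymm (tensorProductSubgroup_swap_le e P) ?_
  have h := tensorProductSubgroup_swap_le (e.trans (Equiv.prodComm (Fin a) (Fin b))) P
  exact h

/-- The stabiliser of a tensor decomposition with a two and a three dimensional factor is maximal. -/
theorem tensor_maximal_two_three (hF : Fintype.card F = q ^ 2) (hq : 3 ≤ q) (e : Fin n ≃ Fin 2 × Fin 3)
    (P : GL (Fin n) F) (f₁ : (Fin 2 → F) → (Fin 2 → F) → F) (f₂ : (Fin 3 → F) → (Fin 3 → F) → F)
    (hf₁ : Cfsg.Geo.IsUnitaryFormPow q f₁) (hf₂ : Cfsg.Geo.IsUnitaryFormPow q f₂)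
    (hT : Cfsg.Geo.IsTensorFormStructure (fun x : F => x ^ q) (Cfsg.hermForm n F q) f₁ f₂ e P) :
    Cfsg.Geo.IsMaximalIn (Cfsg.GU n F q ⊓ Cfsg.Geo.specialLinear (Fin n) F)
      (Cfsg.Geo.tensorProductSubgroup 2 3 e P ⊓ (Cfsg.GU n F q ⊓ Cfsg.Geo.specialLinear (Fin n) F)) := by
  rw [tensorProductSubgroup_swap e P]
  refine tensor_maximal_aux hF (by norm_num) le_rfl (Or.inr ⟨rfl, rfl, hq⟩) _ P f₂ f₁ hf₂ hf₁ ?_
  obtain ⟨c, hc, hcT⟩ := hT
  refine ⟨c, hc, fun x y => ?_⟩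
  have h := hcT (x ∘ Equiv.prodComm _ _) (y ∘ Equiv.prodComm _ _)
  refine h.trans ?_
  congr 1
  rw [Cfsg.Geo.formOfGram, Cfsg.Geo.formOfGram]
  refine Fintype.sum_equiv (Equiv.prodComm _ _) _ _ fun i => Fintype.sum_equiv (Equiv.prodComm _ _) _ _
    fun j => ?_
  simp only [Function.comp_apply, Matrix.kroneckerMap_apply, Equiv.prodComm_apply, Prod.fst_swap,
    Prod.snd_swap]
  ring

end CfsgLib.MaxSub.TensorHerm
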